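import Mathlib

/-!
# Sylow 2-subgroups: small tools

* `syl_conj` : a 2-subgroup of `H ≥ T` is conjugate into the Sylow subgroup `T` by an element of `H`;
* `ext` : extending a 2-group by two elements of order at most 2 commuting modulo it;
* `transfer_eq` : the transfer of an element whose powers have conjugates with prescribed image;
* `wcf` : fusion of elements centralizing a weakly closed set is controlled by the normalizer of the set.
-/

set_option autoImplicit false

namespace Cfsg.Agent.H297.Tools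

open Subgroup

variable {G : Type*} [Group G]

/-- A 2-subgroup of `H ≥ T` is conjugate into the Sylow subgroup `T` by an element of `H`. -/
theorem syl_conj [Finite G] (T : Sylow 2 G) {H U : Subgroup G} (hTH : (T : Subgroup G) ≤ H)
    (hU : IsPGroup 2 U) (hUH : U ≤ H) : ∃ h ∈ H, ∀ u ∈ U, h * u * h⁻¹ ∈ T := by
  have hp : Fact (Nat.Prime 2) := ⟨Nat.prime_two⟩
  have h1 : IsPGroup 2 ↥(U.subgroupOf H) := hU.comap_subtype
  obtain ⟨P, hP⟩ := h1.exists_le_sylow
  obtain ⟨g, hg⟩ := MulAction.exists_smul_eq (↥H) P (T.subtype hTH)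
  refine ⟨g, g.2, fun u hu => ?_⟩
  have h2 : (⟨u, hUH hu⟩ : ↥H) ∈ (P : Subgroup ↥H) := hP (mem_subgroupOf.2 hu)
  have h3 : g * ⟨u, hUH hu⟩ * g⁻¹ ∈ (T.subtype hTH : Subgroup ↥H) := by
    rw [← hg, Sylow.coe_subgroup_smul, mem_pointwise_smul_iff_inv_smul_mem, MulAut.smul_def]
    have : (MulAut.conj g)⁻¹ (g * ⟨u, hUH hu⟩ * g⁻¹) = ⟨u, hUH hu⟩ := by
      rw [← map_inv, MulAut.conj_apply]
      group
    rw [this]
    exact h2
  exact h3

theorem zpowers_two {w : G} {N : Subgroup G} (hN : IsPGroup 2 N) (h : w * w ∈ N) :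
    IsPGroup 2 (zpowers w) := by
  have hp : Fact (Nat.Prime 2) := ⟨Nat.prime_two⟩
  obtain ⟨k, hk⟩ := hN ⟨w * w, h⟩
  have hk' : (w * w) ^ 2 ^ k = 1 := congrArg Subtype.val hk
  rintro ⟨x, m, rfl⟩
  refine ⟨k + 1, Subtype.ext ?_⟩
  show (w ^ m) ^ 2 ^ (k + 1) = 1
  have h1 : w ^ 2 ^ (k + 1) = 1 := by rw [pow_succ, mul_comm (2 ^ k) 2, pow_mul, pow_two, hk']
  rw [← zpow_natCast, ← zpow_mul, mul_comm m, zpow_mul, zpow_natCast, h1, one_zpow]

/-- Extending a 2-group by two elements. -/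
theorem ext [Finite G] {N : Subgroup G} (hN : IsPGroup 2 N) {w w' : G}
    (hw : w ∈ normalizer (N : Set G)) (hw' : w' ∈ normalizer (N : Set G))
    (hww : w * w ∈ N) (hww' : w' * w' ∈ N) (hc : w' * w * w'⁻¹ * w⁻¹ ∈ N) :
    ∃ U : Subgroup G, IsPGroup 2 U ∧ N ≤ U ∧ w ∈ U ∧ w' ∈ U ∧
      ∀ H : Subgroup G, N ≤ H → w ∈ H → w' ∈ H → U ≤ H := by
  have h1 : IsPGroup 2 ↥(zpowers w ⊔ N) :=
    (zpowers_two hN hww).to_sup_of_normal_right' hN ((zpowers_le).2 hw)
  have h2 : w' ∈ normalizer ((zpowers w ⊔ N : Subgroup G) : Set G) := by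
    have key : ∀ x ∈ zpowers w ⊔ N, w' * x * w'⁻¹ ∈ zpowers w ⊔ N := by
      have : zpowers w ⊔ N ≤ (zpowers w ⊔ N).comap (MulAut.conj w').toMonoidHom := by
        refine sup_le (zpowers_le.2 ?_) ?_
        · rw [mem_comap]
          show w' * w * w'⁻¹ ∈ _
          have : w' * w * w'⁻¹ = (w' * w * w'⁻¹ * w⁻¹) * w := by group
          rw [this]
          exact mul_mem (mem_sup_right hc) (mem_sup_left (mem_zpowers w))
        · intro n hn
          rw [mem_comap]
          exact mem_sup_right ((mem_normalizer_iff.1 hw' n).1 hn)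
      intro x hx
      exact this hx
    have h3 : (zpowers w ⊔ N).map (MulAut.conj w').toMonoidHom = zpowers w ⊔ N := by
      have : (zpowers w ⊔ N).map (MulAut.conj w').toMonoidHom ≤ zpowers w ⊔ N := by
        rintro _ ⟨x, hx, rfl⟩
        exact key x hx
      refine eq_of_le_of_card_ge this ?_
      rw [← Nat.card_congr ((zpowers w ⊔ N).equivMapOfInjective (MulAut.conj w').toMonoidHom
        (MulAut.conj w').injective).toEquiv]
    rw [mem_normalizer_iff]
    intro x
    refine ⟨key x, fun hx => ?_⟩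
    rw [← h3] at hx
    obtain ⟨y, hy, hyx⟩ := hx
    have : y = x := (MulAut.conj w').injective hyx
    rw [← this]
    exact hy
  have h3 : IsPGroup 2 ↥(zpowers w' ⊔ (zpowers w ⊔ N)) :=
    (zpowers_two hN hww').to_sup_of_normal_right' h1 ((zpowers_le).2 h2)
  exact ⟨_, h3, le_sup_of_le_right le_sup_right, mem_sup_right (mem_sup_left (mem_zpowers w)),
    mem_sup_left (mem_zpowers w'), fun H h4 h5 h6 => sup_le (zpowers_le.2 h6) (sup_le (zpowers_le.2 h5) h4)⟩

/-- The transfer of an element whose powers have conjugates with prescribed image. -/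
theorem transfer_eq {X : Type*} [CommGroup X] {H : Subgroup G} [H.FiniteIndex] (f : ↥H →* X) (g : G) (ε : X)
    (key : ∀ (k : ℕ) (g₀ : G) (h : g₀⁻¹ * g ^ k * g₀ ∈ H), f ⟨g₀⁻¹ * g ^ k * g₀, h⟩ = ε ^ k) :
    MonoidHom.transfer f g = ε ^ H.index := by
  have : Fintype (Quotient (MulAction.orbitRel (zpowers (g : G)) (G ⧸ H))) := Fintype.ofFinite _
  rw [index_eq_sum_minimalPeriod H g, ← Finset.prod_pow_eq_pow_sum,
    MonoidHom.transfer_eq_prod_quotient_orbitRel_zpowers_quot]
  apply Finset.prod_congr rfl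
  intro q _
  exact key _ _ _

end Cfsg.Agent.H297.Tools
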