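import Mathlib
import Cfsg.Agent.H297.Tools

/-!
# More tools: transfer, Sylow subgroups of normal subgroups, weakly closed sets
-/

set_option autoImplicit false

namespace Cfsg.Agent.H297.Tools

open Subgroup

variable {G : Type*} [Group G]

/-- The sign character with kernel a subgroup of index 2. -/
noncomputable def sgn (M : Subgroup G) (hM : M.index = 2) : G →* ℤˣ := by
  classical
  exact
  { toFun := fun x => if x ∈ M then 1 else -1
    map_one' := by rw [if_pos M.one_mem]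
    map_mul' := by
      intro x y
      have h := Subgroup.mul_mem_iff_of_index_two hM (a := x) (b := y)
      by_cases hx : x ∈ M <;> by_cases hy : y ∈ M
      · rw [if_pos (h.2 ⟨fun _ => hy, fun _ => hx⟩), if_pos hx, if_pos hy, one_mul]
      · rw [if_neg (fun hc => hy ((h.1 hc).1 hx)), if_pos hx, if_neg hy, one_mul]
      · rw [if_neg (fun hc => hx ((h.1 hc).2 hy)), if_neg hx, if_pos hy, mul_one]
      · rw [if_pos (h.2 ⟨fun hc => absurd hc hx, fun hc => absurd hc hy⟩), if_neg hx, if_neg hy]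
        decide }

theorem sgn_of_mem {M : Subgroup G} (hM : M.index = 2) {x : G} (hx : x ∈ M) : sgn M hM x = 1 := by
  unfold sgn
  exact if_pos hx

theorem sgn_of_not_mem {M : Subgroup G} (hM : M.index = 2) {x : G} (hx : x ∉ M) : sgn M hM x = -1 := by
  unfold sgn
  exact if_neg hx

/-- Generalized Thompson transfer. -/
theorem transfer_false [Finite G] (hG : commutator G = ⊤) (P : Sylow 2 G) (M : Subgroup G)
    (hMP : M ≤ (P : Subgroup G)) (hM : M.relIndex (P : Subgroup G) = 2) (t : G) (htP : t ∈ (P : Subgroup G))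
    (h1 : ∀ g : G, g * t * g⁻¹ ∈ (P : Subgroup G) → g * t * g⁻¹ ∉ M)
    (h2 : ∀ (g : G) (k : ℕ), g * t ^ (2 * k) * g⁻¹ ∈ (P : Subgroup G) → g * t ^ (2 * k) * g⁻¹ ∈ M) : False := by
  have hp : Fact (Nat.Prime 2) := ⟨Nat.prime_two⟩
  have hM' : (M.subgroupOf (P : Subgroup G)).index = 2 := hM
  let f := sgn (M.subgroupOf (P : Subgroup G)) hM'
  -- odd powers
  have hodd : ∀ (k : ℕ) (g : G), Odd k → g * t ^ k * g⁻¹ ∈ (P : Subgroup G) → g * t ^ k * g⁻¹ ∉ M := by
    intro k g hk hg hgM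
    obtain ⟨n, hn⟩ := P.2 ⟨t, htP⟩
    have hn' : t ^ 2 ^ n = 1 := congrArg Subtype.val hn
    have hco : Nat.Coprime (orderOf t) k := by
      have h3 : orderOf t ∣ 2 ^ n := orderOf_dvd_of_pow_eq_one hn'
      exact Nat.Coprime.coprime_dvd_left h3 (Nat.Coprime.pow_left n (Nat.coprime_two_left.2 hk))
    obtain ⟨j, hj⟩ := exists_pow_eq_self_of_coprime hco.symm
    have h4 : g * t * g⁻¹ = (g * t ^ k * g⁻¹) ^ j := by
      rw [conj_pow, hj]
    have h5 : g * t * g⁻¹ ∈ M := by rw [h4]; exact M.pow_mem hgM j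
    exact h1 g (hMP h5) h5
  have key := transfer_eq f t (-1) (by
    intro k g₀ h
    have e : g₀⁻¹ * t ^ k * g₀ = g₀⁻¹ * t ^ k * g₀⁻¹⁻¹ := by rw [inv_inv]
    rcases Nat.even_or_odd k with hk | hk
    · rw [hk.neg_one_pow]
      apply sgn_of_mem
      rw [mem_subgroupOf]
      obtain ⟨m, rfl⟩ := hk
      show g₀⁻¹ * t ^ (m + m) * g₀ ∈ M
      rw [e]
      rw [e] at h
      have h6 : m + m = 2 * m := by ring
      rw [h6] at h ⊢
      exact h2 _ _ h
    · rw [hk.neg_one_pow]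
      apply sgn_of_not_mem
      rw [mem_subgroupOf]
      show g₀⁻¹ * t ^ k * g₀ ∉ M
      rw [e]
      rw [e] at h
      exact hodd k _ hk h)
  have h3 : Odd (P : Subgroup G).index := by
    rw [← Nat.not_even_iff_odd, even_iff_two_dvd]
    exact P.not_dvd_index
  rw [h3.neg_one_pow] at key
  have h4 : t ∈ (MonoidHom.transfer f).ker := by
    have h5 : commutator G ≤ (MonoidHom.transfer f).ker := Abelianization.commutator_subset_ker _
    rw [hG] at h5
    exact h5 (mem_top t)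
  rw [MonoidHom.mem_ker, key] at h4
  exact absurd h4 (by decide)

/-- The Sylow 2-subgroup `T ∩ A` of a subgroup `A` normalized by `T`. -/
theorem exists_syl [Finite G] (T : Sylow 2 G) {A : Subgroup G} (hTA : (T : Subgroup G) ≤ normalizer (A : Set G)) :
    ∃ P : Sylow 2 ↥A, ∀ a : ↥A, a ∈ (P : Subgroup ↥A) ↔ (a : G) ∈ T := by
  have hp : Fact (Nat.Prime 2) := ⟨Nat.prime_two⟩
  have h1 : IsPGroup 2 ↥((T : Subgroup G).subgroupOf A) := T.2.comap_subtype
  obtain ⟨P, hP⟩ := h1.exists_le_sylow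
  refine ⟨P, ?_⟩
  have h2 : IsPGroup 2 ↥((P : Subgroup ↥A).map A.subtype) := P.2.map _
  have h3 : (P : Subgroup ↥A).map A.subtype ≤ normalizer (A : Set G) := by
    rintro _ ⟨a, -, rfl⟩
    exact le_normalizer a.2
  obtain ⟨h, hh, h4⟩ := syl_conj T hTA h2 h3
  have h5 : ((P : Subgroup ↥A).map A.subtype).map (MulAut.conj h).toMonoidHom ≤ (T : Subgroup G) ⊓ A := by
    rintro _ ⟨_, ⟨a, ha, rfl⟩, rfl⟩
    exact ⟨h4 _ ⟨a, ha, rfl⟩, (mem_normalizer_iff.1 hh _).1 a.2⟩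
  have h6 : ((T : Subgroup G).subgroupOf A) = (P : Subgroup ↥A) := by
    apply eq_of_le_of_card_ge hP
    have e1 : Nat.card ↥(P : Subgroup ↥A) = Nat.card ↥(((P : Subgroup ↥A).map A.subtype).map (MulAut.conj h).toMonoidHom) := by
      rw [← Nat.card_congr ((((P : Subgroup ↥A).map A.subtype)).equivMapOfInjective (MulAut.conj h).toMonoidHom
        (MulAut.conj h).injective).toEquiv]
      rw [← Nat.card_congr ((P : Subgroup ↥A).equivMapOfInjective A.subtype A.subtype_injective).toEquiv]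
    have e2 : Nat.card ↥((T : Subgroup G).subgroupOf A) = Nat.card ↥((T : Subgroup G) ⊓ A : Subgroup G) := by
      rw [← subgroupOf_map_subtype,
        ← Nat.card_congr (((T : Subgroup G).subgroupOf A).equivMapOfInjective A.subtype A.subtype_injective).toEquiv]
    rw [e1, e2]
    exact Nat.card_le_card_of_injective _ (inclusion_injective h5)
  intro a
  rw [← h6, mem_subgroupOf]
  rfl

/-- If `k E k⁻¹ ⊆ E` then `k⁻¹ E k ⊆ E`. -/
theorem inv_conj [Finite G] {E : Set G} {k : G} (h : ∀ y ∈ E, k * y * k⁻¹ ∈ E) : ∀ y ∈ E, k⁻¹ * y * k ∈ E := by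
  have h1 : ∀ n : ℕ, ∀ y ∈ E, k ^ n * y * (k ^ n)⁻¹ ∈ E := by
    intro n
    induction n with
    | zero => intro y hy; simpa using hy
    | succ n ih =>
      intro y hy
      have h2 := h _ (ih y hy)
      have e : k ^ (n + 1) * y * (k ^ (n + 1))⁻¹ = k * (k ^ n * y * (k ^ n)⁻¹) * k⁻¹ := by
        rw [pow_succ']
        group
      rw [e]
      exact h2
  intro y hy
  have h2 := h1 (orderOf k - 1) y hy
  have h3 : k ^ (orderOf k - 1) = k⁻¹ := by
    rw [eq_inv_iff_mul_eq_one, ← pow_succ, Nat.sub_add_cancel (orderOf_pos k), pow_orderOf_eq_one]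
  rw [h3, inv_inv] at h2
  exact h2

/-- Fusion of elements centralizing the weakly closed set `E`. -/
theorem wcf [Finite G] (T : Sylow 2 G) {E : Set G} (hET : ∀ y ∈ E, y ∈ T)
    (hE : ∀ g : G, (∀ y ∈ E, g * y * g⁻¹ ∈ T) → ∀ y ∈ E, g * y * g⁻¹ ∈ E) {v g : G}
    (h1 : ∀ y ∈ E, v * y = y * v) (h2 : ∀ y ∈ E, (g * v * g⁻¹) * y = y * (g * v * g⁻¹)) :
    ∃ h : G, h * v * h⁻¹ = g * v * g⁻¹ ∧ (∀ y ∈ E, h * y * h⁻¹ ∈ E) ∧ (∀ y ∈ E, h⁻¹ * y * h ∈ E) := by
  have hp : Fact (Nat.Prime 2) := ⟨Nat.prime_two⟩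
  set X : Subgroup G := centralizer {g * v * g⁻¹} with hX
  set W : Subgroup G := closure E with hW
  have hWT : W ≤ (T : Subgroup G) := (closure_le _).2 hET
  have hW2 : IsPGroup 2 W := T.2.to_le hWT
  have hWX : W ≤ X := by
    rw [hW, closure_le]
    intro y hy
    rw [SetLike.mem_coe, hX, mem_centralizer_singleton_iff]
    exact (h2 y hy).symm
  set W' : Subgroup G := W.map (MulAut.conj g).toMonoidHom with hW'
  have hW2' : IsPGroup 2 W' := hW2.map _
  have hWX' : W' ≤ X := by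
    rw [hW', map_le_iff_le_comap, hW, closure_le]
    intro y hy
    show g * y * g⁻¹ ∈ X
    rw [hX, mem_centralizer_singleton_iff]
    have := h1 y hy
    calc g * y * g⁻¹ * (g * v * g⁻¹) = g * (y * v) * g⁻¹ := by group
      _ = g * (v * y) * g⁻¹ := by rw [this]
      _ = _ := by group
  -- Sylow subgroups of `X`
  have h3 : IsPGroup 2 ↥(W.subgroupOf X) := hW2.comap_subtype
  have h4 : IsPGroup 2 ↥(W'.subgroupOf X) := hW2'.comap_subtype
  obtain ⟨P, hP⟩ := h3.exists_le_sylow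
  obtain ⟨P', hP'⟩ := h4.exists_le_sylow
  obtain ⟨c, hc⟩ := MulAction.exists_smul_eq (↥X) P' P
  -- a conjugate in `T`
  have h5 : IsPGroup 2 ↥((P : Subgroup ↥X).map X.subtype) := P.2.map _
  obtain ⟨k, -, hk⟩ := syl_conj T (le_top : (T : Subgroup G) ≤ ⊤) h5 le_top
  have h6 : ∀ y ∈ E, k * y * k⁻¹ ∈ T := by
    intro y hy
    have h7 : y ∈ W := subset_closure hy
    exact hk _ ⟨⟨y, hWX h7⟩, hP (mem_subgroupOf.2 h7), rfl⟩
  have h7 : ∀ y ∈ E, (k * c * g) * y * (k * c * g)⁻¹ ∈ T := by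
    intro y hy
    have h8 : g * y * g⁻¹ ∈ W' := ⟨y, subset_closure hy, rfl⟩
    have h9 : (⟨g * y * g⁻¹, hWX' h8⟩ : ↥X) ∈ (P' : Subgroup ↥X) := hP' (mem_subgroupOf.2 h8)
    have h10 : c * (⟨g * y * g⁻¹, hWX' h8⟩ : ↥X) * c⁻¹ ∈ (P : Subgroup ↥X) := by
      rw [← hc, Sylow.coe_subgroup_smul, mem_pointwise_smul_iff_inv_smul_mem, MulAut.smul_def]
      have : (MulAut.conj c)⁻¹ (c * (⟨g * y * g⁻¹, hWX' h8⟩ : ↥X) * c⁻¹) = ⟨g * y * g⁻¹, hWX' h8⟩ := by
        rw [← map_inv, MulAut.conj_apply]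
        group
      rw [this]
      exact h9
    have h11 := hk _ ⟨_, h10, rfl⟩
    have e : (k * c * g) * y * (k * c * g)⁻¹ = k * ((c : G) * (g * y * g⁻¹) * (c : G)⁻¹) * k⁻¹ := by group
    rw [e]
    exact h11
  have h8 := inv_conj (hE k h6)
  have h9 := hE _ h7
  have h10 : ∀ y ∈ E, (c * g) * y * (c * g)⁻¹ ∈ E := by
    intro y hy
    have h11 := h8 _ (h9 y hy)
    have e : k⁻¹ * ((k * c * g) * y * (k * c * g)⁻¹) * k = ((c : G) * g) * y * ((c : G) * g)⁻¹ := by group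
    rwa [e] at h11
  refine ⟨c * g, ?_, h10, inv_conj h10⟩
  have hcX : (c : G) * (g * v * g⁻¹) = (g * v * g⁻¹) * c := mem_centralizer_singleton_iff.1 c.2
  calc (c * g) * v * (c * g)⁻¹ = c * (g * v * g⁻¹) * (c : G)⁻¹ := by group
    _ = (g * v * g⁻¹) * c * (c : G)⁻¹ := by rw [hcX]
    _ = g * v * g⁻¹ := by group

end Cfsg.Agent.H297.Tools
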