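import Mathlib
import Cfsg.Prelude.Def_Local
import Cfsg.Agent.S1754
import Cfsg.Agent.H297.Frame
import Cfsg.Agent.H297.FHyp
import Cfsg.Agent.H297.ToolsB

/-!
# Standard subgroups whose centralizer has cyclic Sylow 2-subgroups: setup

`A` is not normal and no conjugate `gRg⁻¹`, `g ∉ N(A)`, lies in `N(A)`.  Then `R` is weakly closed in a Sylow
2-subgroup `T ≥ R` of `G`, and every conjugate `y ≠ z` of the involution `z` of `R` in `T` inverts the elements of
order 4 of `R`.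
-/

set_option autoImplicit false

namespace Cfsg.Agent.H297

open Subgroup Cfsg

/-- The working configuration. -/
structure Cfg {G : Type*} [Group G] (A : Subgroup G) (T : Sylow 2 G) (z r : G) : Prop where
  ft : FHyp G
  qs : IsQuasisimple ↥A
  z1 : z ≠ 1
  zz : z * z = 1
  zK : ∀ a ∈ A, z * a = a * z
  CN : ∀ g : G, g * z = z * g → g ∈ normalizer (A : Set G)
  Tz : ∀ t ∈ T, t * z = z * t
  rT : r ∈ T
  rK : ∀ a ∈ A, r * a = a * r
  rr : r * r = z
  R2 : ∀ ρ ∈ T, (∀ a ∈ A, ρ * a = a * ρ) → ρ * ρ = 1 → ρ = 1 ∨ ρ = z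
  Rc : IsCyclic ↥((T : Subgroup G) ⊓ centralizer (A : Set G) : Subgroup G)
  Tr : ∀ t ∈ T, t * r * t⁻¹ = r ∨ t * r * t⁻¹ = r * z
  inv : ∀ y ∈ T, IsConj z y → y ≠ z → y * r * y⁻¹ = r * z
  ne : ∃ y ∈ T, IsConj z y ∧ y ≠ z

namespace Setup

theorem cyc_inv {C : Type*} [Group C] [Finite C] [IsCyclic C] {z x : C} (hz1 : z ≠ 1) (hzz : z * z = 1)
    (hxx : x * x = 1) : x = 1 ∨ x = z := by
  classical
  have hfin : Fintype C := Fintype.ofFinite _
  by_contra hcon
  push Not at hcon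
  have h3 := IsCyclic.card_pow_eq_one_le (α := C) (n := 2) (by norm_num)
  have h4 : ({1, z, x} : Finset C).card = 3 := by
    rw [Finset.card_eq_three]
    exact ⟨1, z, x, fun h => hz1 h.symm, fun h => hcon.1 h.symm, fun h => hcon.2 h.symm, rfl⟩
  have h5 : ({1, z, x} : Finset C) ⊆ (Finset.univ.filter fun a : C => a ^ 2 = 1) := by
    intro c hc
    rw [Finset.mem_filter]
    refine ⟨Finset.mem_univ _, ?_⟩
    rw [Finset.mem_insert, Finset.mem_insert, Finset.mem_singleton] at hc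
    rcases hc with rfl | rfl | rfl
    · exact one_pow 2
    · rw [pow_two, hzz]
    · rw [pow_two, hxx]
  have h6 := Finset.card_le_card h5
  rw [h4] at h6
  have h7 : (Finset.univ.filter fun a : C => a ^ 2 = 1).card ≤ 2 := by
    convert h3
  omega

theorem pow_mod (k : ℤ) (hk : Odd k) (n : ℕ) : ((2 : ℤ) ^ (n + 3)) ∣ k ^ (2 ^ (n + 1)) - 1 := by
  induction n with
  | zero =>
    have := Int.eight_dvd_sq_sub_one_of_odd hk
    simpa using this
  | succ n ih =>
    have h1 : k ^ (2 ^ (n + 1 + 1)) - 1 = (k ^ (2 ^ (n + 1)) - 1) * (k ^ (2 ^ (n + 1)) + 1) := by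
      rw [pow_succ 2 (n + 1), pow_mul]
      ring
    rw [h1, show n + 1 + 3 = (n + 3) + 1 by ring, pow_succ]
    apply mul_dvd_mul ih
    have h2 : Odd (k ^ (2 ^ (n + 1))) := hk.pow
    obtain ⟨m, hm⟩ := h2
    rw [hm]
    exact ⟨m + 1, by ring⟩

variable {G : Type*} [Group G]

/-- A nontrivial 2-element has a power of order 2. -/
theorem exists_inv [Finite G] {T : Subgroup G} (hT : IsPGroup 2 T) {c : G} (hc : c ∈ T) (h1 : c ≠ 1) :
    ∃ m : ℕ, c ^ m ≠ 1 ∧ c ^ m * c ^ m = 1 := by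
  have hp : Fact (Nat.Prime 2) := ⟨Nat.prime_two⟩
  obtain ⟨j, hj⟩ := (IsPGroup.iff_orderOf.1 hT) ⟨c, hc⟩
  rw [← Subgroup.orderOf_coe] at hj
  have hj' : orderOf c = 2 ^ j := hj
  rcases j with _ | j
  · rw [pow_zero, orderOf_eq_one_iff] at hj'
    exact absurd hj' h1
  · refine ⟨2 ^ j, ?_, ?_⟩
    · intro h
      have h2 := orderOf_dvd_of_pow_eq_one h
      rw [hj'] at h2
      have h3 := Nat.le_of_dvd (by positivity) h2
      have h4 : 2 ^ (j + 1) = 2 * 2 ^ j := by ring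
      have h5 : 0 < 2 ^ j := by positivity
      omega
    · rw [← pow_add]
      have h4 : 2 ^ j + 2 ^ j = 2 ^ (j + 1) := by ring
      rw [h4, ← hj', pow_orderOf_eq_one]

/-- The elements of order 4 of `R` are inverted by the conjugates of `z`. -/
theorem f6 [Finite G] (T : Sylow 2 G) {R : Subgroup G} (hRc : IsCyclic ↥R) (hRT : R ≤ (T : Subgroup G))
    (hTR : ∀ t ∈ T, ∀ ρ ∈ R, t * ρ * t⁻¹ ∈ R) {z r : G} (hzR : z ∈ R) (hz1 : z ≠ 1) (hzz : z * z = 1)
    (Tz : ∀ t ∈ T, t * z = z * t) (hrR : r ∈ R) (hrr : r * r = z)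
    (F3 : ∀ g : G, (∀ ρ ∈ R, (g * z * g⁻¹) * ρ = ρ * (g * z * g⁻¹)) → g * z * g⁻¹ = z)
    {y : G} (hyT : y ∈ T) (hy : IsConj z y) (hyz : y ≠ z) : y * r * y⁻¹ = r * z := by
  have hp : Fact (Nat.Prime 2) := ⟨Nat.prime_two⟩
  obtain ⟨g₀, hg₀⟩ := isConj_iff.1 hy
  obtain ⟨⟨ρ, hρR⟩, hρ⟩ := IsCyclic.exists_generator (α := ↥R)
  have hgen : ∀ x ∈ R, ∃ k : ℤ, ρ ^ k = x := by
    intro x hx
    obtain ⟨k, hk⟩ := mem_zpowers_iff.1 (hρ ⟨x, hx⟩)
    exact ⟨k, congrArg Subtype.val hk⟩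
  have uniq : ∀ x ∈ R, x * x = 1 → x = 1 ∨ x = z := by
    intro x hx hxx
    rcases cyc_inv (C := ↥R) (z := ⟨z, hzR⟩) (x := ⟨x, hx⟩) (fun h => hz1 (congrArg Subtype.val h))
      (Subtype.ext hzz) (Subtype.ext hxx) with h | h
    · exact Or.inl (congrArg Subtype.val h)
    · exact Or.inr (congrArg Subtype.val h)
  have comm : ∀ a ∈ R, ∀ b ∈ R, a * b = b * a := by
    intro a ha b hb
    obtain ⟨k, rfl⟩ := hgen a ha
    obtain ⟨l, rfl⟩ := hgen b hb
    rw [← zpow_add, ← zpow_add, add_comm]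
  have cen : ∀ x : G, x * ρ = ρ * x → ∀ σ ∈ R, x * σ = σ * x := by
    intro x hx σ hσ
    obtain ⟨k, rfl⟩ := hgen σ hσ
    exact (Commute.zpow_right hx k)
  have sqrt : ∀ x ∈ R, x * x = z → x = r ∨ x = r * z := by
    intro x hx hxx
    have h1 : (r⁻¹ * x) * (r⁻¹ * x) = 1 := by
      have h2 := comm x hx r⁻¹ (R.inv_mem hrR)
      calc (r⁻¹ * x) * (r⁻¹ * x) = r⁻¹ * (x * r⁻¹) * x := by group
        _ = r⁻¹ * (r⁻¹ * x) * x := by rw [h2]
        _ = (r * r)⁻¹ * (x * x) := by group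
        _ = 1 := by rw [hrr, hxx, inv_mul_cancel]
    rcases uniq _ (R.mul_mem (R.inv_mem hrR) hx) h1 with h3 | h3
    · left; exact (inv_mul_eq_one.1 h3).symm
    · right; rw [← h3]; group
  have hyy : y * y = 1 := by
    rw [← hg₀]
    calc g₀ * z * g₀⁻¹ * (g₀ * z * g₀⁻¹) = g₀ * (z * z) * g₀⁻¹ := by group
      _ = 1 := by rw [hzz]; group
  have hyi : y⁻¹ = y := inv_eq_of_mul_eq_one_left hyy
  have hyz' := Tz y hyT
  have h1 : y * r * y⁻¹ ∈ R := hTR y hyT r hrR
  rcases sqrt _ h1 (by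
    calc y * r * y⁻¹ * (y * r * y⁻¹) = y * (r * r) * y⁻¹ := by group
      _ = z := by rw [hrr, hyz']; group) with h2 | h2
  swap
  · exact h2
  exfalso
  have hyr : y * r = r * y := by rw [mul_inv_eq_iff_eq_mul] at h2; exact h2
  -- `y` does not commute with `ρ`
  have hyρ : y * ρ ≠ ρ * y := by
    intro h
    apply hyz
    rw [← hg₀]
    apply F3
    rw [hg₀]
    exact cen y h
  set c := y * ρ * y⁻¹ * ρ⁻¹ with hc
  have hcR : c ∈ R := R.mul_mem (hTR y hyT ρ hρR) (R.inv_mem hρR)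
  have hc1 : y * c * y⁻¹ = c⁻¹ := by
    have h3 := comm _ (hTR y hyT ρ hρR) ρ⁻¹ (R.inv_mem hρR)
    calc y * c * y⁻¹ = (y * y) * ρ * (y⁻¹ * ρ⁻¹ * y⁻¹) := by rw [hc]; group
      _ = ρ * (y * ρ⁻¹ * y⁻¹) := by rw [hyy, hyi]; group
      _ = (y * ρ * y⁻¹ * ρ⁻¹)⁻¹ := by group
  by_cases hcc : c * c = 1
  · rcases uniq c hcR hcc with h3 | h3
    · exact hyρ (by
        have : y * ρ * y⁻¹ * ρ⁻¹ = 1 := h3
        rw [mul_inv_eq_one, mul_inv_eq_iff_eq_mul] at this
        exact this)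
    · have hyρ' : y * ρ * y⁻¹ = z * ρ := by
        rw [← h3, hc]; group
      have hρz := comm ρ hρR z hzR
      -- `y` commutes with `ρ²`
      have h4 : y * (ρ * ρ) = (ρ * ρ) * y := by
        have h5 : y * (ρ * ρ) * y⁻¹ = ρ * ρ := by
          calc y * (ρ * ρ) * y⁻¹ = (y * ρ * y⁻¹) * (y * ρ * y⁻¹) := by group
            _ = z * (ρ * z) * ρ := by rw [hyρ']; group
            _ = z * z * ρ * ρ := by rw [hρz]; group
            _ = ρ * ρ := by rw [hzz]; group
        rwa [mul_inv_eq_iff_eq_mul] at h5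
      -- conjugate into `T`
      have hTC : (T : Subgroup G) ≤ centralizer {z} := fun t ht =>
        mem_centralizer_singleton_iff.2 (Tz t ht)
      obtain ⟨c', hc', h5⟩ := Tools.syl_conj T (H := centralizer {z}) (U := zpowers (g₀⁻¹ * (ρ * ρ) * g₀)) hTC
        (by
          have h6 : IsPGroup 2 ↥((T : Subgroup G).map (MulAut.conj g₀⁻¹).toMonoidHom) := T.2.map _
          refine h6.to_le (zpowers_le.2 ⟨ρ * ρ, mul_mem (hRT hρR) (hRT hρR), ?_⟩)
          show g₀⁻¹ * (ρ * ρ) * g₀⁻¹⁻¹ = _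
          rw [inv_inv])
        (by
          rw [zpowers_le, mem_centralizer_singleton_iff]
          have e : z = g₀⁻¹ * y * g₀ := by rw [← hg₀]; group
          rw [e]
          calc g₀⁻¹ * (ρ * ρ) * g₀ * (g₀⁻¹ * y * g₀) = g₀⁻¹ * ((ρ * ρ) * y) * g₀ := by group
            _ = g₀⁻¹ * (y * (ρ * ρ)) * g₀ := by rw [h4]
            _ = _ := by group)
      have h6 := h5 _ (mem_zpowers _)
      rw [mem_centralizer_singleton_iff] at hc'
      obtain ⟨g, hg⟩ : ∃ g, g = g₀ * c'⁻¹ := ⟨_, rfl⟩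
      have hgz : g * z * g⁻¹ = y := by
        rw [hg]
        calc g₀ * c'⁻¹ * z * (g₀ * c'⁻¹)⁻¹ = g₀ * c'⁻¹ * (z * c') * g₀⁻¹ := by group
          _ = g₀ * c'⁻¹ * (c' * z) * g₀⁻¹ := by rw [hc']
          _ = g₀ * z * g₀⁻¹ := by group
          _ = y := hg₀
      set τ := g⁻¹ * (ρ * ρ) * g with hτ
      have hτT : τ ∈ T := by
        have e : τ = c' * (g₀⁻¹ * (ρ * ρ) * g₀) * c'⁻¹ := by rw [hτ, hg]; group
        rw [e]
        exact h6
      -- the order of `ρ`
      obtain ⟨n, hn⟩ := (IsPGroup.iff_orderOf.1 T.2) ⟨ρ, hRT hρR⟩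
      have hn' : orderOf ρ = 2 ^ n := by
        rw [← hn]
        exact Subgroup.orderOf_coe (⟨ρ, hRT hρR⟩ : ↥(T : Subgroup G))
      have hn3 : 3 ≤ n := by
        by_contra hlt
        have h7 : ρ ^ 4 = 1 := by
          rw [← orderOf_dvd_iff_pow_eq_one, hn']
          have : n = 0 ∨ n = 1 ∨ n = 2 := by omega
          rcases this with rfl | rfl | rfl <;> decide
        have h8 : (ρ * ρ) * (ρ * ρ) = 1 := by
          rw [← h7]
          simp only [pow_succ, pow_zero, one_mul, mul_assoc]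
        rcases uniq _ (R.mul_mem hρR hρR) h8 with h9 | h9
        · obtain ⟨k, hk⟩ := hgen r hrR
          apply hz1
          rw [← hrr, ← hk, ← zpow_add, ← two_mul, zpow_mul, zpow_two, h9, one_zpow]
        · rcases sqrt ρ hρR h9 with h10 | h10
          · exact hyρ (by rw [h10]; exact hyr)
          · apply hyρ
            rw [h10]
            calc y * (r * z) = (y * r) * z := by group
              _ = r * (y * z) := by rw [hyr]; group
              _ = r * z * y := by rw [hyz']; group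
      obtain ⟨m, rfl⟩ : ∃ m, n = m + 3 := ⟨n - 3, by omega⟩
      obtain ⟨k, hk⟩ := hgen _ (hTR τ hτT ρ hρR)
      have hconj : ∀ j : ℕ, τ ^ j * ρ * (τ ^ j)⁻¹ = ρ ^ (k ^ j) := by
        intro j
        induction j with
        | zero => simp
        | succ j ih =>
          calc τ ^ (j + 1) * ρ * (τ ^ (j + 1))⁻¹ = τ * (τ ^ j * ρ * (τ ^ j)⁻¹) * τ⁻¹ := by
                rw [pow_succ']; group
            _ = τ * ρ ^ (k ^ j) * τ⁻¹ := by rw [ih]
            _ = (τ * ρ * τ⁻¹) ^ (k ^ j) := by rw [conj_zpow]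
            _ = ρ ^ (k ^ (j + 1)) := by rw [← hk, ← zpow_mul, pow_succ']
      have hkodd : Odd k := by
        rw [← Int.not_even_iff_odd]
        rintro ⟨l, hl⟩
        have h7 : (τ * ρ * τ⁻¹) ^ (2 ^ (m + 2)) = 1 := by
          rw [← hk, hl, ← zpow_natCast, ← zpow_mul]
          have e : (l + l) * ((2 ^ (m + 2) : ℕ) : ℤ) = ((2 ^ (m + 3) : ℕ) : ℤ) * l := by push_cast; ring
          rw [e, zpow_mul, zpow_natCast, ← hn', pow_orderOf_eq_one, one_zpow]
        rw [conj_pow, mul_inv_eq_one, mul_eq_left] at h7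
        have h8 := orderOf_dvd_of_pow_eq_one h7
        rw [hn'] at h8
        have h9 := Nat.le_of_dvd (by positivity) h8
        have h10 : 2 ^ (m + 3) = 2 * 2 ^ (m + 2) := by ring
        have h11 : 0 < 2 ^ (m + 2) := by positivity
        omega
      have h7 : τ ^ (2 ^ (m + 1)) * ρ * (τ ^ (2 ^ (m + 1)))⁻¹ = ρ := by
        rw [hconj]
        have h8 := pow_mod k hkodd m
        have h9 : ρ ^ (k ^ (2 ^ (m + 1)) - 1) = 1 := by
          rw [← orderOf_dvd_iff_zpow_eq_one, hn']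
          exact_mod_cast h8
        rw [zpow_sub, zpow_one, mul_inv_eq_one] at h9
        exact h9
      have h8 : τ ^ (2 ^ (m + 1)) = g⁻¹ * z * g := by
        have h9 : ρ ^ (2 ^ (m + 2)) = z := by
          rcases uniq _ (R.pow_mem hρR (2 ^ (m + 2))) (by
            rw [← pow_add]
            have : 2 ^ (m + 2) + 2 ^ (m + 2) = 2 ^ (m + 3) := by ring
            rw [this, ← hn', pow_orderOf_eq_one]) with h9 | h9
          · exfalso
            have h10 := orderOf_dvd_of_pow_eq_one h9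
            rw [hn'] at h10
            have h11 := Nat.le_of_dvd (by positivity) h10
            have h12 : 2 ^ (m + 3) = 2 * 2 ^ (m + 2) := by ring
            have h13 : 0 < 2 ^ (m + 2) := by positivity
            omega
          · exact h9
        have h10 : τ ^ (2 ^ (m + 1)) = g⁻¹ * (ρ * ρ) ^ (2 ^ (m + 1)) * g := by
          have := conj_pow (i := 2 ^ (m + 1)) (a := g⁻¹) (b := ρ * ρ)
          rw [inv_inv] at this
          exact this
        have h11 : (ρ * ρ) ^ (2 ^ (m + 1)) = z := by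
          rw [← pow_two, ← pow_mul, ← h9]
          congr 1
          ring
        rw [h10, h11]
      rw [h8, mul_inv_eq_iff_eq_mul] at h7
      have h9 : g⁻¹ * z * g⁻¹⁻¹ = z := by
        apply F3
        rw [inv_inv]
        exact cen _ h7
      apply hyz
      rw [← hgz]
      rw [inv_inv] at h9
      calc g * z * g⁻¹ = g * (g⁻¹ * z * g) * g⁻¹ := by rw [h9]
        _ = z := by group
  · -- `r` is a power of `c`
    have hcc' : c * c ∈ R := R.mul_mem hcR hcR
    obtain ⟨m, hm1, hm2⟩ := exists_inv T.2 (hRT hcc') hcc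
    have h3 : (c * c) ^ m = z := by
      rcases uniq _ (R.pow_mem hcc' m) hm2 with h3 | h3
      · exact absurd h3 hm1
      · exact h3
    have h4 : c ^ m * c ^ m = z := by
      rw [← h3, ← pow_add, ← pow_two, ← pow_mul, two_mul]
    have h5 : y * c ^ m * y⁻¹ = (c ^ m)⁻¹ := by
      rw [← conj_pow, hc1, inv_pow]
    have h6 : y * c ^ m = c ^ m * y := by
      rcases sqrt _ (R.pow_mem hcR m) h4 with h7 | h7
      · rw [h7, hyr]
      · rw [h7]
        calc y * (r * z) = (y * r) * z := by group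
          _ = r * (y * z) := by rw [hyr]; group
          _ = r * z * y := by rw [hyz']; group
    apply hz1
    rw [h6, mul_inv_cancel_right] at h5
    rw [← h4]
    nth_rewrite 1 [h5]
    exact inv_mul_cancel _

/-- The configuration, or `A` is normal, or some conjugate of `R` lies in `N(A)`. -/
theorem exists_cfg [Finite G] (ft : FHyp G) (hO : Cfsg.oddCore G = ⊥) (A : Subgroup G) (hA : Cfsg.IsStandardSubgroup A)
    (K : Subgroup G) (hK : K = centralizer (A : Set G)) (R₀ : Sylow 2 ↥K)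
    (hR : IsCyclic ↥(R₀ : Subgroup ↥K)) (hn : ¬ A.Normal)
    (h3 : ∀ g : G, g ∉ normalizer (A : Set G) →
      ¬ (((R₀ : Subgroup ↥K).map K.subtype).map (MulAut.conj g).toMonoidHom ≤ normalizer (A : Set G))) :
    ∃ (T : Sylow 2 G) (z r : G), Cfg A T z r := by
  have hp : Fact (Nat.Prime 2) := ⟨Nat.prime_two⟩
  obtain ⟨R, hRdef⟩ : ∃ R : Subgroup G, R = (R₀ : Subgroup ↥K).map K.subtype := ⟨_, rfl⟩
  rw [← hRdef] at h3
  have hNK : normalizer (A : Set G) = normalizer (K : Set G) := by rw [hK]; exact hA.2.2.2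
  have hRK : R ≤ K := by
    rw [hRdef]
    rintro _ ⟨x, -, rfl⟩
    exact x.2
  have hKN : K ≤ normalizer (A : Set G) := by
    rw [hNK]; exact le_normalizer
  have hR2 : IsPGroup 2 R := by rw [hRdef]; exact R₀.2.map _
  have hRc : IsCyclic ↥R := by
    rw [hRdef]
    exact isCyclic_of_surjective ((R₀ : Subgroup ↥K).equivMapOfInjective K.subtype K.subtype_injective)
      (MulEquiv.surjective _)
  have hmax : ∀ U : Subgroup G, IsPGroup 2 U → R ≤ U → U ≤ K → U = R := by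
    intro U hU hRU hUK
    have h4 : IsPGroup 2 ↥(U.subgroupOf K) := hU.comap_subtype
    have h5 : (R₀ : Subgroup ↥K) ≤ U.subgroupOf K := by
      intro x hx
      rw [mem_subgroupOf]
      exact hRU (by rw [hRdef]; exact ⟨x, hx, rfl⟩)
    have h6 := R₀.is_maximal' h4 h5
    rw [hRdef, ← h6, subgroupOf_map_subtype, inf_eq_left.2 hUK]
  -- the key property
  have key : ∀ g : G, (∀ ρ ∈ R, g * ρ * g⁻¹ ∈ normalizer (A : Set G)) → g ∈ normalizer (A : Set G) := by
    intro g hg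
    by_contra hgN
    apply h3 g hgN
    rintro _ ⟨ρ, hρ, rfl⟩
    exact hg ρ hρ
  -- the involution
  have hRne : ∃ x ∈ R, x ≠ 1 := by
    by_contra hcon
    push Not at hcon
    have h4 : Even (Nat.card ↥K) := by rw [hK]; exact hA.2.1.1
    have h5 : (R₀ : Subgroup ↥K) = ⊥ := by
      rw [eq_bot_iff]
      intro x hx
      exact Subtype.ext (hcon x (by rw [hRdef]; exact ⟨x, hx, rfl⟩))
    have h6 := R₀.not_dvd_index
    rw [h5, index_bot] at h6
    exact h6 (even_iff_two_dvd.1 h4)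
  obtain ⟨x, hxR, hx1⟩ := hRne
  obtain ⟨m, hm1, hm2⟩ := exists_inv hR2 hxR hx1
  obtain ⟨z, hz⟩ : ∃ z, z = x ^ m := ⟨_, rfl⟩
  have hzR : z ∈ R := by rw [hz]; exact R.pow_mem hxR m
  have hz1 : z ≠ 1 := by rw [hz]; exact hm1
  have hzz : z * z = 1 := by rw [hz]; exact hm2
  have uniq : ∀ x ∈ R, x * x = 1 → x = 1 ∨ x = z := by
    intro x hx hxx
    rcases cyc_inv (C := ↥R) (z := ⟨z, hzR⟩) (x := ⟨x, hx⟩) (fun h => hz1 (congrArg Subtype.val h))
      (Subtype.ext hzz) (Subtype.ext hxx) with h | h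
    · exact Or.inl (congrArg Subtype.val h)
    · exact Or.inr (congrArg Subtype.val h)
  have comm : ∀ a ∈ R, ∀ b ∈ R, a * b = b * a := by
    intro a ha b hb
    have h4 : IsMulCommutative ↥R := hRc.isMulCommutative
    exact congrArg Subtype.val (h4.is_comm.comm (⟨a, ha⟩ : ↥R) ⟨b, hb⟩)
  have hzord : orderOf z = 2 := orderOf_eq_prime (by rw [pow_two, hzz]) hz1
  have hCz : ∀ g : G, g * z = z * g → g ∈ normalizer (A : Set G) := by
    intro g hg
    exact (Cfsg.Agent.S1754.result A hA z hzord (by rw [← hK]; exact hRK hzR)).1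
      (mem_centralizer_singleton_iff.2 hg)
  -- conjugation of `z` by elements normalizing `R`
  have hNR : ∀ g : G, (∀ ρ ∈ R, g * ρ * g⁻¹ ∈ R) → g * z = z * g := by
    intro g hg
    have h4 : (g * z * g⁻¹) * (g * z * g⁻¹) = 1 := by
      calc (g * z * g⁻¹) * (g * z * g⁻¹) = g * (z * z) * g⁻¹ := by group
        _ = 1 := by rw [hzz]; group
    rcases uniq _ (hg z hzR) h4 with h5 | h5
    · exfalso
      rw [mul_inv_eq_one, mul_eq_left] at h5
      exact hz1 h5
    · rw [mul_inv_eq_iff_eq_mul] at h5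
      exact h5
  -- the Sylow subgroup
  obtain ⟨T₀, hT₀⟩ := (show IsPGroup 2 ↥(R.subgroupOf (normalizer (A : Set G))) from
    hR2.comap_subtype).exists_le_sylow
  have hRN : R ≤ normalizer (A : Set G) := hRK.trans hKN
  set T₁ : Subgroup G := (T₀ : Subgroup _).map (normalizer (A : Set G)).subtype with hT₁
  have hT₁2 : IsPGroup 2 T₁ := T₀.2.map _
  have hT₁N : T₁ ≤ normalizer (A : Set G) := by
    rintro _ ⟨x, -, rfl⟩
    exact x.2
  have hRT₁ : R ≤ T₁ := by
    intro ρ hρ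
    exact ⟨⟨ρ, hRN hρ⟩, hT₀ (mem_subgroupOf.2 hρ), rfl⟩
  have hmax₁ : ∀ U : Subgroup G, IsPGroup 2 U → T₁ ≤ U → U ≤ normalizer (A : Set G) → U = T₁ := by
    intro U hU hTU hUN
    have h4 : IsPGroup 2 ↥(U.subgroupOf (normalizer (A : Set G))) := hU.comap_subtype
    have h5 : (T₀ : Subgroup _) ≤ U.subgroupOf (normalizer (A : Set G)) := by
      intro x hx
      rw [mem_subgroupOf]
      exact hTU ⟨x, hx, rfl⟩
    have h6 := T₀.is_maximal' h4 h5
    rw [hT₁, ← h6, subgroupOf_map_subtype, inf_eq_left.2 hUN]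
  obtain ⟨T, hT⟩ := hT₁2.exists_le_sylow
  have hTinf : (T : Subgroup G) ⊓ normalizer (A : Set G) = T₁ :=
    hmax₁ _ (T.2.to_le inf_le_left) (le_inf hT hT₁N) inf_le_right
  have hTN : (T : Subgroup G) ≤ normalizer (A : Set G) := by
    by_contra hcon
    have h4 : T₁.subgroupOf (T : Subgroup G) ≠ ⊤ := by
      intro h5
      rw [subgroupOf_eq_top] at h5
      exact hcon (h5.trans hT₁N)
    have h5 : Group.IsNilpotent ↥(T : Subgroup G) := T.2.isNilpotent
    have h6 := Group.normalizerCondition_of_isNilpotent (G := ↥(T : Subgroup G)) (T₁.subgroupOf (T : Subgroup G))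
      (lt_top_iff_ne_top.2 h4)
    obtain ⟨g, hg1, hg2⟩ := SetLike.exists_of_lt h6
    apply hg2
    rw [mem_subgroupOf, ← hTinf]
    refine ⟨g.2, key g fun ρ hρ => ?_⟩
    have h7 : (⟨ρ, hT (hRT₁ hρ)⟩ : ↥(T : Subgroup G)) ∈ T₁.subgroupOf (T : Subgroup G) :=
      mem_subgroupOf.2 (hRT₁ hρ)
    have h8 := (mem_normalizer_iff.1 hg1 _).1 h7
    exact hT₁N (mem_subgroupOf.1 h8)
  have hTT₁ : (T : Subgroup G) = T₁ := by rw [← hTinf, inf_eq_left.2 hTN]
  have hRT : R ≤ (T : Subgroup G) := by rw [hTT₁]; exact hRT₁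
  have hTK : (T : Subgroup G) ⊓ K = R := hmax _ (T.2.to_le inf_le_left) (le_inf hRT hRK) inf_le_right
  have hTR : ∀ t ∈ T, ∀ ρ ∈ R, t * ρ * t⁻¹ ∈ R := by
    intro t ht ρ hρ
    have h4 : t * ρ * t⁻¹ ∈ (T : Subgroup G) ⊓ K := by
      refine ⟨(T : Subgroup G).mul_mem ((T : Subgroup G).mul_mem ht (hRT hρ)) ((T : Subgroup G).inv_mem ht), ?_⟩
      have h5 := hTN ht
      rw [hNK] at h5
      exact (mem_normalizer_iff.1 h5 _).1 (hRK hρ)
    rwa [hTK] at h4
  have Tz : ∀ t ∈ T, t * z = z * t := fun t ht => hNR t (hTR t ht)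
  have F3 : ∀ g : G, (∀ ρ ∈ R, (g * z * g⁻¹) * ρ = ρ * (g * z * g⁻¹)) → g * z * g⁻¹ = z := by
    intro g hg
    have h4 : g⁻¹ ∈ normalizer (A : Set G) := by
      apply key
      intro ρ hρ
      apply hCz
      have h5 := hg ρ hρ
      calc g⁻¹ * ρ * g⁻¹⁻¹ * z = g⁻¹ * (ρ * (g * z * g⁻¹)) * g := by group
        _ = g⁻¹ * ((g * z * g⁻¹) * ρ) * g := by rw [h5]
        _ = z * (g⁻¹ * ρ * g⁻¹⁻¹) := by group
    have h5 : g ∈ normalizer (A : Set G) := by
      have := inv_mem h4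
      rwa [inv_inv] at this
    rw [hNK] at h5
    have h6 : g * z * g⁻¹ ∈ K := (mem_normalizer_iff.1 h5 _).1 (hRK hzR)
    have h7 : (g * z * g⁻¹) * (g * z * g⁻¹) = 1 := by
      calc (g * z * g⁻¹) * (g * z * g⁻¹) = g * (z * z) * g⁻¹ := by group
        _ = 1 := by rw [hzz]; group
    have h8 : g * z * g⁻¹ ∈ normalizer (R : Set G) := by
      rw [mem_normalizer_iff]
      have hcon : ∀ ρ ∈ R, (g * z * g⁻¹) * ρ * (g * z * g⁻¹)⁻¹ = ρ := fun ρ hρ => by
        rw [mul_inv_eq_iff_eq_mul, hg ρ hρ]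
      intro ρ
      constructor
      · intro hρ
        rw [hcon ρ hρ]
        exact hρ
      · intro hρ
        have h9 := hcon _ hρ
        have h10 : (g * z * g⁻¹) * ρ * (g * z * g⁻¹)⁻¹ = ρ := by
          have h11 : (g * z * g⁻¹) * ((g * z * g⁻¹) * ρ * (g * z * g⁻¹)⁻¹) * (g * z * g⁻¹)⁻¹ = ρ := by
            calc (g * z * g⁻¹) * ((g * z * g⁻¹) * ρ * (g * z * g⁻¹)⁻¹) * (g * z * g⁻¹)⁻¹
                = ((g * z * g⁻¹) * (g * z * g⁻¹)) * ρ * ((g * z * g⁻¹) * (g * z * g⁻¹))⁻¹ := by group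
              _ = ρ := by rw [h7]; group
          rw [← h9, h11]
        rw [← h10]
        exact hρ
    obtain ⟨U, hU2, hRU, hwU, -, hUle⟩ := Tools.ext hR2 h8 h8 (by rw [h7]; exact one_mem _)
      (by rw [h7]; exact one_mem _) (by
        have : (g * z * g⁻¹) * (g * z * g⁻¹) * (g * z * g⁻¹)⁻¹ * (g * z * g⁻¹)⁻¹ = 1 := by group
        rw [this]; exact one_mem _)
    have h9 : g * z * g⁻¹ ∈ R := by
      rw [← hmax U hU2 hRU (hUle K hRK h6 h6)]
      exact hwU
    rcases uniq _ h9 h7 with h10 | h10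
    · exfalso
      rw [mul_inv_eq_one, mul_eq_left] at h10
      exact hz1 h10
    · exact h10
  -- `z` is not isolated
  have hnotiso : ¬ ∀ g : G, (g * z * g⁻¹) * z = z * (g * z * g⁻¹) → g * z * g⁻¹ = z := by
    intro hiso
    exact hn (Frame.normal_of_isolated hO hA hz1 hzz (by rw [← hK]; exact hRK hzR) hiso)
  -- an element of order 4
  obtain ⟨r, hrR, hrr⟩ : ∃ r ∈ R, r * r = z := by
    by_contra hcon
    push Not at hcon
    apply hnotiso
    intro g hg
    apply F3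
    have hall : ∀ ρ ∈ R, ρ * ρ = 1 := by
      intro ρ hρ
      by_contra h4
      obtain ⟨m, hm1, hm2⟩ := exists_inv hR2 (R.mul_mem hρ hρ) h4
      rcases uniq _ (R.pow_mem (R.mul_mem hρ hρ) m) hm2 with h5 | h5
      · exact hm1 h5
      · apply hcon (ρ ^ m) (R.pow_mem hρ m)
        rw [← h5, ← pow_add, ← pow_two, ← pow_mul, two_mul]
    intro ρ hρ
    rcases uniq ρ hρ (hall ρ hρ) with h4 | h4
    · rw [h4, mul_one, one_mul]
    · rw [h4, hg]
  have sqrt : ∀ x ∈ R, x * x = z → x = r ∨ x = r * z := by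
    intro x hx hxx
    have h1 : (r⁻¹ * x) * (r⁻¹ * x) = 1 := by
      have h2 := comm x hx r⁻¹ (R.inv_mem hrR)
      calc (r⁻¹ * x) * (r⁻¹ * x) = r⁻¹ * (x * r⁻¹) * x := by group
        _ = r⁻¹ * (r⁻¹ * x) * x := by rw [h2]
        _ = (r * r)⁻¹ * (x * x) := by group
        _ = 1 := by rw [hrr, hxx, inv_mul_cancel]
    rcases uniq _ (R.mul_mem (R.inv_mem hrR) hx) h1 with h3 | h3
    · left; exact (inv_mul_eq_one.1 h3).symm
    · right; rw [← h3]; group
  have hRA : ∀ ρ ∈ R, ∀ a ∈ A, ρ * a = a * ρ := fun ρ hρ a ha =>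
    (mem_centralizer_iff.1 (show ρ ∈ centralizer (A : Set G) by rw [← hK]; exact hRK hρ) a ha).symm
  refine ⟨T, z, r, ?_⟩
  refine
    { ft := ft
      qs := hA.1
      z1 := hz1
      zz := hzz
      zK := hRA z hzR
      CN := hCz
      Tz := Tz
      rT := hRT hrR
      rK := hRA r hrR
      rr := hrr
      R2 := ?_
      Rc := ?_
      Tr := ?_
      inv := fun y hyT hy hyz => f6 T hRc hRT hTR hzR hz1 hzz Tz hrR hrr F3 hyT hy hyz
      ne := ?_ }
  · intro ρ hρT hρA hρρ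
    have h4 : ρ ∈ (T : Subgroup G) ⊓ K := by
      rw [hK]
      exact ⟨hρT, mem_centralizer_iff.2 fun a ha => (hρA a ha).symm⟩
    rw [hTK] at h4
    exact uniq ρ h4 hρρ
  · rw [← hK, hTK]
    exact hRc
  · intro t ht
    apply sqrt _ (hTR t ht r hrR)
    calc t * r * t⁻¹ * (t * r * t⁻¹) = t * (r * r) * t⁻¹ := by group
      _ = z := by rw [hrr, Tz t ht]; group
  · push Not at hnotiso
    obtain ⟨g, hg1, hg2⟩ := hnotiso
    have hTC : (T : Subgroup G) ≤ centralizer {z} := fun t ht => mem_centralizer_singleton_iff.2 (Tz t ht)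
    obtain ⟨h, hh, h5⟩ := Tools.syl_conj T (H := centralizer {z}) (U := zpowers (g * z * g⁻¹)) hTC
      (by
        have h6 : IsPGroup 2 ↥(R.map (MulAut.conj g).toMonoidHom) := hR2.map _
        exact h6.to_le (zpowers_le.2 ⟨z, hzR, rfl⟩))
      (by
        rw [zpowers_le, mem_centralizer_singleton_iff]
        exact hg1)
    rw [mem_centralizer_singleton_iff] at hh
    refine ⟨_, h5 _ (mem_zpowers _), isConj_iff.2 ⟨h * g, by group⟩, ?_⟩
    intro h6
    apply hg2
    rw [mul_inv_eq_iff_eq_mul, ← hh] at h6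
    exact mul_left_cancel h6

end Setup

end Cfsg.Agent.H297
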