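import Mathlib
import Cfsg.Prelude.Def_Local
import Cfsg.Agent.S0205
import Cfsg.Agent.OddHalf.UQ4
import Cfsg.Agent.SignalizersComponents.Components
import Cfsg.Agent.H297.Tools

/-!
# The `Z*`-theorem for a quasisimple group with an automorphism

* `zg` : `w` normalizes the quasisimple `A` and `N ≤ C(A)`, `w² ∈ N`, `w ∉ C(A)`; then some conjugate `awa⁻¹`, `a ∈ A`,
  is different from `w` and commutes with `w` modulo `N`.
-/

set_option autoImplicit false

namespace Cfsg.Agent.H297.ZG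

open Subgroup Cfsg

variable {G : Type*} [Group G]

/-- The relevant subgroup. -/
def big (A N : Subgroup G) (hNA : ∀ n ∈ N, ∀ a ∈ A, n * a = a * n) (w : G) : Subgroup G where
  carrier := {h | h ∈ normalizer (A : Set G) ∧ h ∈ normalizer (N : Set G) ∧
    ∃ a ∈ A, ∃ n ∈ N, h * w * h⁻¹ = n * (a * w * a⁻¹)}
  one_mem' := ⟨one_mem _, one_mem _, 1, one_mem _, 1, one_mem _, by group⟩
  mul_mem' := by
    rintro h h' ⟨h1, h2, a, ha, n, hn, h3⟩ ⟨h1', h2', a', ha', n', hn', h3'⟩
    refine ⟨mul_mem h1 h1', mul_mem h2 h2', (h * a' * h⁻¹) * a, mul_mem ((mem_normalizer_iff.1 h1 _).1 ha') ha,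
      (h * n' * h⁻¹) * n, mul_mem ((mem_normalizer_iff.1 h2 _).1 hn') hn, ?_⟩
    have h4 := hNA n hn (h * a' * h⁻¹) ((mem_normalizer_iff.1 h1 _).1 ha')
    calc h * h' * w * (h * h')⁻¹ = h * (h' * w * h'⁻¹) * h⁻¹ := by group
      _ = h * (n' * (a' * w * a'⁻¹)) * h⁻¹ := by rw [h3']
      _ = (h * n' * h⁻¹) * (h * a' * h⁻¹) * (h * w * h⁻¹) * (h * a' * h⁻¹)⁻¹ := by group
      _ = (h * n' * h⁻¹) * (h * a' * h⁻¹) * (n * (a * w * a⁻¹)) * (h * a' * h⁻¹)⁻¹ := by rw [h3]
      _ = (h * n' * h⁻¹) * ((h * a' * h⁻¹) * n) * (a * w * a⁻¹) * (h * a' * h⁻¹)⁻¹ := by group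
      _ = (h * n' * h⁻¹) * (n * (h * a' * h⁻¹)) * (a * w * a⁻¹) * (h * a' * h⁻¹)⁻¹ := by rw [h4]
      _ = _ := by group
  inv_mem' := by
    rintro h ⟨h1, h2, a, ha, n, hn, h3⟩
    have h1' := inv_mem h1
    have h2' := inv_mem h2
    have ha' := (mem_normalizer_iff.1 h1' _).1 ha
    have hn' := (mem_normalizer_iff.1 h2' _).1 hn
    rw [inv_inv] at ha' hn'
    refine ⟨h1', h2', (h⁻¹ * a * h)⁻¹, inv_mem ha', (h⁻¹ * n * h)⁻¹, inv_mem hn', ?_⟩
    have h4 := hNA _ (inv_mem hn') _ (inv_mem ha')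
    calc h⁻¹ * w * h⁻¹⁻¹ = h⁻¹ * (a⁻¹ * n⁻¹ * (n * (a * w * a⁻¹)) * a) * h := by group
      _ = h⁻¹ * (a⁻¹ * n⁻¹ * (h * w * h⁻¹) * a) * h := by rw [h3]
      _ = ((h⁻¹ * a * h)⁻¹ * (h⁻¹ * n * h)⁻¹) * w * (h⁻¹ * a * h) := by group
      _ = ((h⁻¹ * n * h)⁻¹ * (h⁻¹ * a * h)⁻¹) * w * (h⁻¹ * a * h) := by rw [h4]
      _ = _ := by group

theorem zg [Finite G] {A N : Subgroup G} (hA : IsQuasisimple ↥A) (hNA : ∀ n ∈ N, ∀ a ∈ A, n * a = a * n) {w : G}
    (hwA : w ∈ normalizer (A : Set G)) (hwN : w ∈ normalizer (N : Set G)) (hww : w * w ∈ N)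
    (hw : ∃ a ∈ A, w * a ≠ a * w) :
    ∃ a ∈ A, a * w * a⁻¹ * w⁻¹ ∉ N ∧ (a * w * a⁻¹) * w * (a * w * a⁻¹)⁻¹ * w⁻¹ ∈ N := by
  set H := big A N hNA w with hH
  have hAH : A ≤ H := by
    intro a ha
    refine ⟨le_normalizer ha, ?_, a, ha, 1, one_mem _, by group⟩
    rw [mem_normalizer_iff]
    intro x
    constructor
    · intro hx
      rw [← hNA x hx a ha, mul_inv_cancel_right]
      exact hx
    · intro hx
      have h1 := hNA _ hx a ha
      have h2 : x = a * x * a⁻¹ := by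
        have h3 : a * (a * x * a⁻¹) = a * (x) := by rw [← h1]; group
        exact (mul_left_cancel h3).symm
      rw [h2]
      exact hx
  have hNH : N ≤ H := by
    intro n hn
    refine ⟨?_, le_normalizer hn, 1, one_mem _, n * (w * n⁻¹ * w⁻¹), mul_mem hn ?_, by group⟩
    · rw [mem_normalizer_iff]
      intro x
      constructor
      · intro hx
        rw [hNA n hn x hx, mul_inv_cancel_right]
        exact hx
      · intro hx
        have h1 := hNA n hn _ hx
        have h2 : x = n * x * n⁻¹ := by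
          have h3 : n * (n * x * n⁻¹) = n * x := by rw [h1]; group
          exact (mul_left_cancel h3).symm
        rw [h2]
        exact hx
    · exact (mem_normalizer_iff.1 hwN _).1 (inv_mem hn)
  have hwH : w ∈ H := ⟨hwA, hwN, 1, one_mem _, 1, one_mem _, by group⟩
  have hNn : (N.subgroupOf H).Normal := by
    constructor
    intro n hn g
    rw [mem_subgroupOf] at hn ⊢
    exact (mem_normalizer_iff.1 g.2.2.1 _).1 hn
  have hmk : ∀ x y : ↥H, (QuotientGroup.mk x : ↥H ⧸ N.subgroupOf H) = QuotientGroup.mk y ↔ (x : G) * (y : G)⁻¹ ∈ N := by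
    intro x y
    rw [eq_comm, QuotientGroup.eq, mem_subgroupOf]
    constructor
    · intro h
      have h1 : ((y⁻¹ * x : ↥H) : G) = (y : G)⁻¹ * x := rfl
      rw [h1] at h
      have h2 := (mem_normalizer_iff.1 y.2.2.1 _).1 h
      have h3 : (y : G) * ((y : G)⁻¹ * x) * (y : G)⁻¹ = x * (y : G)⁻¹ := by group
      rwa [h3] at h2
    · intro h
      show (y : G)⁻¹ * x ∈ N
      rw [mem_normalizer_iff.1 y.2.2.1]
      have h3 : (y : G) * ((y : G)⁻¹ * x) * (y : G)⁻¹ = x * (y : G)⁻¹ := by group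
      rwa [h3]
  set W : ↥H ⧸ N.subgroupOf H := QuotientGroup.mk ⟨w, hwH⟩ with hW
  have hw1 : W ≠ 1 := by
    intro h
    rw [hW, ← QuotientGroup.mk_one, hmk] at h
    simp only [coe_one, inv_one, mul_one] at h
    obtain ⟨a, ha, hne⟩ := hw
    exact hne (hNA w h a ha)
  have hw2 : W * W = 1 := by
    rw [hW, ← QuotientGroup.mk_mul, ← QuotientGroup.mk_one, hmk]
    simp only [coe_one, inv_one, mul_one]
    exact hww
  rcases Cfsg.Agent.OddHalf.UQ4.zstar hw1 hw2 with ⟨g, h1, h2⟩ | ⟨M, hM, hodd, hc⟩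
  · obtain ⟨g, rfl⟩ := QuotientGroup.mk_surjective g
    obtain ⟨-, -, a, ha, n, hn, h3⟩ := g.2
    have e1 : QuotientGroup.mk g * W * (QuotientGroup.mk g)⁻¹ =
        (QuotientGroup.mk (⟨a * w * a⁻¹, mul_mem (mul_mem (hAH ha) hwH) (inv_mem (hAH ha))⟩ : ↥H) :
          ↥H ⧸ N.subgroupOf H) := by
      rw [hW, ← QuotientGroup.mk_mul, ← QuotientGroup.mk_inv, ← QuotientGroup.mk_mul, hmk]
      show (g : G) * w * (g : G)⁻¹ * (a * w * a⁻¹)⁻¹ ∈ N
      rw [h3, mul_inv_cancel_right]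
      exact hn
    rw [e1] at h1 h2
    refine ⟨a, ha, ?_, ?_⟩
    · intro h
      exact h1 (by rw [hW, hmk]; exact h)
    · rw [hW, ← QuotientGroup.mk_mul, ← QuotientGroup.mk_mul, hmk] at h2
      have h3 : (a * w * a⁻¹) * w * (w * (a * w * a⁻¹))⁻¹ ∈ N := h2
      have h4 : (a * w * a⁻¹) * w * (a * w * a⁻¹)⁻¹ * w⁻¹ = (a * w * a⁻¹) * w * (w * (a * w * a⁻¹))⁻¹ := by group
      rw [h4]
      exact h3
  · exfalso
    -- the homomorphism from `A` to the quotient
    let φ : ↥A →* ↥H ⧸ N.subgroupOf H := (QuotientGroup.mk' (N.subgroupOf H)).comp (inclusion hAH)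
    have hφ : ∀ a : ↥A, φ a = QuotientGroup.mk ⟨a, hAH a.2⟩ := fun a => rfl
    have hker : φ.ker ≤ center ↥A := by
      intro a ha
      rw [MonoidHom.mem_ker, hφ, ← QuotientGroup.mk_one, hmk] at ha
      simp only [coe_one, inv_one, mul_one] at ha
      rw [mem_center_iff]
      intro b
      exact Subtype.ext (hNA a ha b b.2).symm
    have hMn : (M.comap φ).Normal := inferInstance
    rcases Cfsg.Agent.SignalizersComponents.Components.quasisimple_normal hA (M.comap φ) hMn with h1 | h1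
    · -- `A` modulo a central subgroup has odd order
      have h2 : φ.range ≤ M := by
        rintro _ ⟨a, rfl⟩
        have : a ∈ M.comap φ := by rw [h1]; exact mem_top a
        exact this
      have h3 : Odd (Nat.card φ.range) := hodd.of_dvd_nat (card_dvd_of_le h2)
      have h4 : Group.IsSolvable φ.range := Cfsg.Agent.S0205.result h3
      have h5 : Group.IsSolvable ↥A := by
        refine (Group.isSolvable_iff_subgroup_quotient φ.ker).mpr ⟨?_, ?_⟩
        · apply Group.isSolvable_of_comm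
          intro a b
          exact Subtype.ext (mem_center_iff.1 (hker b.2) a)
        · exact Group.isSolvable_of_surjective (f := (QuotientGroup.quotientKerEquivRange φ).symm.toMonoidHom)
            (QuotientGroup.quotientKerEquivRange φ).symm.surjective
      have : Group.IsPerfect ↥A := hA.1
      have hnt : Nontrivial ↥A := by
        obtain ⟨a, ha, hne⟩ := hw
        refine ⟨⟨a, ha⟩, 1, fun h => hne ?_⟩
        have : a = 1 := congrArg Subtype.val h
        rw [this, mul_one, one_mul]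
      exact Group.IsPerfect.not_isSolvable ↥A h5
    · -- `[A, w]` is central
      have h2 : ∀ a : ↥A, w * a * w⁻¹ * (a : G)⁻¹ ∈ A ∧ ∀ b ∈ A, b * (w * a * w⁻¹ * (a : G)⁻¹) = (w * a * w⁻¹ * (a : G)⁻¹) * b := by
        intro a
        have h3 : w * a * w⁻¹ * (a : G)⁻¹ ∈ A := mul_mem ((mem_normalizer_iff.1 hwA _).1 a.2) (inv_mem a.2)
        refine ⟨h3, ?_⟩
        have h4 : (⟨_, h3⟩ : ↥A) ∈ M.comap φ := by
          rw [mem_comap, hφ]
          exact hc (QuotientGroup.mk ⟨a, hAH a.2⟩)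
        have h5 := mem_center_iff.1 (h1 h4)
        intro b hb
        exact congrArg Subtype.val (h5 ⟨b, hb⟩)
      let ψ : ↥A →* ↥(center ↥A) :=
        { toFun := fun a => ⟨⟨w * a * w⁻¹ * (a : G)⁻¹, (h2 a).1⟩, by
            rw [mem_center_iff]
            intro b
            exact Subtype.ext ((h2 a).2 b b.2)⟩
          map_one' := by
            apply Subtype.ext; apply Subtype.ext
            show w * 1 * w⁻¹ * (1 : G)⁻¹ = 1
            group
          map_mul' := by
            intro a b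
            apply Subtype.ext; apply Subtype.ext
            show w * (a * b) * w⁻¹ * ((a * b : ↥A) : G)⁻¹ = w * a * w⁻¹ * (a : G)⁻¹ * (w * b * w⁻¹ * (b : G)⁻¹)
            have h3 := (h2 b).2 (a : G)⁻¹ (inv_mem a.2)
            have e1 : (((a * b : ↥A) : G)) = a * b := rfl
            rw [e1]
            calc w * (a * b) * w⁻¹ * ((a : G) * b)⁻¹
                = (w * a * w⁻¹) * ((w * b * w⁻¹ * (b : G)⁻¹) * (a : G)⁻¹) := by group
              _ = (w * a * w⁻¹) * ((a : G)⁻¹ * (w * b * w⁻¹ * (b : G)⁻¹)) := by rw [h3]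
              _ = _ := by group }
      have h3 : ∀ a, ψ a = 1 := by
        intro a
        have h4 : a ∈ commutator ↥A := by rw [hA.1.commutator_eq_top]; exact mem_top a
        have h5 : commutator ↥A ≤ ψ.ker := by
          rw [_root_.commutator_def, Subgroup.commutator_le]
          intro x _ y _
          rw [MonoidHom.mem_ker, map_commutatorElement, commutatorElement_eq_one_iff_mul_comm]
          apply Subtype.ext
          exact mem_center_iff.1 (ψ y).2 (ψ x)
        exact h5 h4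
      obtain ⟨a, ha, hne⟩ := hw
      apply hne
      have h4 := congrArg (fun x : ↥(center ↥A) => ((x : ↥A) : G)) (h3 ⟨a, ha⟩)
      have h5 : w * a * w⁻¹ * a⁻¹ = 1 := h4
      rw [mul_inv_eq_one, mul_inv_eq_iff_eq_mul] at h5
      exact h5

end Cfsg.Agent.H297.ZG
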