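import Mathlib
import Cfsg.Agent.H297.Setup
import Cfsg.Agent.H297.ZG

/-!
# The configuration: conjugates of `z` commuting with `z`
-/

set_option autoImplicit false

namespace Cfsg.Agent.H297

open Subgroup Cfsg

section Basic

variable {G : Type*} [Group G]

theorem mem_nor [Finite G] {N : Subgroup G} {w : G} (h : ∀ n ∈ N, w * n * w⁻¹ ∈ N) : w ∈ normalizer (N : Set G) := by
  rw [mem_normalizer_iff]
  intro x
  refine ⟨h x, fun hx => ?_⟩
  have h1 := Tools.inv_conj (E := (N : Set G)) h _ hx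
  have e : w⁻¹ * (w * x * w⁻¹) * w = x := by group
  rwa [e] at h1

theorem mem_nor_comm [Finite G] {N : Subgroup G} {w : G} (h : ∀ n ∈ N, w * n = n * w) :
    w ∈ normalizer (N : Set G) :=
  mem_nor fun n hn => by rw [h n hn, mul_inv_cancel_right]; exact hn

theorem comm_zpowers {w ρ : G} (h : w * ρ = ρ * w) : ∀ n ∈ zpowers ρ, w * n = n * w := by
  rintro _ ⟨k, rfl⟩
  exact (Commute.zpow_right h k)

/-- A 2-group extended by a 2-element normalizing it. -/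
theorem join_two [Finite G] {N : Subgroup G} (hN : IsPGroup 2 N) {w : G} (hw : IsPGroup 2 (zpowers w))
    (h : ∀ n ∈ N, w * n * w⁻¹ ∈ N) : IsPGroup 2 ↥(zpowers w ⊔ N) :=
  hw.to_sup_of_normal_right' hN (zpowers_le.2 (mem_nor h))

theorem zpow_two_of_sq {y : G} (h : y * y = 1) : IsPGroup 2 (zpowers y) :=
  Tools.zpowers_two (N := ⊥) IsPGroup.of_bot (by rw [h]; exact one_mem _)

theorem zpow_two_of_mem {N : Subgroup G} (hN : IsPGroup 2 N) {y : G} (h : y ∈ N) : IsPGroup 2 (zpowers y) :=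
  hN.to_le (zpowers_le.2 h)

theorem join_comm [Finite G] {N : Subgroup G} (hN : IsPGroup 2 N) {w : G} (hw : IsPGroup 2 (zpowers w))
    (h : ∀ n ∈ N, w * n = n * w) : IsPGroup 2 ↥(zpowers w ⊔ N) :=
  join_two hN hw fun n hn => by rw [h n hn, mul_inv_cancel_right]; exact hn

theorem conj_zpowers_two {y : G} (h : IsPGroup 2 (zpowers y)) (g : G) : IsPGroup 2 (zpowers (g * y * g⁻¹)) := by
  have h1 : IsPGroup 2 ↥((zpowers y).map (MulAut.conj g).toMonoidHom) := h.map _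
  exact h1.to_le (zpowers_le.2 ⟨y, mem_zpowers y, rfl⟩)

end Basic

namespace Cfg

variable {G : Type*} [Group G] {A : Subgroup G} {T : Sylow 2 G} {z r : G}

theorem zi (C : Cfg A T z r) : z⁻¹ = z := inv_eq_of_mul_eq_one_left C.zz

theorem sq (C : Cfg A T z r) {y : G} (hy : IsConj z y) : y * y = 1 := by
  obtain ⟨g, rfl⟩ := isConj_iff.1 hy
  calc g * z * g⁻¹ * (g * z * g⁻¹) = g * (z * z) * g⁻¹ := by group
    _ = 1 := by rw [C.zz]; group

theorem inve (C : Cfg A T z r) {y : G} (hy : IsConj z y) : y⁻¹ = y := inv_eq_of_mul_eq_one_left (C.sq hy)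

theorem ne1 (C : Cfg A T z r) {y : G} (hy : IsConj z y) : y ≠ 1 := by
  obtain ⟨g, rfl⟩ := isConj_iff.1 hy
  intro h
  rw [mul_inv_eq_one, mul_eq_left] at h
  exact C.z1 h

theorem conj_mk {x y : G} (g : G) (hy : IsConj x y) : IsConj x (g * y * g⁻¹) :=
  hy.trans (isConj_iff.2 ⟨g, rfl⟩)

theorem zTm (C : Cfg A T z r) : z ∈ T := by
  rw [← C.rr]
  exact (T : Subgroup G).mul_mem C.rT C.rT

theorem rz (C : Cfg A T z r) : r * z = z * r := by
  rw [← C.rr, mul_assoc]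

theorem TN (C : Cfg A T z r) : (T : Subgroup G) ≤ normalizer (A : Set G) := fun t ht => C.CN t (C.Tz t ht)

/-- Elements normalizing `A` normalize `C(A)`. -/
theorem nK {g ρ : G} (hg : g ∈ normalizer (A : Set G)) (hρ : ∀ a ∈ A, ρ * a = a * ρ) :
    ∀ a ∈ A, (g * ρ * g⁻¹) * a = a * (g * ρ * g⁻¹) := by
  intro a ha
  have h1 := hρ (g⁻¹ * a * g) (by
    have := (mem_normalizer_iff.1 (inv_mem hg) a).1 ha
    rwa [inv_inv] at this)
  calc (g * ρ * g⁻¹) * a = g * (ρ * (g⁻¹ * a * g)) * g⁻¹ := by group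
    _ = g * ((g⁻¹ * a * g) * ρ) * g⁻¹ := by rw [h1]
    _ = _ := by group

theorem nA {g a : G} (hg : g ∈ normalizer (A : Set G)) (ha : a ∈ A) : g * a * g⁻¹ ∈ A :=
  (mem_normalizer_iff.1 hg a).1 ha

theorem nA' {g a : G} (hg : g ∈ normalizer (A : Set G)) (ha : a ∈ A) : g⁻¹ * a * g ∈ A := by
  have := (mem_normalizer_iff.1 (inv_mem hg) a).1 ha
  rwa [inv_inv] at this

theorem commR (C : Cfg A T z r) {ρ σ : G} (hρT : ρ ∈ T) (hρ : ∀ a ∈ A, ρ * a = a * ρ) (hσT : σ ∈ T)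
    (hσ : ∀ a ∈ A, σ * a = a * σ) : ρ * σ = σ * ρ := by
  have h4 : IsMulCommutative ↥((T : Subgroup G) ⊓ centralizer (A : Set G) : Subgroup G) := C.Rc.isMulCommutative
  exact congrArg Subtype.val (h4.is_comm.comm
    (⟨ρ, hρT, mem_centralizer_iff.2 fun a ha => (hρ a ha).symm⟩ :
      ↥((T : Subgroup G) ⊓ centralizer (A : Set G) : Subgroup G))
    ⟨σ, hσT, mem_centralizer_iff.2 fun a ha => (hσ a ha).symm⟩)

theorem mulK {ρ σ : G} (hρ : ∀ a ∈ A, ρ * a = a * ρ) (hσ : ∀ a ∈ A, σ * a = a * σ) :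
    ∀ a ∈ A, (ρ * σ) * a = a * (ρ * σ) := by
  intro a ha
  rw [mul_assoc, hσ a ha, ← mul_assoc, hρ a ha, mul_assoc]

theorem invK {ρ : G} (hρ : ∀ a ∈ A, ρ * a = a * ρ) : ∀ a ∈ A, ρ⁻¹ * a = a * ρ⁻¹ := by
  intro a ha
  have := hρ a ha
  rw [inv_mul_eq_iff_eq_mul, ← mul_assoc, this, mul_inv_cancel_right]

theorem sqrtR (C : Cfg A T z r) {ρ : G} (hρT : ρ ∈ T) (hρ : ∀ a ∈ A, ρ * a = a * ρ) (h : ρ * ρ = z) :
    ρ = r ∨ ρ = r * z := by
  have h2 := C.commR hρT hρ ((T : Subgroup G).inv_mem C.rT) (invK C.rK)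
  have h1 : (r⁻¹ * ρ) * (r⁻¹ * ρ) = 1 := by
    calc (r⁻¹ * ρ) * (r⁻¹ * ρ) = r⁻¹ * (ρ * r⁻¹) * ρ := by group
      _ = r⁻¹ * (r⁻¹ * ρ) * ρ := by rw [h2]
      _ = (r * r)⁻¹ * (ρ * ρ) := by group
      _ = 1 := by rw [C.rr, h, inv_mul_cancel]
  rcases C.R2 _ ((T : Subgroup G).mul_mem ((T : Subgroup G).inv_mem C.rT) hρT) (mulK (invK C.rK) hρ) h1 with h3 | h3
  · left; exact (inv_mul_eq_one.1 h3).symm
  · right; rw [← h3]; group

/-- Transport of a 2-subgroup centralizing a conjugate of `z`. -/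
theorem transport [Finite G] (C : Cfg A T z r) {y : G} (hy : IsConj z y) {U : Subgroup G} (hU : IsPGroup 2 U)
    (hUy : ∀ u ∈ U, u * y = y * u) : ∃ h : G, h * y * h⁻¹ = z ∧ ∀ u ∈ U, h * u * h⁻¹ ∈ T := by
  obtain ⟨g, rfl⟩ := isConj_iff.1 hy
  have hTC : (T : Subgroup G) ≤ centralizer {z} := fun t ht => mem_centralizer_singleton_iff.2 (C.Tz t ht)
  have h1 : IsPGroup 2 ↥(U.map (MulAut.conj g⁻¹).toMonoidHom) := hU.map _
  obtain ⟨h, hh, h2⟩ := Tools.syl_conj T (H := centralizer {z}) hTC h1 (by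
    rintro _ ⟨u, hu, rfl⟩
    rw [mem_centralizer_singleton_iff]
    show g⁻¹ * u * g⁻¹⁻¹ * z = z * (g⁻¹ * u * g⁻¹⁻¹)
    have h3 := hUy u hu
    calc g⁻¹ * u * g⁻¹⁻¹ * z = g⁻¹ * (u * (g * z * g⁻¹)) * g := by group
      _ = g⁻¹ * ((g * z * g⁻¹) * u) * g := by rw [h3]
      _ = _ := by group)
  rw [mem_centralizer_singleton_iff] at hh
  refine ⟨h * g⁻¹, ?_, fun u hu => ?_⟩
  · calc h * g⁻¹ * (g * z * g⁻¹) * (h * g⁻¹)⁻¹ = (h * z) * h⁻¹ := by group
      _ = (z * h) * h⁻¹ := by rw [hh]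
      _ = z := by group
  · have h3 := h2 _ ⟨u, hu, rfl⟩
    have h4 : h * (g⁻¹ * u * g⁻¹⁻¹) * h⁻¹ ∈ T := h3
    have e : h * g⁻¹ * u * (h * g⁻¹)⁻¹ = h * (g⁻¹ * u * g⁻¹⁻¹) * h⁻¹ := by group
    rw [e]
    exact h4

theorem eq_z_of_conj (C : Cfg A T z r) {h y : G} (hh : h * z * h⁻¹ = z) (hy : h * y * h⁻¹ = z) : y = z := by
  have e : y = h⁻¹ * (h * y * h⁻¹) * h := by group
  rw [e, hy]
  nth_rewrite 1 [← hh]
  group

/-- **(sing)** The only conjugate of `z` commuting with an element of order 4 of `K` with square `z` is `z`. -/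
theorem sing [Finite G] (C : Cfg A T z r) {ρ y : G} (hρ : ∀ a ∈ A, ρ * a = a * ρ) (hρρ : ρ * ρ = z)
    (hy : IsConj z y) (h : y * ρ = ρ * y) : y = z := by
  have h1 : IsPGroup 2 (zpowers ρ) := Tools.zpowers_two (N := zpowers z) (zpow_two_of_sq C.zz)
    (by rw [hρρ]; exact mem_zpowers z)
  have h2 := join_comm h1 (zpow_two_of_sq (C.sq hy)) (comm_zpowers h)
  have hρz : ρ * z = z * ρ := by rw [← hρρ, mul_assoc]
  have hyz : y * z = z * y := by rw [← hρρ, ← mul_assoc, h, mul_assoc, h, mul_assoc]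
  obtain ⟨k, hk, hkU⟩ := C.transport (IsConj.refl z) h2 (by
    have : zpowers y ⊔ zpowers ρ ≤ centralizer {z} := by
      rw [sup_le_iff, zpowers_le, zpowers_le, mem_centralizer_singleton_iff, mem_centralizer_singleton_iff]
      exact ⟨hyz, hρz⟩
    intro u hu
    exact mem_centralizer_singleton_iff.1 (this hu))
  have hkz : k * z = z * k := by rw [mul_inv_eq_iff_eq_mul] at hk; exact hk
  have h3 := hkU _ (mem_sup_left (mem_zpowers y))
  have h4 := hkU _ (mem_sup_right (mem_zpowers ρ))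
  have h5 := nK (C.CN k hkz) hρ
  have h6 : k * y * k⁻¹ = z := by
    by_contra hne
    have h7 := C.inv _ h3 (conj_mk k hy) hne
    have h8 : (k * y * k⁻¹) * r * (k * y * k⁻¹)⁻¹ = r := by
      have h9 : (k * y * k⁻¹) * (k * ρ * k⁻¹) = (k * ρ * k⁻¹) * (k * y * k⁻¹) := by
        calc (k * y * k⁻¹) * (k * ρ * k⁻¹) = k * (y * ρ) * k⁻¹ := by group
          _ = k * (ρ * y) * k⁻¹ := by rw [h]
          _ = _ := by group
      rcases C.sqrtR h4 h5 (by
        calc k * ρ * k⁻¹ * (k * ρ * k⁻¹) = k * (ρ * ρ) * k⁻¹ := by group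
          _ = z := by rw [hρρ, hk]) with h10 | h10
      · rw [mul_inv_eq_iff_eq_mul, ← h10, h9]
      · have h11 : r = (k * ρ * k⁻¹) * z := by
          rw [h10, mul_assoc, C.zz, mul_one]
        rw [mul_inv_eq_iff_eq_mul, h11]
        calc k * y * k⁻¹ * (k * ρ * k⁻¹ * z) = (k * y * k⁻¹ * (k * ρ * k⁻¹)) * z := by group
          _ = (k * ρ * k⁻¹) * ((k * y * k⁻¹) * z) := by rw [h9]; group
          _ = (k * ρ * k⁻¹) * (z * (k * y * k⁻¹)) := by rw [C.Tz _ h3]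
          _ = _ := by group
    rw [h7, mul_eq_left] at h8
    exact C.z1 h8
  exact C.eq_z_of_conj hk h6

/-- A conjugate of `z` commuting with `z` is moved by an element of `K`. -/
theorem flip [Finite G] (C : Cfg A T z r) {y : G} (hy : IsConj z y) (hyz : y ≠ z) (h : y * z = z * y) :
    ∃ ρ : G, (∀ a ∈ A, ρ * a = a * ρ) ∧ ρ * ρ = z ∧ ρ * y * ρ⁻¹ = y * z := by
  obtain ⟨k, hk, hkU⟩ := C.transport (IsConj.refl z) (zpow_two_of_sq (C.sq hy)) (by
    intro u hu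
    exact (comm_zpowers h.symm u hu).symm)
  have hkz : k * z = z * k := by rw [mul_inv_eq_iff_eq_mul] at hk; exact hk
  have h3 := hkU _ (mem_zpowers y)
  have hne : k * y * k⁻¹ ≠ z := fun h4 => hyz (C.eq_z_of_conj hk h4)
  have h4 := C.inv _ h3 (conj_mk k hy) hne
  have hkN := C.CN k hkz
  refine ⟨k⁻¹ * r * k, ?_, ?_, ?_⟩
  · have := nK (inv_mem hkN) C.rK
    rwa [inv_inv] at this
  · calc k⁻¹ * r * k * (k⁻¹ * r * k) = k⁻¹ * (r * r) * k := by group
      _ = k⁻¹ * (k * z) := by rw [C.rr, mul_assoc, hkz]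
      _ = z := by group
  · -- `y' r y'⁻¹ = r z`
    have h5 : r * (k * y * k⁻¹) * r⁻¹ = (k * y * k⁻¹) * z := by
      have h6 : (k * y * k⁻¹) * r = r * z * (k * y * k⁻¹) := by
        rw [mul_inv_eq_iff_eq_mul] at h4
        exact h4
      have h7 : r * (k * y * k⁻¹) = (k * y * k⁻¹) * z * r := by
        calc r * (k * y * k⁻¹) = (z * z) * (r * (k * y * k⁻¹)) := by rw [C.zz, one_mul]
          _ = z * ((z * r) * (k * y * k⁻¹)) := by group
          _ = z * (r * z * (k * y * k⁻¹)) := by rw [C.rz]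
          _ = z * ((k * y * k⁻¹) * r) := by rw [h6]
          _ = (z * (k * y * k⁻¹)) * r := by group
          _ = ((k * y * k⁻¹) * z) * r := by rw [C.Tz _ h3]
      rw [h7, mul_inv_cancel_right]
    calc k⁻¹ * r * k * y * (k⁻¹ * r * k)⁻¹ = k⁻¹ * (r * (k * y * k⁻¹) * r⁻¹) * k := by group
      _ = k⁻¹ * ((k * y * k⁻¹) * z) * k := by rw [h5]
      _ = y * (k⁻¹ * (z * k)) := by group
      _ = y * (k⁻¹ * (k * z)) := by rw [hkz]
      _ = y * z := by group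

/-- **(F9)** The product of two distinct commuting conjugates of `z` is a conjugate of `z`. -/
theorem prod_conj [Finite G] (C : Cfg A T z r) {x y : G} (hx : IsConj z x) (hy : IsConj z y) (hxy : x * y = y * x)
    (hne : x ≠ y) : IsConj z (x * y) := by
  obtain ⟨g, rfl⟩ := isConj_iff.1 hx
  have h1 : IsConj z (g⁻¹ * y * g) := by
    have := conj_mk g⁻¹ hy
    rwa [inv_inv] at this
  have h2 : g⁻¹ * y * g ≠ z := by
    intro h
    apply hne
    rw [← h]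
    group
  obtain ⟨ρ, -, -, h3⟩ := C.flip h1 h2 (by
    calc g⁻¹ * y * g * z = g⁻¹ * (y * (g * z * g⁻¹)) * g := by group
      _ = g⁻¹ * ((g * z * g⁻¹) * y) * g := by rw [hxy]
      _ = _ := by group)
  have h4 : IsConj z ((g⁻¹ * y * g) * z) := by rw [← h3]; exact conj_mk ρ h1
  have h5 := conj_mk g h4
  have e : g * ((g⁻¹ * y * g) * z) * g⁻¹ = g * z * g⁻¹ * y := by
    rw [hxy]
    group
  rwa [e] at h5

/-- **(Char)** -/
theorem char [Finite G] (C : Cfg A T z r) {y : G} (hy : IsConj z y) {U : Subgroup G} (hU : IsPGroup 2 U)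
    (hUy : ∀ u ∈ U, u * y = y * u) :
    ∃ σ : G, σ * σ = y ∧ (∀ u ∈ U, u * σ * u⁻¹ = σ ∨ u * σ * u⁻¹ = σ * y) ∧
      (∀ x ∈ U, IsConj z x → x ≠ y → x * σ * x⁻¹ = σ * y) ∧
      ∃ g : G, g * z * g⁻¹ = y ∧ ∀ a ∈ A, (g⁻¹ * σ * g) * a = a * (g⁻¹ * σ * g) := by
  obtain ⟨h, hh, hhU⟩ := C.transport hy hU hUy
  have e0 : y = h⁻¹ * z * h := by rw [← hh]; group
  refine ⟨h⁻¹ * r * h, ?_, ?_, ?_, h⁻¹, ?_, ?_⟩
  · calc h⁻¹ * r * h * (h⁻¹ * r * h) = h⁻¹ * (r * r) * h := by group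
      _ = y := by rw [C.rr, e0]
  · intro u hu
    have h1 : ∀ w : G, u * (h⁻¹ * w * h) * u⁻¹ = h⁻¹ * ((h * u * h⁻¹) * w * (h * u * h⁻¹)⁻¹) * h := by
      intro w; group
    rcases C.Tr _ (hhU u hu) with h2 | h2
    · left
      rw [h1, h2]
    · right
      rw [h1, h2, e0]
      group
  · intro x hxU hx hxy
    have h1 : ∀ w : G, x * (h⁻¹ * w * h) * x⁻¹ = h⁻¹ * ((h * x * h⁻¹) * w * (h * x * h⁻¹)⁻¹) * h := by
      intro w; group
    rw [h1, C.inv _ (hhU x hxU) (conj_mk h hx), e0]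
    · group
    · intro h2
      apply hxy
      rw [e0, ← h2]
      group
  · rw [inv_inv]
    exact e0.symm
  · intro a ha
    have e : h⁻¹⁻¹ * (h⁻¹ * r * h) * h⁻¹ = r := by group
    rw [e]
    exact C.rK a ha

theorem yy_ne {σ y : G} (h : σ = σ * y) : y = 1 := by
  rw [left_eq_mul] at h
  exact h

/-- The map given by the action on `σ` is multiplicative. -/
theorem char_mul {U : Subgroup G} {σ y : G} (hyy : y * y = 1)
    (hUy : ∀ u ∈ U, u * y = y * u) (h : ∀ u ∈ U, u * σ * u⁻¹ = σ ∨ u * σ * u⁻¹ = σ * y) {u v : G} (hu : u ∈ U)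
    (hv : v ∈ U) : ((u * v) * σ * (u * v)⁻¹ = σ ↔ (u * σ * u⁻¹ = σ ↔ v * σ * v⁻¹ = σ)) := by
  have e : ∀ w : G, (u * v) * w * (u * v)⁻¹ = u * (v * w * v⁻¹) * u⁻¹ := fun w => by group
  have huy : u * y * u⁻¹ = y := by rw [mul_inv_eq_iff_eq_mul, hUy u hu]
  have e2 : u * (σ * y) * u⁻¹ = (u * σ * u⁻¹) * y := by
    calc u * (σ * y) * u⁻¹ = (u * σ * u⁻¹) * (u * y * u⁻¹) := by group
      _ = _ := by rw [huy]
  rw [e]
  by_cases hy1 : y = 1
  · subst hy1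
    have h1 := h u hu
    have h2 := h v hv
    rw [mul_one, or_self] at h1 h2
    rw [h2, h1]
    simp
  rcases h u hu with h1 | h1 <;> rcases h v hv with h2 | h2
  · rw [h2, h1]
    simp
  · rw [h2, e2, h1]
    constructor
    · intro h3; exact absurd (mul_eq_left.1 h3) hy1
    · intro h3; exact absurd (mul_eq_left.1 (h3.1 rfl)) hy1
  · rw [h2, h1]
    constructor
    · intro h3; exact absurd (mul_eq_left.1 h3) hy1
    · intro h3; exact absurd (mul_eq_left.1 (h3.2 rfl)) hy1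
  · rw [h2, e2, h1, mul_assoc, hyy, mul_one]
    simp

/-- **(F15)** -/
theorem sqf [Finite G] (C : Cfg A T z r) {y v : G} (hy : IsConj z y) (hyz : y ≠ z) (hvy : v * y = y * v)
    (hv : v * v = z) : False := by
  have h1 : IsPGroup 2 (zpowers v) := Tools.zpowers_two (N := zpowers z) (zpow_two_of_sq C.zz)
    (by rw [hv]; exact mem_zpowers z)
  have hUy : ∀ u ∈ zpowers v, u * y = y * u := fun u hu => (comm_zpowers hvy.symm u hu).symm
  obtain ⟨σ, hσ, h2, h3, -⟩ := C.char hy h1 hUy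
  have hzU : z ∈ zpowers v := by rw [← hv]; exact mul_mem (mem_zpowers v) (mem_zpowers v)
  have h4 := h3 z hzU (IsConj.refl z) hyz.symm
  have h5 := (char_mul (C.sq hy) hUy h2 (mem_zpowers v) (mem_zpowers v)).2 Iff.rfl
  rw [hv, h4, mul_eq_left] at h5
  exact C.ne1 hy h5

/-- **(comm)** -/
theorem comf [Finite G] (C : Cfg A T z r) {y u v : G} {U : Subgroup G} (hU : IsPGroup 2 U)
    (hUy : ∀ u ∈ U, u * y = y * u) (hy : IsConj z y) (hyz : y ≠ z) (hu : u ∈ U) (hv : v ∈ U)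
    (h : u * v * u⁻¹ = v * z) : False := by
  obtain ⟨σ, hσ, h2, h3, -⟩ := C.char hy hU hUy
  have hz : z = v⁻¹ * (u * v * u⁻¹) := by rw [h]; group
  have hzU : z ∈ U := by
    rw [hz]
    exact U.mul_mem (U.inv_mem hv) (U.mul_mem (U.mul_mem hu hv) (U.inv_mem hu))
  have h4 := h3 z hzU (IsConj.refl z) hyz.symm
  have h5 := char_mul (C.sq hy) hUy h2 hu hv
  have h6 := char_mul (C.sq hy) hUy h2 (U.mul_mem hv hzU) hu
  have h7 := char_mul (C.sq hy) hUy h2 hv hzU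
  have e : u * v = v * z * u := by rw [← h]; group
  rw [e] at h5
  have h8 : ¬ (z * σ * z⁻¹ = σ) := by
    rw [h4, mul_eq_left]
    exact C.ne1 hy
  tauto

end Cfg

end Cfsg.Agent.H297
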