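import Mathlib
import Cfsg.Agent.H297.CfgB

/-!
# The configuration: the cyclic group `F` of the products of two elements of `𝒟`
-/

set_option autoImplicit false

namespace Cfsg.Agent.H297

open Subgroup Cfsg

namespace Cfg

variable {G : Type*} [Group G] {A : Subgroup G} {T : Sylow 2 G} {z r : G}

theorem dd_conj (C : Cfg A T z r) {y t : G} (hy : DD T z y) (ht : t ∈ T) : DD T z (t * y * t⁻¹) := by
  refine ⟨(T : Subgroup G).mul_mem ((T : Subgroup G).mul_mem ht hy.1) ((T : Subgroup G).inv_mem ht),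
    conj_mk t hy.2.1, fun h => hy.2.2 ?_⟩
  rw [mul_inv_eq_iff_eq_mul, ← C.Tz t ht] at h
  exact mul_left_cancel h

theorem dd_of (C : Cfg A T z r) {y : G} (hyT : y ∈ T) (hy : IsConj z y) (h : y * r * y⁻¹ = r * z) : DD T z y := by
  refine ⟨hyT, hy, ?_⟩
  rintro rfl
  rw [← C.rz, mul_inv_cancel_right] at h
  exact C.z1 (left_eq_mul.1 h)

theorem dd_inv (C : Cfg A T z r) {y : G} (hy : DD T z y) : y * r * y⁻¹ = r * z := C.inv y hy.1 hy.2.1 hy.2.2

theorem dd_mul_r (C : Cfg A T z r) {x y : G} (hx : DD T z x) (hy : DD T z y) : (x * y) * r = r * (x * y) := by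
  have h1 := C.dd_inv hx
  have h2 := C.dd_inv hy
  have h3 : (x * y) * r * (x * y)⁻¹ = r := by
    calc (x * y) * r * (x * y)⁻¹ = x * (y * r * y⁻¹) * x⁻¹ := by group
      _ = (x * r * x⁻¹) * ((x * z) * x⁻¹) := by rw [h2]; group
      _ = r * z * (z * x * x⁻¹) := by rw [h1, C.Tz x hx.1]
      _ = r * (z * z) := by group
      _ = r := by rw [C.zz, mul_one]
  rw [mul_inv_eq_iff_eq_mul] at h3
  exact h3

theorem dd_mul_inv (C : Cfg A T z r) {x y : G} (hx : DD T z x) (hy : DD T z y) : x * (x * y) * x⁻¹ = (x * y)⁻¹ := by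
  rw [mul_inv_rev, C.inve hx.2.1, C.inve hy.2.1, ← mul_assoc, C.sq hx.2.1, one_mul]

/-- **(F8)** -/
theorem f8 [Finite G] (C : Cfg A T z r) {x y : G} (hx : DD T z x) (hy : DD T z y) (hxy : x ≠ y) :
    ∃ m : ℕ, (x * y) ^ m = z := by
  have hxx := C.sq hx.2.1
  have hxi := C.inve hx.2.1
  have hyy := C.sq hy.2.1
  have hyi := C.inve hy.2.1
  have hf1 : x * y ≠ 1 := by
    intro h
    apply hxy
    rw [mul_eq_one_iff_eq_inv, hyi] at h
    exact h
  obtain ⟨m, hm1, hm2⟩ := Setup.exists_inv T.2 ((T : Subgroup G).mul_mem hx.1 hy.1) hf1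
  refine ⟨m, ?_⟩
  have hinv := C.dd_mul_inv hx hy
  have hi : ((x * y) ^ m)⁻¹ = (x * y) ^ m := inv_eq_of_mul_eq_one_left hm2
  have hxi' : x * (x * y) ^ m = (x * y) ^ m * x := by
    have h1 : x * (x * y) ^ m * x⁻¹ = (x * y) ^ m := by rw [← conj_pow, hinv, inv_pow, hi]
    rw [mul_inv_eq_iff_eq_mul] at h1
    exact h1
  have hyi' : y * (x * y) ^ m = (x * y) ^ m * y := by
    have h1 : (x * y) * (x * y) ^ m = (x * y) ^ m * (x * y) := (pow_mul_comm' (x * y) m).symm
    have h2 : x * (y * (x * y) ^ m) = x * ((x * y) ^ m * y) := by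
      calc x * (y * (x * y) ^ m) = (x * y) * (x * y) ^ m := by group
        _ = (x * y) ^ m * (x * y) := h1
        _ = ((x * y) ^ m * x) * y := by group
        _ = x * ((x * y) ^ m * y) := by rw [← hxi']; group
    exact mul_left_cancel h2
  have hc : IsConj z ((x * y) ^ m) := by
    rcases Nat.even_or_odd' m with ⟨l, hl | hl⟩
    · have h1 : IsConj z ((x * y) ^ m * x) := by
        have h2 : (x * y) ^ m * x = (x * y) ^ l * x * ((x * y) ^ l)⁻¹ := by
          have h3 : x * ((x * y) ^ l)⁻¹ * x⁻¹ = (x * y) ^ l := by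
            rw [← inv_pow, ← conj_pow]
            have h4 : x * (x * y)⁻¹ * x⁻¹ = x * y := by
              rw [mul_inv_rev, hxi, hyi]
              calc x * (y * x) * x = x * y * (x * x) := by group
                _ = x * y := by rw [hxx, mul_one]
            rw [h4]
          calc (x * y) ^ m * x = (x * y) ^ l * (x * y) ^ l * x := by rw [hl, two_mul, pow_add]
            _ = (x * y) ^ l * (x * ((x * y) ^ l)⁻¹ * x⁻¹) * x := by rw [h3]
            _ = _ := by group
        rw [h2]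
        exact conj_mk _ hx.2.1
      have h2 := C.prod_conj h1 hx.2.1 (by rw [← mul_assoc, hxi']) (by
        intro h; exact hm1 (mul_eq_right.1 h))
      rwa [mul_assoc, hxx, mul_one] at h2
    · have h1 : IsConj z ((x * y) ^ m * y) := by
        rw [hl, odd_pow hxx hyy]
        exact conj_mk _ hx.2.1
      have h2 := C.prod_conj h1 hy.2.1 (by rw [← mul_assoc, hyi']) (by
        intro h; exact hm1 (mul_eq_right.1 h))
      rwa [mul_assoc, hyy, mul_one] at h2
  apply C.sing C.rK C.rr hc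
  exact (Commute.pow_left (show Commute (x * y) r from C.dd_mul_r hx hy) m)

theorem zp_inv [Finite G] {g i z : G} (hz1 : z ≠ 1) (hzz : z * z = 1) (hzg : z ∈ zpowers g) (hi : i ∈ zpowers g)
    (hii : i * i = 1) : i = 1 ∨ i = z := by
  rcases Setup.cyc_inv (C := ↥(zpowers g)) (z := ⟨z, hzg⟩) (x := ⟨i, hi⟩) (fun h => hz1 (congrArg Subtype.val h))
    (Subtype.ext hzz) (Subtype.ext hii) with h | h
  · exact Or.inl (congrArg Subtype.val h)
  · exact Or.inr (congrArg Subtype.val h)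

/-- The powers of the elements of `B`. -/
theorem dd_zpow (C : Cfg A T z r) {x c : G} (hx : DD T z x) (hc : DD T z (x * c)) (n : ℤ) : DD T z (x * c ^ n) := by
  have hxx := C.sq hx.2.1
  have hxi := C.inve hx.2.1
  have hcT : c ∈ T := by
    have : c = x * (x * c) := by rw [← mul_assoc, hxx, one_mul]
    rw [this]
    exact (T : Subgroup G).mul_mem hx.1 hc.1
  have hcr : c * r = r * c := by
    have h1 := C.dd_mul_r hx hc
    rwa [← mul_assoc, hxx, one_mul] at h1
  have hinv : x * c * x⁻¹ = c⁻¹ := by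
    have h1 := C.dd_mul_inv hx hc
    rwa [← mul_assoc x x c, hxx, one_mul] at h1
  have hpow : ∀ l : ℤ, c ^ (-l) * x = x * c ^ l := by
    intro l
    have h1 : x * c ^ l * x⁻¹ = c ^ (-l) := by rw [← conj_zpow, hinv, inv_zpow, zpow_neg]
    rw [← h1, inv_mul_cancel_right]
  apply C.dd_of ((T : Subgroup G).mul_mem hx.1 ((T : Subgroup G).zpow_mem hcT n))
  · rcases Int.even_or_odd' n with ⟨l, rfl | rfl⟩
    · have h1 : x * c ^ (2 * l) = c ^ (-l) * x * (c ^ (-l))⁻¹ := by
        rw [hpow, zpow_neg, inv_inv, mul_assoc, ← zpow_add, two_mul]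
      rw [h1]
      exact conj_mk _ hx.2.1
    · have h1 : x * c ^ (2 * l + 1) = c ^ (-l) * (x * c) * (c ^ (-l))⁻¹ := by
        rw [← mul_assoc, hpow, zpow_neg, inv_inv, mul_assoc, mul_assoc, ← zpow_one_add, ← zpow_add]
        congr 2
        ring
      rw [h1]
      exact conj_mk _ hc.2.1
  · have h1 : c ^ n * r = r * c ^ n := (Commute.zpow_left (show Commute c r from hcr) n)
    calc x * c ^ n * r * (x * c ^ n)⁻¹ = x * (c ^ n * r) * (c ^ n)⁻¹ * x⁻¹ := by group
      _ = x * r * x⁻¹ := by rw [h1]; group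
      _ = r * z := C.dd_inv hx

theorem dd_xz [Finite G] (C : Cfg A T z r) {x : G} (hx : DD T z x) : DD T z (x * z) := by
  have h1 := C.dd_conj hx C.rT
  have h2 : r * x * r⁻¹ = x * z := by
    have h3 := C.dd_inv hx
    rw [mul_inv_eq_iff_eq_mul] at h3
    have h4 : x * r = r * x * z := by rw [h3, mul_assoc, mul_assoc, C.Tz x hx.1]
    have h5 : r * x = x * z * r := by
      calc r * x = r * x * (z * z) := by rw [C.zz, mul_one]
        _ = (r * x * z) * z := by group
        _ = x * r * z := by rw [h4]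
        _ = x * z * r := by rw [mul_assoc, C.rz, mul_assoc]
    rw [h5, mul_inv_cancel_right]
  rwa [h2] at h1

theorem dd_sq [Finite G] (C : Cfg A T z r) {x c d : G} (hx : DD T z x) (hc : DD T z (x * c)) (hd : DD T z (x * d))
    (h : c * c = d * d) : d = c ∨ d = c * z := by
  have hxx := C.sq hx.2.1
  have hxi := C.inve hx.2.1
  have hcinv : x * c * x⁻¹ = c⁻¹ := by
    have h1 := C.dd_mul_inv hx hc
    rwa [← mul_assoc x x c, hxx, one_mul] at h1
  have hdinv : x * d * x⁻¹ = d⁻¹ := by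
    have h1 := C.dd_mul_inv hx hd
    rwa [← mul_assoc x x d, hxx, one_mul] at h1
  by_cases hcd : d = c
  · exact Or.inl hcd
  right
  have hg : (x * c) * (x * d) = c⁻¹ * d := by
    rw [← hcinv, hxi]
    group
  obtain ⟨m, hm⟩ := C.f8 hc hd (fun h => hcd (mul_left_cancel h).symm)
  rw [hg] at hm
  have hxg : x * (c⁻¹ * d) = (c⁻¹ * d) * x := by
    have h1 : x * (c⁻¹ * d) * x⁻¹ = c⁻¹ * d := by
      calc x * (c⁻¹ * d) * x⁻¹ = (x * c * x⁻¹)⁻¹ * (x * d * x⁻¹) := by group
        _ = c⁻¹ * (c * c) * d⁻¹ := by rw [hcinv, hdinv]; group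
        _ = c⁻¹ * (d * d) * d⁻¹ := by rw [h]
        _ = _ := by group
    rw [mul_inv_eq_iff_eq_mul] at h1
    exact h1
  have hgT : c⁻¹ * d ∈ T := by
    rw [← hg]
    exact (T : Subgroup G).mul_mem hc.1 hd.1
  have hzg : z ∈ zpowers (c⁻¹ * d) := by rw [← hm]; exact pow_mem (mem_zpowers _) m
  by_cases hgg : (c⁻¹ * d) * (c⁻¹ * d) = 1
  · rcases zp_inv C.z1 C.zz hzg (mem_zpowers _) hgg with h1 | h1
    · exact absurd (inv_mul_eq_one.1 h1).symm hcd
    · rw [← h1]
      group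
  · exfalso
    obtain ⟨l, hl1, hl2⟩ := Setup.exists_inv T.2 ((T : Subgroup G).mul_mem hgT hgT) hgg
    rcases zp_inv C.z1 C.zz hzg (pow_mem (mul_mem (mem_zpowers _) (mem_zpowers _)) l) hl2 with h1 | h1
    · exact hl1 h1
    · apply C.sqf hx.2.1 hx.2.2 (v := (c⁻¹ * d) ^ l)
      · exact (Commute.pow_left (show Commute (c⁻¹ * d) x from hxg.symm) l)
      · rw [← h1, (Commute.refl (c⁻¹ * d)).mul_pow]

/-- **(F17)** The products form a cyclic group. -/
theorem exists_f [Finite G] (C : Cfg A T z r) {x : G} (hx : DD T z x) :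
    ∃ f : G, ∀ c : G, c ∈ zpowers f ↔ DD T z (x * c) := by
  have hxx := C.sq hx.2.1
  have hxi := C.inve hx.2.1
  have hcT : ∀ c, DD T z (x * c) → c ∈ T := by
    intro c hc
    have : c = x * (x * c) := by rw [← mul_assoc, hxx, one_mul]
    rw [this]
    exact (T : Subgroup G).mul_mem hx.1 hc.1
  obtain ⟨f, hf, hmax⟩ := Set.exists_max_image {c : G | DD T z (x * c)} orderOf (Set.toFinite _) ⟨z, C.dd_xz hx⟩
  have hf' : DD T z (x * f) := hf
  refine ⟨f, fun c => ⟨?_, ?_⟩⟩
  · rintro ⟨n, rfl⟩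
    exact C.dd_zpow hx hf' n
  · -- `z ∈ ⟨f⟩`
    have hf1 : f ≠ 1 := by
      rintro rfl
      have h1 := hmax z (C.dd_xz hx)
      rw [orderOf_one] at h1
      have h2 : orderOf z = 2 := orderOf_eq_prime (by rw [pow_two, C.zz]) C.z1
      omega
    have hzf : z ∈ zpowers f := by
      obtain ⟨m, hm⟩ := C.f8 hx hf' (fun h => hf1 (left_eq_mul.1 h))
      rw [← mul_assoc, hxx, one_mul] at hm
      rw [← hm]
      exact pow_mem (mem_zpowers _) m
    have key : ∀ n : ℕ, ∀ d : G, DD T z (x * d) → orderOf d = 2 ^ n → d ∈ zpowers f := by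
      intro n
      induction n with
      | zero =>
        intro d _ h
        rw [pow_zero, orderOf_eq_one_iff] at h
        rw [h]
        exact one_mem _
      | succ n ih =>
        intro d hd h
        have h1 : DD T z (x * (d * d)) := by
          have := C.dd_zpow hx hd 2
          rwa [zpow_two] at this
        have h2 : orderOf (d * d) = 2 ^ n := by
          rw [← pow_two, orderOf_pow, h]
          have : Nat.gcd (2 ^ (n + 1)) 2 = 2 := Nat.gcd_eq_right (Dvd.intro_left _ rfl)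
          rw [this, pow_succ, Nat.mul_div_cancel _ (by norm_num)]
        have h3 := ih _ h1 h2
        rw [← mem_powers_iff_mem_zpowers] at h3
        obtain ⟨j, hj⟩ := h3
        have hj' : f ^ j = d * d := hj
        rcases Nat.even_or_odd' j with ⟨l, rfl | rfl⟩
        · have h4 : f ^ l * f ^ l = d * d := by rw [← hj', ← pow_add, two_mul]
          have h5 : DD T z (x * f ^ l) := by
            have := C.dd_zpow hx hf' l
            rwa [zpow_natCast] at this
          rcases C.dd_sq hx h5 hd h4 with h6 | h6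
          · rw [h6]
            exact pow_mem (mem_zpowers f) l
          · rw [h6]
            exact mul_mem (pow_mem (mem_zpowers f) l) hzf
        · exfalso
          obtain ⟨N, hN⟩ := (IsPGroup.iff_orderOf.1 T.2) ⟨f, hcT f hf'⟩
          have hN' : orderOf f = 2 ^ N := by
            rw [← hN]
            exact Subgroup.orderOf_coe (⟨f, hcT f hf'⟩ : ↥(T : Subgroup G))
          have h4 : orderOf (f ^ (2 * l + 1)) = orderOf f := by
            rw [orderOf_pow, hN']
            have : Nat.gcd (2 ^ N) (2 * l + 1) = 1 := by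
              apply Nat.Coprime.pow_left
              rw [Nat.coprime_two_left]
              exact ⟨l, rfl⟩
            rw [this, Nat.div_one]
          rw [hj', h2] at h4
          have h5 := hmax d hd
          rw [h, ← h4, pow_succ] at h5
          have h6 : 0 < 2 ^ n := by positivity
          omega
    intro hc
    obtain ⟨n, hn⟩ := (IsPGroup.iff_orderOf.1 T.2) ⟨c, hcT c hc⟩
    apply key n c hc
    rw [← hn]
    exact Subgroup.orderOf_coe (⟨c, hcT c hc⟩ : ↥(T : Subgroup G))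

end Cfg

/-- The configuration with a generator of `F`. -/
structure CF {G : Type*} [Group G] (A : Subgroup G) (T : Sylow 2 G) (z r x f : G) : Prop extends Cfg A T z r where
  hx : DD T z x
  hf : ∀ c : G, c ∈ zpowers f ↔ DD T z (x * c)

theorem Cfg.exists_CF {G : Type*} [Group G] [Finite G] {A : Subgroup G} {T : Sylow 2 G} {z r : G}
    (C : Cfg A T z r) : ∃ x f : G, CF A T z r x f := by
  obtain ⟨x, hx⟩ := C.ne
  obtain ⟨f, hf⟩ := C.exists_f hx
  exact ⟨x, f, ⟨C, hx, hf⟩⟩

namespace CF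

variable {G : Type*} [Group G] {A : Subgroup G} {T : Sylow 2 G} {z r x f : G}

theorem xx (C : CF A T z r x f) : x * x = 1 := C.sq C.hx.2.1

theorem xi (C : CF A T z r x f) : x⁻¹ = x := C.inve C.hx.2.1

theorem mem_of (C : CF A T z r x f) {y : G} (hy : DD T z y) : x * y ∈ zpowers f := by
  rw [C.hf, ← mul_assoc, C.xx, one_mul]
  exact hy

theorem Ft (C : CF A T z r x f) {c : G} (hc : c ∈ zpowers f) : c ∈ T := by
  have h1 := ((C.hf c).1 hc).1
  have : c = x * (x * c) := by rw [← mul_assoc, C.xx, one_mul]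
  rw [this]
  exact (T : Subgroup G).mul_mem C.hx.1 h1

theorem Fr (C : CF A T z r x f) {c : G} (hc : c ∈ zpowers f) : c * r = r * c := by
  have h1 := C.dd_mul_r C.hx ((C.hf c).1 hc)
  rwa [← mul_assoc, C.xx, one_mul] at h1

theorem Fcomm {c d : G} (hc : c ∈ zpowers f) (hd : d ∈ zpowers f) : c * d = d * c := by
  obtain ⟨k, rfl⟩ := hc
  obtain ⟨l, rfl⟩ := hd
  exact ((Commute.refl f).zpow_zpow k l)

theorem invx (C : CF A T z r x f) {c : G} (hc : c ∈ zpowers f) : x * c * x⁻¹ = c⁻¹ := by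
  have h1 := C.dd_mul_inv C.hx ((C.hf c).1 hc)
  rwa [← mul_assoc x x c, C.xx, one_mul] at h1

/-- Every element of `𝒟` is `x φ`. -/
theorem exists_phi (C : CF A T z r x f) {y : G} (hy : DD T z y) : ∃ φ ∈ zpowers f, y = x * φ :=
  ⟨x * y, C.mem_of hy, by rw [← mul_assoc, C.xx, one_mul]⟩

theorem invF (C : CF A T z r x f) {y c : G} (hy : DD T z y) (hc : c ∈ zpowers f) : y * c * y⁻¹ = c⁻¹ := by
  obtain ⟨φ, hφ, rfl⟩ := C.exists_phi hy
  calc x * φ * c * (x * φ)⁻¹ = x * (φ * c) * φ⁻¹ * x⁻¹ := by group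
    _ = x * c * x⁻¹ := by rw [Fcomm hφ hc]; group
    _ = c⁻¹ := C.invx hc

theorem prodF (C : CF A T z r x f) {a b : G} (ha : DD T z a) (hb : DD T z b) : a * b ∈ zpowers f := by
  obtain ⟨φ, hφ, rfl⟩ := C.exists_phi ha
  obtain ⟨ψ, hψ, rfl⟩ := C.exists_phi hb
  have e : x * φ * (x * ψ) = φ⁻¹ * ψ := by
    rw [← C.invx hφ, C.xi]
    group
  rw [e]
  exact mul_mem (inv_mem hφ) hψ

theorem DF (C : CF A T z r x f) {a c : G} (ha : DD T z a) (hc : c ∈ zpowers f) : DD T z (a * c) := by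
  obtain ⟨φ, hφ, rfl⟩ := C.exists_phi ha
  rw [mul_assoc, ← C.hf]
  exact mul_mem hφ hc

theorem FD (C : CF A T z r x f) {a c : G} (ha : DD T z a) (hc : c ∈ zpowers f) : DD T z (c * a) := by
  have h1 := C.DF ha (inv_mem hc)
  have h2 := C.invF ha (inv_mem hc)
  rw [inv_inv, mul_inv_eq_iff_eq_mul] at h2
  rwa [h2] at h1

theorem zF [Finite G] (C : CF A T z r x f) : z ∈ zpowers f := (C.hf z).2 (C.dd_xz C.hx)

theorem uF [Finite G] (C : CF A T z r x f) {c : G} (hc : c ∈ zpowers f) (h : c * c = 1) : c = 1 ∨ c = z :=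
  Cfg.zp_inv C.z1 C.zz C.zF hc h

theorem sqF [Finite G] (C : CF A T z r x f) {c d : G} (hc : c ∈ zpowers f) (hd : d ∈ zpowers f)
    (h : c * c = d * d) : d = c ∨ d = c * z := C.dd_sq C.hx ((C.hf c).1 hc) ((C.hf d).1 hd) h

/-- Elements normalizing the set of the conjugates of `z` in `T` and centralizing `z` normalize `F`. -/
theorem norF (C : CF A T z r x f) {h : G} (hD : ∀ y, DD T z y → DD T z (h * y * h⁻¹)) {c : G}
    (hc : c ∈ zpowers f) : h * c * h⁻¹ ∈ zpowers f := by
  have h1 := hD _ C.hx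
  have h2 := hD _ ((C.hf c).1 hc)
  have h3 := C.prodF h1 h2
  have e : h * x * h⁻¹ * (h * (x * c) * h⁻¹) = h * c * h⁻¹ := by
    calc h * x * h⁻¹ * (h * (x * c) * h⁻¹) = h * (x * x) * c * h⁻¹ := by group
      _ = h * c * h⁻¹ := by rw [C.xx, mul_one]
  rwa [e] at h3

theorem norT (C : CF A T z r x f) {t c : G} (ht : t ∈ T) (hc : c ∈ zpowers f) : t * c * t⁻¹ ∈ zpowers f :=
  C.norF (fun _ hy => C.dd_conj hy ht) hc

theorem Fpow [Finite G] (C : CF A T z r x f) {c : G} (hc : c ∈ zpowers f) (h1 : c ≠ 1) : ∃ m : ℕ, c ^ m = z := by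
  obtain ⟨m, hm1, hm2⟩ := Setup.exists_inv T.2 (C.Ft hc) h1
  exact ⟨m, (C.uF (pow_mem hc m) hm2).resolve_left hm1⟩

theorem Fpow4 [Finite G] (C : CF A T z r x f) {c : G} (hc : c ∈ zpowers f) (h1 : c * c ≠ 1) :
    ∃ m : ℕ, c ^ m * c ^ m = z := by
  obtain ⟨m, hm⟩ := C.Fpow (mul_mem hc hc) h1
  exact ⟨m, by rw [← hm, (Commute.refl c).mul_pow]⟩

/-- An element normalizing but not centralizing `F` multiplies some element of `F` by `z`. -/
theorem actz [Finite G] (C : CF A T z r x f) {t : G} (ht : ∀ c ∈ zpowers f, t * c * t⁻¹ ∈ zpowers f)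
    {d : G} (hd : d ∈ zpowers f) (h : t * d ≠ d * t) : ∃ φ ∈ zpowers f, t * φ * t⁻¹ = φ * z := by
  obtain ⟨n, hn⟩ := (IsPGroup.iff_orderOf.1 T.2) ⟨d, C.Ft hd⟩
  have hn' : orderOf d = 2 ^ n := by
    rw [← hn]
    exact Subgroup.orderOf_coe (⟨d, C.Ft hd⟩ : ↥(T : Subgroup G))
  clear hn
  induction n generalizing d with
  | zero =>
    rw [pow_zero, orderOf_eq_one_iff] at hn'
    rw [hn', mul_one, one_mul] at h
    exact absurd rfl h
  | succ n ih =>
    by_cases h2 : t * (d * d) = (d * d) * t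
    · refine ⟨d, hd, ?_⟩
      have h3 : (t * d * t⁻¹) * (t * d * t⁻¹) = d * d := by
        calc (t * d * t⁻¹) * (t * d * t⁻¹) = t * (d * d) * t⁻¹ := by group
          _ = d * d := by rw [h2, mul_inv_cancel_right]
      rcases C.sqF hd (ht d hd) h3.symm with h4 | h4
      · rw [mul_inv_eq_iff_eq_mul] at h4
        exact absurd h4 h
      · exact h4
    · apply ih (mul_mem hd hd) h2
      rw [← pow_two, orderOf_pow, hn']
      have : Nat.gcd (2 ^ (n + 1)) 2 = 2 := Nat.gcd_eq_right (Dvd.intro_left _ rfl)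
      rw [this, pow_succ, Nat.mul_div_cancel _ (by norm_num)]

/-- An element of order 4 of `F ∩ A`. -/
theorem exE [Finite G] (C : CF A T z r x f) : ∃ e ∈ zpowers f, e ∈ A ∧ e * e = z := by
  obtain ⟨x', e, h1, h2, h3, h4, h5⟩ := C.exists_e
  refine ⟨e, ?_, h4, h5⟩
  have h6 := C.prodF h2 h1
  rwa [mul_assoc, C.sq h1.2.1, mul_one] at h6

theorem exC [Finite G] (C : CF A T z r x f) : ∃ c ∈ zpowers f, c ∈ A ∧ (∃ a ∈ A, c * a ≠ a * c) ∧
    ∀ a ∈ A, (c * c) * a = a * (c * c) := by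
  obtain ⟨x', e, h1, h2, h3, h4, h5⟩ := C.exists_c
  refine ⟨e, ?_, h4, h5⟩
  have h6 := C.prodF h2 h1
  rwa [mul_assoc, C.sq h1.2.1, mul_one] at h6

end CF

end Cfsg.Agent.H297
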