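import Mathlib
import Cfsg.Agent.H297.CfgC
import Cfsg.Agent.S1250

/-!
# The configuration: the intersection of `T` with the conjugates of `A` attached to the conjugates of `z` in `T`
-/

set_option autoImplicit false

namespace Cfsg.Agent.H297

open Subgroup Cfsg

theorem cyc_mod {G : Type*} [Group G] [Finite G] {f : G} {N : Subgroup G} {c d : G} (hc : c ∈ zpowers f)
    (hd : d ∈ zpowers f) (hc' : c ∉ N) (hd' : d ∉ N) (hcc : c * c ∈ N) (hdd : d * d ∈ N) : c⁻¹ * d ∈ N := by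
  have hM : (N.subgroupOf (zpowers f)).Normal := by
    constructor
    intro n hn g
    have : g * n * g⁻¹ = n := by
      rw [mul_inv_eq_iff_eq_mul]
      exact Subtype.ext (CF.Fcomm g.2 n.2)
    rw [this]
    exact hn
  have hmem : ∀ y : ↥(zpowers f), (QuotientGroup.mk y : ↥(zpowers f) ⧸ N.subgroupOf (zpowers f)) = 1 ↔ (y : G) ∈ N := by
    intro y
    rw [QuotientGroup.eq_one_iff, mem_subgroupOf]
  have hcyc : IsCyclic (↥(zpowers f) ⧸ N.subgroupOf (zpowers f)) :=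
    isCyclic_of_surjective (QuotientGroup.mk' (N.subgroupOf (zpowers f))) (QuotientGroup.mk'_surjective _)
  rcases Setup.cyc_inv (C := ↥(zpowers f) ⧸ N.subgroupOf (zpowers f))
    (z := QuotientGroup.mk ⟨c, hc⟩) (x := QuotientGroup.mk ⟨d, hd⟩)
    (fun h => hc' ((hmem _).1 h))
    (by rw [← QuotientGroup.mk_mul, hmem]; exact hcc) (by rw [← QuotientGroup.mk_mul, hmem]; exact hdd) with h | h
  · exact absurd ((hmem _).1 h) hd'
  · have h1 := QuotientGroup.eq.1 h.symm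
    exact mem_subgroupOf.1 h1

namespace CF

variable {G : Type*} [Group G] {A : Subgroup G} {T : Sylow 2 G} {z r x f : G}

/-- Fusion of elements centralizing all conjugates of `z` in `T`. -/
theorem wcfz [Finite G] (C : CF A T z r x f) {v g : G} (hvz : v * z = z * v) (hv : ∀ y, DD T z y → v * y = y * v)
    (hgz : (g * v * g⁻¹) * z = z * (g * v * g⁻¹)) (hg : ∀ y, DD T z y → (g * v * g⁻¹) * y = y * (g * v * g⁻¹)) :
    ∃ h : G, h * v * h⁻¹ = g * v * g⁻¹ ∧ h * z = z * h ∧ (∀ y, DD T z y → DD T z (h * y * h⁻¹)) ∧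
      (∀ y, DD T z y → DD T z (h⁻¹ * y * h)) := by
  obtain ⟨h, h1, h2, h3⟩ := Tools.wcf T (E := {y | y ∈ T ∧ IsConj z y}) (fun y hy => hy.1)
    (fun g hg y hy => ⟨hg y hy, Cfg.conj_mk g hy.2⟩) (v := v) (g := g)
    (by
      intro y hy
      by_cases hyz : y = z
      · rw [hyz, hvz]
      · exact hv y ⟨hy.1, hy.2, hyz⟩)
    (by
      intro y hy
      by_cases hyz : y = z
      · rw [hyz, hgz]
      · exact hg y ⟨hy.1, hy.2, hyz⟩)
  have hz : h * z * h⁻¹ = z := by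
    by_contra hne
    have h4 := h2 z ⟨C.zTm, IsConj.refl z⟩
    have hy : DD T z (h * z * h⁻¹) := ⟨h4.1, h4.2, hne⟩
    obtain ⟨e, heF, -, hee⟩ := C.exE
    have hye := C.DF hy heF
    have h5 := h3 _ ⟨hye.1, hye.2.1⟩
    have h6 := C.Tz _ h5.1
    have h7 : (h * z * h⁻¹) * (h * z * h⁻¹ * e) = (h * z * h⁻¹ * e) * (h * z * h⁻¹) := by
      calc (h * z * h⁻¹) * (h * z * h⁻¹ * e) = h * (z * (h⁻¹ * (h * z * h⁻¹ * e) * h)) * h⁻¹ := by group
        _ = h * ((h⁻¹ * (h * z * h⁻¹ * e) * h) * z) * h⁻¹ := by rw [h6]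
        _ = _ := by group
    have h8 := C.invF hy heF
    have h9 : e = e⁻¹ := by
      rw [← h8]
      have h10 : h * z * h⁻¹ * e = e * (h * z * h⁻¹) := by
        rw [mul_assoc (h * z * h⁻¹) e] at h7
        exact mul_left_cancel h7
      rw [h10, mul_inv_cancel_right]
    apply C.z1
    rw [← hee]
    nth_rewrite 1 [h9]
    exact inv_mul_cancel e
  have hz' : h * z = z * h := by rw [mul_inv_eq_iff_eq_mul] at hz; exact hz
  refine ⟨h, h1, hz', ?_, ?_⟩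
  · intro y hy
    have h4 := h2 y ⟨hy.1, hy.2.1⟩
    refine ⟨h4.1, h4.2, fun h5 => hy.2.2 ?_⟩
    rw [mul_inv_eq_iff_eq_mul, ← hz'] at h5
    exact mul_left_cancel h5
  · intro y hy
    have h4 := h3 y ⟨hy.1, hy.2.1⟩
    refine ⟨h4.1, h4.2, fun h5 => hy.2.2 ?_⟩
    have h6 : y = h * (h⁻¹ * y * h) * h⁻¹ := by group
    rw [h6, h5, hz]

/-- The property defining `Π`. -/
def PI (A : Subgroup G) (T : Sylow 2 G) (z a : G) : Prop := a ∈ T ∧ a ∈ A ∧ ∀ y, DD T z y → InA A z y a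

theorem pi_mul {a b : G} (ha : PI A T z a) (hb : PI A T z b) : PI A T z (a * b) :=
  ⟨(T : Subgroup G).mul_mem ha.1 hb.1, A.mul_mem ha.2.1 hb.2.1, fun y hy => Cfg.inA_mul (ha.2.2 y hy) (hb.2.2 y hy)⟩

theorem pi_inv {a : G} (ha : PI A T z a) : PI A T z a⁻¹ :=
  ⟨(T : Subgroup G).inv_mem ha.1, A.inv_mem ha.2.1, fun y hy => Cfg.inA_inv (ha.2.2 y hy)⟩

theorem pi_one : PI A T z 1 :=
  ⟨(T : Subgroup G).one_mem, A.one_mem, fun _ _ => Cfg.inA_one⟩

theorem pi_pow {a : G} (ha : PI A T z a) (n : ℕ) : PI A T z (a ^ n) := by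
  induction n with
  | zero => rw [pow_zero]; exact pi_one
  | succ n ih => rw [pow_succ]; exact pi_mul ih ha

theorem pi_comm (C : CF A T z r x f) {a : G} (ha : PI A T z a) {y : G} (hy : DD T z y) : a * y = y * a :=
  C.inA_comm hy.2.1 (ha.2.2 y hy)

theorem not_pi_z [Finite G] (C : CF A T z r x f) : ¬ PI A T z z := fun h =>
  C.hx.2.2 (C.eq_of_inA C.hx.2.1 (h.2.2 x C.hx))

theorem pi_stab (C : CF A T z r x f) {a h : G} (ha : PI A T z a) (hz : h * z = z * h) (hT : h * a * h⁻¹ ∈ T)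
    (hD : ∀ y, DD T z y → DD T z (h⁻¹ * y * h)) : PI A T z (h * a * h⁻¹) := by
  refine ⟨hT, Cfg.nA (C.CN h hz) ha.2.1, fun y hy => ?_⟩
  have h1 := Cfg.inA_conj h (ha.2.2 _ (hD y hy))
  have e : h * (h⁻¹ * y * h) * h⁻¹ = y := by group
  rwa [e] at h1

/-- **(†)** -/
theorem dagger [Finite G] (C : CF A T z r x f) {a g : G} (ha : PI A T z a) : g * a * g⁻¹ ≠ a * z := by
  intro h
  have hz := C.Tz a ha.1
  have h1 : (a * z) * z = z * (a * z) := by rw [hz, mul_assoc, hz]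
  have h2 : ∀ y, DD T z y → (a * z) * y = y * (a * z) := by
    intro y hy
    have h3 := C.pi_comm ha hy
    have h4 := C.Tz y hy.1
    calc a * z * y = a * (z * y) := by group
      _ = a * (y * z) := by rw [h4]
      _ = (a * y) * z := by group
      _ = y * (a * z) := by rw [h3]; group
  obtain ⟨k, hk1, hk2, hk3, hk4⟩ := C.wcfz hz (fun y hy => C.pi_comm ha hy) (g := g) (by rw [h]; exact h1)
    (by rw [h]; exact h2)
  rw [h] at hk1
  have h5 : PI A T z (a * z) := by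
    rw [← hk1]
    apply C.pi_stab ha hk2 _ hk4
    rw [hk1]
    exact (T : Subgroup G).mul_mem ha.1 C.zTm
  apply C.not_pi_z
  have h6 := pi_mul (pi_inv ha) h5
  rwa [inv_mul_cancel_left] at h6

/-- **(F20)** -/
theorem pi_closed [Finite G] (C : CF A T z r x f) {a g : G} (ha : PI A T z a) (hg : g * z = z * g)
    (hT : g * a * g⁻¹ ∈ T) : PI A T z (g * a * g⁻¹) := by
  have hbA : g * a * g⁻¹ ∈ A := Cfg.nA (C.CN g hg) ha.2.1
  have hgz : g⁻¹ * z * g = z := by rw [mul_assoc, ← hg]; group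
  -- no conjugate of a power of `b` is the product with `z`
  have key : ∀ (n : ℕ) (k : G), k * (g * a * g⁻¹) ^ n * k⁻¹ ≠ (g * a * g⁻¹) ^ n * z := by
    intro n k hk
    apply C.dagger (pi_pow ha n) (g := g⁻¹ * k * g)
    rw [conj_pow] at hk
    calc g⁻¹ * k * g * a ^ n * (g⁻¹ * k * g)⁻¹ = g⁻¹ * (k * (g * a ^ n * g⁻¹) * k⁻¹) * g := by group
      _ = g⁻¹ * (g * a ^ n * g⁻¹ * z) * g := by rw [hk]
      _ = a ^ n * (g⁻¹ * z * g) := by group
      _ = a ^ n * z := by rw [hgz]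
  obtain ⟨b, hb⟩ : ∃ b, b = g * a * g⁻¹ := ⟨_, rfl⟩
  rw [← hb] at key hT hbA ⊢
  have hbF : ∀ c ∈ zpowers f, b * c = c * b := by
    intro c hc
    by_contra hne
    obtain ⟨φ, hφ, h1⟩ := C.actz (fun c hc => C.norT hT hc) hc hne
    apply key 1 φ⁻¹
    rw [pow_one, inv_inv]
    calc φ⁻¹ * b * φ = φ⁻¹ * (b * φ * b⁻¹) * b := by group
      _ = z * b := by rw [h1]; group
      _ = b * z := (C.Tz b hT).symm
  have hbD : ∀ y, DD T z y → b * y = y * b := by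
    intro y hy
    have h1 := C.dd_conj hy hT
    obtain ⟨ψ, hψdef⟩ : ∃ ψ, ψ = y * (b * y * b⁻¹) := ⟨_, rfl⟩
    have hψ : ψ ∈ zpowers f := by rw [hψdef]; exact C.prodF hy h1
    have hby : b * y * b⁻¹ = y * ψ := by rw [hψdef, ← mul_assoc, C.sq hy.2.1, one_mul]
    by_cases hψ1 : ψ = 1
    · rw [hψ1, mul_one, mul_inv_eq_iff_eq_mul] at hby
      exact hby
    exfalso
    obtain ⟨m, hm⟩ := C.Fpow hψ hψ1
    have h2 : ∀ n : ℕ, b ^ n * y * (b ^ n)⁻¹ = y * ψ ^ n := by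
      intro n
      induction n with
      | zero => simp
      | succ n ih =>
        have h3 := hbF ψ hψ
        have h4 : b * ψ ^ n * b⁻¹ = ψ ^ n := by
          rw [← conj_pow, h3, mul_inv_cancel_right]
        calc b ^ (n + 1) * y * (b ^ (n + 1))⁻¹ = b * (b ^ n * y * (b ^ n)⁻¹) * b⁻¹ := by rw [pow_succ']; group
          _ = (b * y * b⁻¹) * (b * ψ ^ n * b⁻¹) := by rw [ih]; group
          _ = y * ψ ^ (n + 1) := by rw [hby, h4, pow_succ']; group
    have h3 := h2 m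
    rw [hm] at h3
    apply key m y⁻¹
    rw [inv_inv]
    calc y⁻¹ * b ^ m * y = y⁻¹ * (b ^ m * y * (b ^ m)⁻¹) * b ^ m := by group
      _ = z * b ^ m := by rw [h3]; group
      _ = b ^ m * z := (C.Tz _ ((T : Subgroup G).pow_mem hT m)).symm
  obtain ⟨h, h1, h2, -, h4⟩ := C.wcfz (C.Tz a ha.1) (fun y hy => C.pi_comm ha hy) (g := g)
    (by rw [← hb]; exact C.Tz b hT) (by rw [← hb]; exact hbD)
  rw [← hb] at h1
  rw [← h1]
  apply C.pi_stab ha h2 _ h4
  rw [h1]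
  exact hT

theorem pi_K [Finite G] (C : CF A T z r x f) {a : G} (ha : PI A T z a) (hK : ∀ b ∈ A, a * b = b * a) : a = 1 := by
  by_contra h1
  obtain ⟨m, hm1, hm2⟩ := Setup.exists_inv T.2 ha.1 h1
  have h2 : a ^ m = z := by
    refine (C.R2 _ ((T : Subgroup G).pow_mem ha.1 m) ?_ hm2).resolve_left hm1
    intro b hb
    exact (Commute.pow_left (show Commute a b from hK b hb) m)
  have h3 := pi_pow ha m
  rw [h2] at h3
  exact C.not_pi_z h3

/-- The isolated elements of order 2 of `A` are central. -/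
theorem iso_false [Finite G] (C : CF A T z r x f) {π : G} (hπA : π ∈ A) (hππ : π * π = 1)
    (hπK : ∃ a ∈ A, π * a ≠ a * π) (h : ∀ g : G, g * z = z * g → g * π * g⁻¹ ∈ T → g * π * g⁻¹ = π) : False := by
  obtain ⟨a, ha, h1, h2⟩ := ZG.zg (A := A) (N := ⊥) C.qs
    (by rintro n hn a -; rw [mem_bot.1 hn, one_mul, mul_one]) (w := π) (le_normalizer hπA)
    (mem_nor_comm (by rintro n hn; rw [mem_bot.1 hn, one_mul, mul_one])) (by rw [hππ]; exact one_mem _) hπK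
  rw [mem_bot] at h1 h2
  have haz : a * z = z * a := (C.zK a ha).symm
  have hπz : π * z = z * π := (C.zK π hπA).symm
  obtain ⟨π', hπ'⟩ : ∃ π', π' = a * π * a⁻¹ := ⟨_, rfl⟩
  rw [← hπ'] at h1 h2
  have hπ'A : π' ∈ A := by rw [hπ']; exact A.mul_mem (A.mul_mem ha hπA) (A.inv_mem ha)
  have hcomm : π' * π = π * π' := by
    rw [mul_inv_eq_one, mul_inv_eq_iff_eq_mul] at h2
    exact h2
  have hπ'π' : π' * π' = 1 := by
    rw [hπ']
    calc a * π * a⁻¹ * (a * π * a⁻¹) = a * (π * π) * a⁻¹ := by group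
      _ = 1 := by rw [hππ]; group
  have hU := join_comm (zpow_two_of_sq hππ) (zpow_two_of_sq hπ'π') (comm_zpowers hcomm)
  have hUz : zpowers π' ⊔ zpowers π ≤ centralizer {z} := by
    rw [sup_le_iff, zpowers_le, zpowers_le, mem_centralizer_singleton_iff, mem_centralizer_singleton_iff]
    exact ⟨(C.zK π' hπ'A).symm, hπz⟩
  obtain ⟨k, hk, hkU⟩ := C.into_T hU (fun u hu => mem_centralizer_singleton_iff.1 (hUz hu))
  have h3 := hkU _ (mem_sup_left (mem_zpowers π'))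
  have h4 := hkU _ (mem_sup_right (mem_zpowers π))
  have h5 := h k hk h4
  have e : k * π' * k⁻¹ = (k * a) * π * (k * a)⁻¹ := by rw [hπ']; group
  have h6 := h (k * a) (by rw [mul_assoc, haz, ← mul_assoc, hk, mul_assoc]) (by rw [← e]; exact h3)
  rw [← e] at h6
  apply h1
  have h7 : k * π' * k⁻¹ = k * π * k⁻¹ := by rw [h5, h6]
  have h8 : π' = π := mul_left_cancel (mul_right_cancel h7)
  rw [h8, mul_inv_cancel]

/-- **(F21)** -/
theorem pi_trivial [Finite G] (C : CF A T z r x f) {π₀ : G} (hπ₀ : PI A T z π₀) : π₀ = 1 := by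
  by_contra hπ₀1
  obtain ⟨P, hP⟩ := Tools.exists_syl T C.TN
  obtain ⟨c₀, hc₀F, hc₀A, hc₀K, hc₀c₀⟩ := C.exC
  -- the subgroup `Π`
  let PS : Subgroup ↥A :=
    { carrier := {a | PI A T z (a : G)}
      one_mem' := pi_one
      mul_mem' := fun ha hb => pi_mul ha hb
      inv_mem' := fun ha => pi_inv ha }
  have hPS : ∀ a : ↥A, a ∈ PS ↔ PI A T z (a : G) := fun _ => Iff.rfl
  have hcl : IsStronglyClosed PS (P : Subgroup ↥A) := by
    refine ⟨fun a ha => (hP a).2 ((hPS a).1 ha).1, fun a ha g hg => ?_⟩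
    rw [hPS] at ha ⊢
    exact C.pi_closed ha (C.zK g g.2).symm ((hP _).1 hg)
  have hsurj : Function.Surjective (QuotientGroup.mk' (center ↥A)) := QuotientGroup.mk'_surjective _
  have h2f : Fact (Nat.Prime 2) := ⟨Nat.prime_two⟩
  have hcl' := Cfsg.Agent.S1250.result P PS hcl (center ↥A)
  have hmk : ∀ a b : ↥A, (QuotientGroup.mk a : ↥A ⧸ center ↥A) = QuotientGroup.mk b ↔
      ∀ w ∈ A, ((a : G)⁻¹ * b) * w = w * ((a : G)⁻¹ * b) := by
    intro a b
    rw [QuotientGroup.eq, mem_center_iff]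
    constructor
    · intro h w hw
      exact (congrArg Subtype.val (h ⟨w, hw⟩)).symm
    · intro h w
      exact Subtype.ext (h w w.2).symm
  have hmem : (QuotientGroup.mk ⟨c₀, hc₀A⟩ : ↥A ⧸ center ↥A) ∈ PS.map (QuotientGroup.mk' (center ↥A)) := by
    apply C.ft _ C.qs.2 (P.mapSurjective hsurj)
    · rw [Sylow.coe_mapSurjective]
      exact hcl'
    · intro h
      apply hπ₀1
      have h1 : (QuotientGroup.mk ⟨π₀, hπ₀.2.1⟩ : ↥A ⧸ center ↥A) ∈ PS.map (QuotientGroup.mk' (center ↥A)) :=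
        ⟨⟨π₀, hπ₀.2.1⟩, hπ₀, rfl⟩
      rw [h, mem_bot, QuotientGroup.eq_one_iff, mem_center_iff] at h1
      apply C.pi_K hπ₀
      intro b hb
      exact (congrArg Subtype.val (h1 ⟨b, hb⟩)).symm
    · rw [Sylow.coe_mapSurjective]
      exact ⟨⟨c₀, hc₀A⟩, (hP _).2 (C.Ft hc₀F), rfl⟩
    · rw [Sylow.coe_mapSurjective]
      rintro _ ⟨s, hs, rfl⟩
      have hsT : (s : G) ∈ T := (hP s).1 hs
      have h1 := C.norT hsT hc₀F
      have h2 : ((s : G) * c₀ * (s : G)⁻¹) * ((s : G) * c₀ * (s : G)⁻¹) = c₀ * c₀ := by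
        calc ((s : G) * c₀ * (s : G)⁻¹) * ((s : G) * c₀ * (s : G)⁻¹) = s * (c₀ * c₀) * (s : G)⁻¹ := by group
          _ = ((c₀ * c₀) * s) * (s : G)⁻¹ := by rw [hc₀c₀ s s.2]
          _ = _ := by group
      have h3 := C.sqF hc₀F h1 h2.symm
      show (QuotientGroup.mk s : ↥A ⧸ center ↥A) * QuotientGroup.mk ⟨c₀, hc₀A⟩ =
        QuotientGroup.mk ⟨c₀, hc₀A⟩ * QuotientGroup.mk s
      rw [← QuotientGroup.mk_mul, ← QuotientGroup.mk_mul, hmk]
      intro w hw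
      show (((s : G) * c₀)⁻¹ * (c₀ * s)) * w = w * (((s : G) * c₀)⁻¹ * (c₀ * s))
      rcases h3 with h4 | h4
      · have h5 : (s : G) * c₀ = c₀ * s := by rw [mul_inv_eq_iff_eq_mul] at h4; exact h4
        rw [h5, inv_mul_cancel, one_mul, mul_one]
      · have h5 : (s : G) * c₀ = c₀ * z * s := by rw [mul_inv_eq_iff_eq_mul] at h4; exact h4
        have h6 : ((s : G) * c₀)⁻¹ * (c₀ * s) = z := by
          rw [h5]
          calc (c₀ * z * s)⁻¹ * (c₀ * s) = (s : G)⁻¹ * (z⁻¹ * s) := by group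
            _ = (s : G)⁻¹ * (s * z) := by rw [C.zi, C.zK s s.2]
            _ = z := by group
        rw [h6, C.zK w hw]
  obtain ⟨⟨π, hπA⟩, hπ, hπc⟩ := hmem
  have hπ' : PI A T z π := hπ
  have hζ : ∀ w ∈ A, (π⁻¹ * c₀) * w = w * (π⁻¹ * c₀) := (hmk ⟨π, hπA⟩ ⟨c₀, hc₀A⟩).1 hπc
  -- `π` is an involution
  have hππ : π * π = 1 := by
    apply C.pi_K (pi_mul hπ' hπ')
    have h1 : π * π = (c₀ * c₀) * ((π⁻¹ * c₀)⁻¹ * (π⁻¹ * c₀)⁻¹) := by
      have h2 := Cfg.invK (A := A) hζ c₀ hc₀A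
      calc π * π = c₀ * ((π⁻¹ * c₀)⁻¹ * c₀) * (π⁻¹ * c₀)⁻¹ := by group
        _ = c₀ * (c₀ * (π⁻¹ * c₀)⁻¹) * (π⁻¹ * c₀)⁻¹ := by rw [h2]
        _ = _ := by group
    intro b hb
    rw [h1]
    exact Cfg.mulK hc₀c₀ (Cfg.mulK (Cfg.invK hζ) (Cfg.invK hζ)) b hb
  have hπK : ∃ a ∈ A, π * a ≠ a * π := by
    by_contra hcon
    push Not at hcon
    obtain ⟨a, ha, hne⟩ := hc₀K
    apply hne
    have e : c₀ = π * (π⁻¹ * c₀) := by group
    rw [e]
    exact Cfg.mulK hcon hζ a ha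
  apply C.iso_false hπA hππ hπK
  intro g hg hgT
  have h1 := C.pi_closed hπ' hg hgT
  obtain ⟨h, h2, h3, h4, h5⟩ := C.wcfz (C.Tz π hπ'.1) (fun y hy => C.pi_comm hπ' hy) (g := g)
    (C.Tz _ hgT) (fun y hy => C.pi_comm h1 hy)
  have hhN := C.CN h h3
  have hcF : h * c₀ * h⁻¹ ∈ zpowers f := C.norF h4 hc₀F
  have hcen : ∀ c : G, c ∈ centralizer (A : Set G) ↔ ∀ a ∈ A, c * a = a * c := by
    intro c
    rw [mem_centralizer_iff]
    exact ⟨fun h a ha => (h a ha).symm, fun h a ha => (h a ha).symm⟩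
  have h6 : c₀⁻¹ * (h * c₀ * h⁻¹) ∈ centralizer (A : Set G) := by
    apply cyc_mod hc₀F hcF
    · rw [hcen]
      intro hcon
      obtain ⟨a, ha, hne⟩ := hc₀K
      exact hne (hcon a ha)
    · rw [hcen]
      intro hcon
      obtain ⟨a, ha, hne⟩ := hc₀K
      apply hne
      have h7 := Cfg.nK (inv_mem hhN) hcon
      have e : h⁻¹ * (h * c₀ * h⁻¹) * h⁻¹⁻¹ = c₀ := by group
      rw [e] at h7
      exact h7 a ha
    · rw [hcen]; exact hc₀c₀
    · rw [hcen]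
      have e : h * c₀ * h⁻¹ * (h * c₀ * h⁻¹) = h * (c₀ * c₀) * h⁻¹ := by group
      rw [e]
      exact Cfg.nK hhN hc₀c₀
  -- `π⁻¹ π' ∈ K`
  have h7 : π⁻¹ * (h * π * h⁻¹) = (π⁻¹ * c₀) * (c₀⁻¹ * (h * c₀ * h⁻¹)) * (h * (π⁻¹ * c₀) * h⁻¹)⁻¹ := by group
  have h8 : π⁻¹ * (g * π * g⁻¹) = 1 := by
    apply C.pi_K (pi_mul (pi_inv hπ') h1)
    rw [← h2, h7]
    exact Cfg.mulK (Cfg.mulK hζ ((hcen _).1 h6)) (Cfg.invK (Cfg.nK hhN hζ))
  exact (inv_mul_eq_one.1 h8).symm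

end CF

end Cfsg.Agent.H297
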