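import Mathlib
import Cfsg.Agent.H297.CfgD

/-!
# The configuration: the centralizer of the conjugates of `z` in `T ∩ A`
-/

set_option autoImplicit false

namespace Cfsg.Agent.H297

open Subgroup Cfsg

namespace CF

variable {G : Type*} [Group G] {A : Subgroup G} {T : Sylow 2 G} {z r x f : G}

/-- The elements of `T ∩ A` centralizing the conjugates of `z` in `T`. -/
def VV (A : Subgroup G) (T : Sylow 2 G) (z a : G) : Prop := a ∈ T ∧ a ∈ A ∧ ∀ y, DD T z y → a * y = y * a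

theorem vv_mul {a b : G} (ha : VV A T z a) (hb : VV A T z b) : VV A T z (a * b) :=
  ⟨(T : Subgroup G).mul_mem ha.1 hb.1, A.mul_mem ha.2.1 hb.2.1, fun y hy => by
    rw [mul_assoc, hb.2.2 y hy, ← mul_assoc, ha.2.2 y hy, mul_assoc]⟩

theorem vv_inv {a : G} (ha : VV A T z a) : VV A T z a⁻¹ :=
  ⟨(T : Subgroup G).inv_mem ha.1, A.inv_mem ha.2.1, fun y hy =>
    (Commute.inv_left (show Commute a y from ha.2.2 y hy))⟩

theorem vv_z [Finite G] (C : CF A T z r x f) : VV A T z z :=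
  ⟨C.zTm, C.zA, fun y hy => (C.Tz y hy.1).symm⟩

theorem dd_conj' (C : CF A T z r x f) {y t : G} (hy : DD T z y) (ht : t ∈ T) : DD T z (t⁻¹ * y * t) := by
  have h := C.dd_conj hy ((T : Subgroup G).inv_mem ht)
  rwa [inv_inv] at h

theorem vv_conj (C : CF A T z r x f) {a t : G} (ha : VV A T z a) (ht : t ∈ T) : VV A T z (t * a * t⁻¹) := by
  refine ⟨(T : Subgroup G).mul_mem ((T : Subgroup G).mul_mem ht ha.1) ((T : Subgroup G).inv_mem ht),
    Cfg.nA (C.TN ht) ha.2.1, fun y hy => ?_⟩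
  have h := ha.2.2 _ (C.dd_conj' hy ht)
  calc t * a * t⁻¹ * y = t * (a * (t⁻¹ * y * t)) * t⁻¹ := by group
    _ = t * ((t⁻¹ * y * t) * a) * t⁻¹ := by rw [h]
    _ = _ := by group

theorem vv_F (C : CF A T z r x f) {a c : G} (ha : VV A T z a) (hc : c ∈ zpowers f) : a * c = c * a := by
  have h1 := ha.2.2 x C.hx
  have h2 := ha.2.2 _ ((C.hf c).1 hc)
  have h3 : x * (a * c) = x * (c * a) := by
    calc x * (a * c) = (a * x) * c := by rw [h1]; group
      _ = a * (x * c) := by group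
      _ = x * c * a := h2
      _ = _ := by group
  exact mul_left_cancel h3

/-- Commuting with `x` and `F`. -/
theorem vv_of (C : CF A T z r x f) {a : G} (haT : a ∈ T) (haA : a ∈ A) (hx : a * x = x * a)
    (hF : ∀ c ∈ zpowers f, a * c = c * a) : VV A T z a := by
  refine ⟨haT, haA, fun y hy => ?_⟩
  obtain ⟨φ, hφ, rfl⟩ := C.exists_phi hy
  rw [← mul_assoc, hx, mul_assoc, hF φ hφ, mul_assoc]

theorem conjF (C : CF A T z r x f) {y c : G} (hy : DD T z y) (hc : c ∈ zpowers f) :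
    c * y * c⁻¹ = y * (c * c)⁻¹ := by
  have h := C.invF hy (inv_mem hc)
  rw [inv_inv] at h
  have h1 : y * c⁻¹ = c * y := by rw [mul_inv_eq_iff_eq_mul] at h; exact h
  rw [← h1, mul_inv_rev, mul_assoc]

theorem par {φ : G} (hφ : φ ∈ zpowers f) :
    (∃ ψ ∈ zpowers f, φ = ψ * ψ) ∨ ∃ ψ ∈ zpowers f, φ = f * (ψ * ψ) := by
  obtain ⟨n, rfl⟩ := hφ
  rcases Int.even_or_odd' n with ⟨l, rfl | rfl⟩
  · exact Or.inl ⟨f ^ l, ⟨l, rfl⟩, by show f ^ (2 * l) = _; rw [← zpow_add, two_mul]⟩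
  · refine Or.inr ⟨f ^ l, ⟨l, rfl⟩, ?_⟩
    show f ^ (2 * l + 1) = _
    rw [← zpow_add, ← zpow_one_add]
    congr 1
    ring

theorem inA_shift (C : CF A T z r x f) {y a ψ : G} (hy : DD T z y) (hψ : ψ ∈ zpowers f) (ha : a * ψ = ψ * a) :
    InA A z (y * (ψ * ψ)) a ↔ InA A z y a := by
  have h1 := C.conjF hy (inv_mem hψ)
  have h2 : (ψ⁻¹ * ψ⁻¹)⁻¹ = ψ * ψ := by rw [mul_inv_rev, inv_inv]
  rw [h2] at h1
  have h3 : ψ⁻¹ * a * ψ⁻¹⁻¹ = a := by rw [inv_inv, mul_assoc, ha, inv_mul_cancel_left]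
  rw [← h1]
  conv_lhs => rw [← h3]
  exact Cfg.inA_conj_iff ψ⁻¹

theorem hxf (C : CF A T z r x f) : DD T z (x * f) := (C.hf f).1 (mem_zpowers f)

theorem vv_one [Finite G] (C : CF A T z r x f) {a : G} (ha : VV A T z a) (h1 : InA A z x a) (h2 : InA A z (x * f) a) :
    a = 1 := by
  apply C.pi_trivial
  refine ⟨ha.1, ha.2.1, fun y hy => ?_⟩
  obtain ⟨φ, hφ, rfl⟩ := C.exists_phi hy
  rcases par hφ with ⟨ψ, hψ, rfl⟩ | ⟨ψ, hψ, rfl⟩
  · exact (C.inA_shift C.hx hψ (C.vv_F ha hψ)).2 h1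
  · rw [← mul_assoc]
    exact (C.inA_shift C.hxf hψ (C.vv_F ha hψ)).2 h2

theorem inA_two [Finite G] (C : CF A T z r x f) {a y : G} (haT : a ∈ T) (haA : a ∈ A) (hy : DD T z y)
    (hay : a * y = y * a) : InA A z y a ∨ InA A z y (a * z) :=
  C.inA_or hy.2.1 hy.2.2 (C.Tz y hy.1) haA hay (zpow_two_of_mem T.2 haT)

theorem not_both [Finite G] (C : CF A T z r x f) {a y : G} (hy : DD T z y) (h1 : InA A z y a)
    (h2 : InA A z y (a * z)) : False := by
  have h3 := Cfg.inA_mul (Cfg.inA_inv h1) h2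
  rw [inv_mul_cancel_left] at h3
  exact hy.2.2 (C.eq_of_inA hy.2.1 h3)

/-- The order of `V₀` is at most 4. -/
theorem vv_cases [Finite G] (C : CF A T z r x f) : (∀ v, VV A T z v → v = 1 ∨ v = z) ∨
    ∃ u, VV A T z u ∧ u ≠ 1 ∧ u ≠ z ∧ u * u = 1 ∧ InA A z x u ∧ InA A z (x * f) (u * z) ∧
      ∀ v, VV A T z v → v = 1 ∨ v = z ∨ v = u ∨ v = u * z := by
  by_cases hall : ∀ v, VV A T z v → v = 1 ∨ v = z
  · exact Or.inl hall
  right
  push Not at hall
  obtain ⟨v, hv, hv1, hvz⟩ := hall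
  -- make `v ∈ A_x`
  obtain ⟨u, hu, hu1, huz, hux⟩ : ∃ u, VV A T z u ∧ u ≠ 1 ∧ u ≠ z ∧ InA A z x u := by
    rcases C.inA_two hv.1 hv.2.1 C.hx (hv.2.2 x C.hx) with h | h
    · exact ⟨v, hv, hv1, hvz, h⟩
    · refine ⟨v * z, vv_mul hv C.vv_z, ?_, ?_, h⟩
      · intro h2
        apply hvz
        rw [mul_eq_one_iff_eq_inv, C.zi] at h2
        exact h2
      · intro h2
        exact hv1 (mul_eq_right.1 h2)
  have huT := hu.1
  have hcz : u * z = z * u := C.Tz u huT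
  have huxf : InA A z (x * f) (u * z) := by
    rcases C.inA_two hu.1 hu.2.1 C.hxf (hu.2.2 _ C.hxf) with h | h
    · exact absurd (C.vv_one hu hux h) hu1
    · exact h
  have huu : u * u = 1 := by
    apply C.vv_one (vv_mul hu hu) (Cfg.inA_mul hux hux)
    have h1 := Cfg.inA_mul huxf huxf
    have h2 : u * z * (u * z) = u * u := by
      calc u * z * (u * z) = u * (z * u) * z := by group
        _ = u * u * (z * z) := by rw [← hcz]; group
        _ = u * u := by rw [C.zz, mul_one]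
    rwa [h2] at h1
  refine ⟨u, hu, hu1, huz, huu, hux, huxf, ?_⟩
  -- uniqueness
  have key : ∀ w, VV A T z w → InA A z x w → w = 1 ∨ w = u := by
    intro w hw hwx
    rcases C.inA_two hw.1 hw.2.1 C.hxf (hw.2.2 _ C.hxf) with h | h
    · exact Or.inl (C.vv_one hw hwx h)
    · right
      have h1 : w * u = 1 := by
        apply C.vv_one (vv_mul hw hu) (Cfg.inA_mul hwx hux)
        have h2 := Cfg.inA_mul h huxf
        have h3 : w * z * (u * z) = w * u := by
          calc w * z * (u * z) = w * (z * u) * z := by group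
            _ = w * u * (z * z) := by rw [← hcz]; group
            _ = w * u := by rw [C.zz, mul_one]
        rwa [h3] at h2
      rw [mul_eq_one_iff_eq_inv] at h1
      rw [h1]
      exact inv_eq_of_mul_eq_one_left huu
  intro w hw
  rcases C.inA_two hw.1 hw.2.1 C.hx (hw.2.2 x C.hx) with h | h
  · rcases key w hw h with h1 | h1
    · exact Or.inl h1
    · exact Or.inr (Or.inr (Or.inl h1))
  · rcases key _ (vv_mul hw C.vv_z) h with h1 | h1
    · right; left
      rw [mul_eq_one_iff_eq_inv, C.zi] at h1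
      exact h1
    · right; right; right
      rw [← h1, mul_assoc, C.zz, mul_one]

/-- Elements of `T` fix or invert `e`. -/
theorem e_conj [Finite G] (C : CF A T z r x f) {e t : G} (he : e ∈ zpowers f) (hee : e * e = z) (ht : t ∈ T) :
    t * e * t⁻¹ = e ∨ t * e * t⁻¹ = e * z := by
  apply C.sqF he (C.norT ht he)
  calc e * e = z := hee
    _ = t * z * t⁻¹ := by rw [C.Tz t ht, mul_inv_cancel_right]
    _ = t * e * t⁻¹ * (t * e * t⁻¹) := by rw [← hee]; group

/-- If `t` inverts `ψ` and commutes with `e` then `ψ² = 1`. -/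
theorem inv_e [Finite G] (C : CF A T z r x f) {e t ψ : G} (he : e ∈ zpowers f) (hee : e * e = z) (ht : t ∈ T)
    (hte : t * e = e * t) (hψ : ψ ∈ zpowers f) (h : t * ψ * t⁻¹ = ψ⁻¹) : ψ = 1 ∨ ψ = z := by
  apply C.uF hψ
  by_contra h1
  obtain ⟨m, hm⟩ := C.Fpow4 hψ h1
  have h2 : t * ψ ^ m * t⁻¹ = (ψ ^ m)⁻¹ := by rw [← conj_pow, h, inv_pow]
  have h3 : t * ψ ^ m = ψ ^ m * t := by
    rcases C.sqF he (pow_mem hψ m) (by rw [hee, hm]) with h4 | h4
    · rw [h4, hte]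
    · rw [h4]
      calc t * (e * z) = (t * e) * z := by group
        _ = e * (t * z) := by rw [hte]; group
        _ = e * z * t := by rw [C.Tz t ht]; group
  rw [h3, mul_inv_cancel_right] at h2
  apply C.z1
  rw [← hm]
  nth_rewrite 1 [h2]
  exact inv_mul_cancel _

theorem exists_psi (C : CF A T z r x f) {y t : G} (hy : DD T z y) (ht : t ∈ T) :
    ∃ ψ ∈ zpowers f, t * y * t⁻¹ = y * ψ :=
  ⟨y * (t * y * t⁻¹), C.prodF hy (C.dd_conj hy ht), by rw [← mul_assoc, C.sq hy.2.1, one_mul]⟩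

/-- If `t² ∈ ⟨z⟩` then `t` inverts `ψ`, `t y t⁻¹ = y ψ`. -/
theorem psi_inv (C : CF A T z r x f) {y t ψ : G} (hy : DD T z y) (ht2 : (t * t) * y = y * (t * t))
    (h : t * y * t⁻¹ = y * ψ) : t * ψ * t⁻¹ = ψ⁻¹ := by
  have h1 : y = y * ψ * (t * ψ * t⁻¹) := by
    calc y = (y * (t * t)) * (t * t)⁻¹ := by group
      _ = t * (t * y * t⁻¹) * t⁻¹ := by rw [← ht2]; group
      _ = t * (y * ψ) * t⁻¹ := by rw [h]
      _ = (t * y * t⁻¹) * (t * ψ * t⁻¹) := by group
      _ = y * ψ * (t * ψ * t⁻¹) := by rw [h]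
  have h2 : ψ * (t * ψ * t⁻¹) = 1 := by
    rw [mul_assoc] at h1
    exact (mul_eq_left.1 h1.symm)
  exact (inv_eq_of_mul_eq_one_right h2).symm

/-- Involutions of `T ∩ A` commuting with `e` centralize `𝒟`. -/
theorem vv_of_inv [Finite G] (C : CF A T z r x f) {e v : G} (he : e ∈ zpowers f) (hee : e * e = z) (hvT : v ∈ T)
    (hvA : v ∈ A) (hvv : v * v = 1) (hve : v * e = e * v) : VV A T z v := by
  refine ⟨hvT, hvA, fun y hy => ?_⟩
  obtain ⟨ψ, hψ, h1⟩ := C.exists_psi hy hvT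
  have h2 := C.psi_inv hy (by rw [hvv, one_mul, mul_one]) h1
  rcases C.inv_e he hee hvT hve hψ h2 with h3 | h3
  · rw [h3, mul_one, mul_inv_eq_iff_eq_mul] at h1
    exact h1
  · rw [h3] at h1
    exact absurd h1 (C.not_flip hy.2.1 hy.2.2 (C.Tz y hy.1) hvA hvv)

/-- Elements of `T` commuting with `r` and an element of `𝒟` commute with `e`. -/
theorem noswap [Finite G] (C : CF A T z r x f) {e t y : G} (he : e ∈ zpowers f) (hee : e * e = z) (ht : t ∈ T)
    (htr : t * r = r * t) (hy : DD T z y) (hty : t * y = y * t) : t * e = e * t := by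
  rcases C.e_conj he hee ht with h | h
  · rw [mul_inv_eq_iff_eq_mul] at h; exact h
  exfalso
  have hU : IsPGroup 2 ↥((T : Subgroup G) ⊓ centralizer {y} : Subgroup G) := T.2.to_le inf_le_left
  have hr : r * y * r⁻¹ = y * z := by
    have h1 := C.dd_inv hy
    have h2 : y * r = r * z * y := by rw [mul_inv_eq_iff_eq_mul] at h1; exact h1
    have h3 : r * y = y * z * r := by
      calc r * y = (r * z * y) * z := by
            calc r * y = r * (z * z) * y := by rw [C.zz, mul_one]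
              _ = r * z * (z * y) := by group
              _ = r * z * y * z := by rw [← C.Tz y hy.1]; group
        _ = y * (r * z) := by rw [← h2]; group
        _ = y * z * r := by rw [C.rz]; group
    rw [h3, mul_inv_cancel_right]
  have hey : e * y * e⁻¹ = y * z := by rw [C.conjF hy he, hee, C.zi]
  have hιy : (e * r) * y = y * (e * r) := by
    have h1 : (e * r) * y * (e * r)⁻¹ = y := by
      calc (e * r) * y * (e * r)⁻¹ = e * (r * y * r⁻¹) * e⁻¹ := by group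
        _ = (e * y * e⁻¹) * (e * z * e⁻¹) := by rw [hr]; group
        _ = y * z * z := by rw [hey, C.Tz e (C.Ft he), mul_inv_cancel_right]
        _ = y := by rw [mul_assoc, C.zz, mul_one]
    rw [mul_inv_eq_iff_eq_mul] at h1
    exact h1
  apply C.comf hU (fun u hu => mem_centralizer_singleton_iff.1 hu.2) hy.2.1 hy.2.2 (u := t) (v := e * r)
    ⟨ht, mem_centralizer_singleton_iff.2 hty⟩
    ⟨(T : Subgroup G).mul_mem (C.Ft he) C.rT, mem_centralizer_singleton_iff.2 hιy⟩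
  calc t * (e * r) * t⁻¹ = (t * e * t⁻¹) * (t * r * t⁻¹) := by group
    _ = (e * z) * r := by rw [h, htr, mul_inv_cancel_right]
    _ = e * r * z := by rw [mul_assoc, ← C.rz, mul_assoc]

theorem hAr (C : CF A T z r x f) {a : G} (ha : a ∈ A) : a * r = r * a := (C.rK a ha).symm

/-- An element of `T ∩ A` with `t x t⁻¹ = x ψ²` commutes with `e`. -/
theorem comm_e_of_even [Finite G] (C : CF A T z r x f) {e t y ψ : G} (he : e ∈ zpowers f) (hee : e * e = z)
    (ht : t ∈ T) (htA : t ∈ A) (hy : DD T z y) (hψ : ψ ∈ zpowers f) (h : t * y * t⁻¹ = y * (ψ * ψ)) :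
    t * e = e * t := by
  have h1 : (ψ * t) * y = y * (ψ * t) := by
    have h2 : (ψ * t) * y * (ψ * t)⁻¹ = y := by
      calc (ψ * t) * y * (ψ * t)⁻¹ = ψ * (t * y * t⁻¹) * ψ⁻¹ := by group
        _ = (ψ * y * ψ⁻¹) * (ψ * ψ) := by rw [h]; group
        _ = y := by rw [C.conjF hy hψ, inv_mul_cancel_right]
    rw [mul_inv_eq_iff_eq_mul] at h2
    exact h2
  have h3 := C.noswap he hee ((T : Subgroup G).mul_mem (C.Ft hψ) ht) (by
    rw [mul_assoc, C.hAr htA, ← mul_assoc, C.Fr hψ, mul_assoc]) hy h1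
  have h4 : ψ * (t * e) = ψ * (e * t) := by
    rw [← mul_assoc, h3, ← mul_assoc, ← mul_assoc, Fcomm he hψ]
  exact mul_left_cancel h4

/-- An involution of `T ∩ A` not centralizing `𝒟` inverts `F = ⟨φ⟩ ≤ A`, and `v x v⁻¹ = x φ`. -/
theorem inv_struct [Finite G] (C : CF A T z r x f) {e v : G} (he : e ∈ zpowers f) (hee : e * e = z) (hvT : v ∈ T)
    (hvA : v ∈ A) (hvv : v * v = 1) (hv : ¬ VV A T z v) :
    ∃ φ, CF A T z r x φ ∧ φ ∈ A ∧ v * x * v⁻¹ = x * φ ∧ zpowers φ = zpowers f ∧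
      ∀ c ∈ zpowers f, v * c * v⁻¹ = c⁻¹ := by
  have hve : ¬ v * e = e * v := fun h => hv (C.vv_of_inv he hee hvT hvA hvv h)
  obtain ⟨φ, hφ, h1⟩ := C.exists_psi C.hx hvT
  have h2 := C.psi_inv C.hx (by rw [hvv, one_mul, mul_one]) h1
  have hgen : zpowers φ = zpowers f := by
    rcases par hφ with ⟨ψ, hψ, rfl⟩ | ⟨ψ, hψ, h3⟩
    · exact absurd (C.comm_e_of_even he hee hvT hvA C.hx hψ h1) hve
    · -- an odd power of `f`
      obtain ⟨l, rfl⟩ := hψ
      obtain ⟨N, hN⟩ := (IsPGroup.iff_orderOf.1 T.2) ⟨f, C.Ft (mem_zpowers f)⟩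
      have hN' : orderOf f = 2 ^ N := by
        rw [← hN]
        exact Subgroup.orderOf_coe (⟨f, C.Ft (mem_zpowers f)⟩ : ↥(T : Subgroup G))
      have h4 : φ = f ^ (2 * l + 1) := by
        rw [h3]
        show f * (f ^ l * f ^ l) = _
        rw [← zpow_add, ← zpow_one_add]
        congr 1
        ring
      apply le_antisymm (zpowers_le.2 hφ)
      rw [zpowers_le]
      have h5 : IsCoprime (2 * l + 1) ((2 : ℤ) ^ N) := by
        apply IsCoprime.pow_right
        exact ⟨1, -l, by ring⟩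
      obtain ⟨a, b, hab⟩ := h5
      refine ⟨a, ?_⟩
      show φ ^ a = f
      have h6 : f ^ ((2 : ℤ) ^ N) = 1 := by
        have : ((2 : ℤ) ^ N) = ((2 ^ N : ℕ) : ℤ) := by push_cast; rfl
        rw [this, zpow_natCast, ← hN', pow_orderOf_eq_one]
      calc φ ^ a = f ^ (a * (2 * l + 1)) := by rw [h4, ← zpow_mul, mul_comm]
        _ = f ^ (a * (2 * l + 1)) * (f ^ ((2 : ℤ) ^ N)) ^ b := by rw [h6, one_zpow, mul_one]
        _ = f ^ (a * (2 * l + 1) + b * 2 ^ N) := by rw [← zpow_mul, ← zpow_add, mul_comm b]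
        _ = f := by rw [hab, zpow_one]
  refine ⟨φ, ⟨C.toCfg, C.hx, by rw [hgen]; exact C.hf⟩, ?_, h1, hgen, ?_⟩
  · have h3 : φ = (x * v * x⁻¹) * v⁻¹ := by
      calc φ = (x * x) * φ := by rw [C.xx, one_mul]
        _ = x * (x * φ) := by group
        _ = x * (v * x * v⁻¹) := by rw [h1]
        _ = (x * v * x) * v⁻¹ := by group
        _ = _ := by rw [C.xi]
    rw [h3]
    exact A.mul_mem (Cfg.nA (C.TN C.hx.1) hvA) (A.inv_mem hvA)
  · intro c hc
    rw [← hgen] at hc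
    obtain ⟨k, rfl⟩ := hc
    show v * φ ^ k * v⁻¹ = (φ ^ k)⁻¹
    rw [← conj_zpow, h2, inv_zpow]

end CF

end Cfsg.Agent.H297
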