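import Mathlib
import Cfsg.Agent.H297.CfgE

/-!
# The configuration: `A` has only one involution

* `transfer_A` : the generalized transfer lemma in `A`;
* `one_inv_a` : if the centralizer of `𝒟` in `T ∩ A` has order 2 then `z` is the only involution of `T ∩ A`;
* `case_b` : it does not have order 4.
-/

set_option autoImplicit false

namespace Cfsg.Agent.H297

open Subgroup Cfsg

namespace CF

variable {G : Type*} [Group G] {A : Subgroup G} {T : Sylow 2 G} {z r x f : G}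

theorem transfer_A [Finite G] (C : CF A T z r x f) (M : Subgroup G) (hM : ∀ m ∈ M, m ∈ T ∧ m ∈ A) {t : G}
    (htT : t ∈ T) (htA : t ∈ A) (hidx : ∀ b, b ∈ T → b ∈ A → b ∉ M → b * t ∈ M)
    (h1 : ∀ g ∈ A, g * t * g⁻¹ ∈ T → g * t * g⁻¹ ∉ M)
    (h2 : ∀ g ∈ A, ∀ k : ℕ, g * t ^ (2 * k) * g⁻¹ ∈ T → g * t ^ (2 * k) * g⁻¹ ∈ M) : False := by
  obtain ⟨P, hP⟩ := Tools.exists_syl T C.TN
  have htM : t ∉ M := by
    have := h1 1 A.one_mem
    simp only [one_mul, inv_one, mul_one] at this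
    exact this htT
  apply Tools.transfer_false (G := ↥A) C.qs.1.commutator_eq_top P (M.subgroupOf A) (t := ⟨t, htA⟩)
  · intro m hm
    exact (hP m).2 (hM _ (mem_subgroupOf.1 hm)).1
  · show ((M.subgroupOf A).subgroupOf (P : Subgroup ↥A)).index = 2
    rw [index_eq_two_iff]
    refine ⟨⟨⟨t, htA⟩, (hP _).2 htT⟩, fun b => ?_⟩
    have e1 : (b * ⟨⟨t, htA⟩, (hP _).2 htT⟩ ∈ (M.subgroupOf A).subgroupOf (P : Subgroup ↥A)) ↔
        ((b : ↥A) : G) * t ∈ M := by
      rw [mem_subgroupOf, mem_subgroupOf]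
      rfl
    have e2 : (b ∈ (M.subgroupOf A).subgroupOf (P : Subgroup ↥A)) ↔ ((b : ↥A) : G) ∈ M := by
      rw [mem_subgroupOf, mem_subgroupOf]
    rw [e1, e2]
    by_cases hb : ((b : ↥A) : G) ∈ M
    · right
      refine ⟨hb, fun h => htM ?_⟩
      have := M.mul_mem (M.inv_mem hb) h
      rwa [inv_mul_cancel_left] at this
    · left
      exact ⟨hidx _ ((hP _).1 b.2) (b : ↥A).2 hb, hb⟩
  · exact (hP _).2 htT
  · intro g hg hgM
    exact h1 g g.2 ((hP _).1 hg) (mem_subgroupOf.1 hgM)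
  · intro g k hg
    rw [mem_subgroupOf]
    exact h2 g g.2 k ((hP _).1 hg)

theorem zpowers_z (C : CF A T z r x f) {n : G} (hn : n ∈ zpowers z) : n = 1 ∨ n = z := by
  obtain ⟨k, rfl⟩ := hn
  rcases Int.even_or_odd' k with ⟨m, rfl | rfl⟩
  · left
    show z ^ (2 * m) = 1
    rw [zpow_mul, zpow_two, C.zz, one_zpow]
  · right
    show z ^ (2 * m + 1) = z
    rw [zpow_add, zpow_mul, zpow_two, C.zz, one_zpow, one_mul, zpow_one]

/-- An element of `A` which is isolated modulo `z` is central. -/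
theorem iso_z [Finite G] (C : CF A T z r x f) {π : G} (hπA : π ∈ A) (hππ : π * π = 1 ∨ π * π = z)
    (hπK : ∃ a ∈ A, π * a ≠ a * π)
    (h : ∀ g : G, g * z = z * g → g * π * g⁻¹ ∈ T → g * π * g⁻¹ = π ∨ g * π * g⁻¹ = π * z) : False := by
  have hπ2 : π * π ∈ zpowers z := by
    rcases hππ with h1 | h1 <;> rw [h1]
    · exact one_mem _
    · exact mem_zpowers z
  have hcz : ∀ a ∈ A, ∀ n ∈ zpowers z, a * n = n * a := fun a ha n hn => by
    rcases C.zpowers_z hn with h1 | h1 <;> rw [h1]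
    · rw [one_mul, mul_one]
    · exact (C.zK a ha).symm
  obtain ⟨a, ha, h1, h2⟩ := ZG.zg (A := A) (N := zpowers z) C.qs
    (fun n hn a ha => (hcz a ha n hn).symm) (w := π) (le_normalizer hπA)
    (mem_nor_comm (hcz π hπA)) hπ2 hπK
  have haz : a * z = z * a := (C.zK a ha).symm
  have hπz : π * z = z * π := (C.zK π hπA).symm
  obtain ⟨π', hπ'⟩ : ∃ π', π' = a * π * a⁻¹ := ⟨_, rfl⟩
  rw [← hπ'] at h1 h2
  have hπ'A : π' ∈ A := by rw [hπ']; exact A.mul_mem (A.mul_mem ha hπA) (A.inv_mem ha)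
  have hπ'2 : π' * π' ∈ zpowers z := by
    have e : π' * π' = a * (π * π) * a⁻¹ := by rw [hπ']; group
    rw [e, hcz a ha _ hπ2, mul_inv_cancel_right]
    exact hπ2
  obtain ⟨U, hU, hU1, hU2, hU3, hU4⟩ := Tools.ext (zpow_two_of_sq C.zz) (mem_nor_comm (hcz π hπA))
    (mem_nor_comm (hcz π' hπ'A)) hπ2 hπ'2 h2
  have hUz : U ≤ centralizer {z} := by
    apply hU4
    · rw [zpowers_le, mem_centralizer_singleton_iff]
    · rw [mem_centralizer_singleton_iff]; exact hπz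
    · rw [mem_centralizer_singleton_iff]; exact (C.zK π' hπ'A).symm
  obtain ⟨k, hk, hkU⟩ := C.into_T hU (fun u hu => mem_centralizer_singleton_iff.1 (hUz hu))
  have h3 := hkU _ hU3
  have h4 := hkU _ hU2
  have h5 := h k hk h4
  have e : k * π' * k⁻¹ = (k * a) * π * (k * a)⁻¹ := by rw [hπ']; group
  have h6 := h (k * a) (by rw [mul_assoc, haz, ← mul_assoc, hk, mul_assoc]) (by rw [← e]; exact h3)
  rw [← e] at h6
  apply h1
  have h7 : k * (π' * π⁻¹) * k⁻¹ ∈ zpowers z := by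
    have e1 : k * (π' * π⁻¹) * k⁻¹ = (k * π' * k⁻¹) * (k * π * k⁻¹)⁻¹ := by group
    rw [e1]
    rcases h5 with h5 | h5 <;> rcases h6 with h6 | h6 <;> rw [h5, h6]
    · rw [mul_inv_cancel]; exact one_mem _
    · rw [hπz, mul_inv_cancel_right]; exact mem_zpowers z
    · have : π * (π * z)⁻¹ = z := by
        rw [mul_inv_rev, C.zi, ← mul_assoc, hπz, mul_inv_cancel_right]
      rw [this]; exact mem_zpowers z
    · rw [mul_inv_cancel]; exact one_mem _
  have h8 : π' * π⁻¹ = k⁻¹ * (k * (π' * π⁻¹) * k⁻¹) * k := by group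
  rw [h8]
  rcases C.zpowers_z h7 with h9 | h9
  · rw [h9, mul_one, inv_mul_cancel]; exact one_mem _
  · rw [h9, mul_assoc, ← hk, inv_mul_cancel_left]; exact mem_zpowers z

/-- From `t y t⁻¹ = y ψ²`: the element `ψ t` fixes `y`. -/
theorem fix_y (C : CF A T z r x f) {t y ψ : G} (hy : DD T z y) (hψ : ψ ∈ zpowers f)
    (h : t * y * t⁻¹ = y * (ψ * ψ)) : (ψ * t) * y = y * (ψ * t) := by
  have h2 : (ψ * t) * y * (ψ * t)⁻¹ = y := by
    calc (ψ * t) * y * (ψ * t)⁻¹ = ψ * (t * y * t⁻¹) * ψ⁻¹ := by group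
      _ = (ψ * y * ψ⁻¹) * (ψ * ψ) := by rw [h]; group
      _ = y := by rw [C.conjF hy hψ, inv_mul_cancel_right]
  rw [mul_inv_eq_iff_eq_mul] at h2
  exact h2

/-- **(F24)** the case `V₀ = ⟨z⟩`. -/
theorem one_inv_a [Finite G] (C : CF A T z r x f) (hV : ∀ v, VV A T z v → v = 1 ∨ v = z) {v : G} (hvT : v ∈ T)
    (hvA : v ∈ A) (hvv : v * v = 1) : v = 1 ∨ v = z := by
  by_contra hcon
  obtain ⟨e, he, heA, hee⟩ := C.exE
  obtain ⟨φ, C', hφA, hvx, hgen, hinv⟩ := C.inv_struct he hee hvT hvA hvv (fun h => hcon (hV v h))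
  rw [← hgen] at he hinv
  clear hgen C
  have hFA : ∀ c ∈ zpowers φ, c ∈ A := fun c hc => (zpowers_le.2 hφA) hc
  -- the centralizer of `x`
  have hCx : ∀ t, t ∈ T → t ∈ A → t * x = x * t → t = 1 ∨ t = z := by
    intro t htT htA htx
    have hte := C'.noswap he hee htT (C'.hAr htA) C'.hx htx
    have key : ∀ w, w ∈ T → w ∈ A → w * e = e * w → InA A z x w → w = 1 := by
      intro w hwT hwA hwe hwx
      by_contra hw1
      obtain ⟨m, hm1, hm2⟩ := Setup.exists_inv T.2 hwT hw1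
      have h1 := C'.vv_of_inv he hee ((T : Subgroup G).pow_mem hwT m) (A.pow_mem hwA m) hm2
        (Commute.pow_left (show Commute w e from hwe) m)
      rcases hV _ h1 with h2 | h2
      · exact hm1 h2
      · apply C'.hx.2.2
        apply C'.eq_of_inA C'.hx.2.1
        have h3 : ∀ n : ℕ, InA A z x (w ^ n) := by
          intro n
          induction n with
          | zero => rw [pow_zero]; exact Cfg.inA_one
          | succ n ih => rw [pow_succ]; exact Cfg.inA_mul ih hwx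
        have h4 := h3 m
        rw [h2] at h4
        exact h4
    rcases C'.inA_two htT htA C'.hx htx with h | h
    · exact Or.inl (key t htT htA hte h)
    · right
      have h1 := key (t * z) ((T : Subgroup G).mul_mem htT C'.zTm) (A.mul_mem htA C'.zA) (by
        rw [mul_assoc, ← C'.Tz e (C'.Ft he), ← mul_assoc, hte, mul_assoc]) h
      rw [mul_eq_one_iff_eq_inv, C'.zi] at h1
      exact h1
  have hzF := C'.zF
  have heven : ∀ t, t ∈ T → t ∈ A → ∀ ψ ∈ zpowers φ, t * x * t⁻¹ = x * (ψ * ψ) → t ∈ zpowers φ := by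
    intro t htT htA ψ hψ h
    have h1 := C'.fix_y C'.hx hψ h
    have h2 : t = ψ⁻¹ * (ψ * t) := by group
    rw [h2]
    rcases hCx _ ((T : Subgroup G).mul_mem (C'.Ft hψ) htT) (A.mul_mem (hFA _ hψ) htA) h1 with h3 | h3 <;> rw [h3]
    · exact mul_mem (inv_mem hψ) (one_mem _)
    · exact mul_mem (inv_mem hψ) hzF
  have hvi : v⁻¹ = v := inv_eq_of_mul_eq_one_left hvv
  apply C'.transfer_A (zpowers φ) (fun m hm => ⟨C'.Ft hm, hFA m hm⟩) hvT hvA
  · intro b hbT hbA hb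
    obtain ⟨ψ, hψ, h1⟩ := C'.exists_psi C'.hx hbT
    rcases par hψ with ⟨χ, hχ, rfl⟩ | ⟨χ, hχ, rfl⟩
    · exact absurd (heven b hbT hbA χ hχ h1) hb
    · have h2 : (v * b) * x * (v * b)⁻¹ = x * (χ⁻¹ * χ⁻¹) := by
        calc (v * b) * x * (v * b)⁻¹ = v * (b * x * b⁻¹) * v⁻¹ := by group
          _ = (v * x * v⁻¹) * (v * φ * v⁻¹) * (v * (χ * χ) * v⁻¹) := by rw [h1]; group
          _ = x * (χ * χ)⁻¹ := by
            rw [hvx, hinv φ (mem_zpowers φ), hinv _ (mul_mem hχ hχ), mul_inv_cancel_right]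
          _ = _ := by rw [mul_inv_rev]
      have h3 := heven _ ((T : Subgroup G).mul_mem hvT hbT) (A.mul_mem hvA hbA) _ (inv_mem hχ) h2
      have h4 := hinv _ h3
      have h6 : v * (v * b) * v⁻¹ = b * v := by
        rw [← mul_assoc, hvv, one_mul, hvi]
      rw [h6] at h4
      rw [h4]
      exact inv_mem h3
  · intro g hg hgT hgF
    have h1 : g * v * g⁻¹ * (g * v * g⁻¹) = 1 := by
      calc g * v * g⁻¹ * (g * v * g⁻¹) = g * (v * v) * g⁻¹ := by group
        _ = 1 := by rw [hvv]; group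
    rcases C'.uF hgF h1 with h2 | h2
    · apply hcon
      left
      rw [mul_inv_eq_one, mul_eq_left] at h2
      exact h2
    · apply hcon
      right
      rw [mul_inv_eq_iff_eq_mul, C'.zK g hg] at h2
      exact mul_left_cancel h2
  · intro g hg k _
    rw [pow_mul, pow_two, hvv, one_pow, mul_one, mul_inv_cancel]
    exact one_mem _

end CF

/-- The configuration when `V₀` has order 4. -/
structure BB {G : Type*} [Group G] (A : Subgroup G) (T : Sylow 2 G) (z r x f u v : G) : Prop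
    extends CF A T z r x f where
  hu : CF.VV A T z u
  u1 : u ≠ 1
  unz : u ≠ z
  uu : u * u = 1
  ux : InA A z x u
  uxf : InA A z (x * f) (u * z)
  hV : ∀ w, CF.VV A T z w → w = 1 ∨ w = z ∨ w = u ∨ w = u * z
  fA : f ∈ A
  vT : v ∈ T
  vA : v ∈ A
  vv : v * v = 1
  vx : v * x * v⁻¹ = x * f
  vinv : ∀ c ∈ zpowers f, v * c * v⁻¹ = c⁻¹
  vu : v * u * v⁻¹ = u * z

namespace BB

variable {G : Type*} [Group G] {A : Subgroup G} {T : Sylow 2 G} {z r x f u v : G}

theorem FA (B : BB A T z r x f u v) {c : G} (hc : c ∈ zpowers f) : c ∈ A := (zpowers_le.2 B.fA) hc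

theorem vi (B : BB A T z r x f u v) : v⁻¹ = v := inv_eq_of_mul_eq_one_left B.vv

theorem ui (B : BB A T z r x f u v) : u⁻¹ = u := inv_eq_of_mul_eq_one_left B.uu

/-- conjugates of `u` under `T`. -/
theorem conj_u [Finite G] {T : Sylow 2 G} (C : CF A T z r x f) (hu : CF.VV A T z u) (u1 : u ≠ 1) (unz : u ≠ z)
    (hV : ∀ w, CF.VV A T z w → w = 1 ∨ w = z ∨ w = u ∨ w = u * z) {t : G} (ht : t ∈ T) :
    t * u * t⁻¹ = u ∨ t * u * t⁻¹ = u * z := by
  rcases hV _ (C.vv_conj hu ht) with h | h | h | h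
  · rw [mul_inv_eq_one, mul_eq_left] at h
    exact absurd h u1
  · rw [mul_inv_eq_iff_eq_mul, ← C.Tz t ht] at h
    exact absurd (mul_left_cancel h) unz
  · exact Or.inl h
  · exact Or.inr h

theorem even_of_comm [Finite G] {T : Sylow 2 G} (C : CF A T z r x f) (hu : CF.VV A T z u) (ux : InA A z x u)
    (uxf : InA A z (x * f) (u * z)) {t : G} (ht : t ∈ T) (htu : t * u = u * t) :
    ∃ χ ∈ zpowers f, t * x * t⁻¹ = x * (χ * χ) := by
  obtain ⟨ψ, hψ, h1⟩ := C.exists_psi C.hx ht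
  rcases CF.par hψ with ⟨χ, hχ, rfl⟩ | ⟨χ, hχ, rfl⟩
  · exact ⟨χ, hχ, h1⟩
  · exfalso
    have h2 := Cfg.inA_conj t ux
    rw [h1, htu, mul_inv_cancel_right, ← mul_assoc, C.inA_shift C.hxf hχ (C.vv_F hu hχ)] at h2
    exact C.not_both C.hxf h2 uxf

theorem comm_e [Finite G] {T : Sylow 2 G} (C : CF A T z r x f) (hu : CF.VV A T z u) (ux : InA A z x u)
    (uxf : InA A z (x * f) (u * z)) {e t : G} (he : e ∈ zpowers f) (hee : e * e = z) (ht : t ∈ T) (htA : t ∈ A)
    (htu : t * u = u * t) : t * e = e * t := by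
  obtain ⟨χ, hχ, h1⟩ := even_of_comm C hu ux uxf ht htu
  exact C.comm_e_of_even he hee ht htA C.hx hχ h1

end BB

/-- If `V₀` has order 4, there is a configuration `BB`. -/
theorem CF.exists_BB {G : Type*} [Group G] [Finite G] {A : Subgroup G} {T : Sylow 2 G} {z r x f : G}
    (C : CF A T z r x f) {u : G} (hu : CF.VV A T z u) (u1 : u ≠ 1) (unz : u ≠ z) (uu : u * u = 1)
    (ux : InA A z x u) (uxf : InA A z (x * f) (u * z))
    (hV : ∀ w, CF.VV A T z w → w = 1 ∨ w = z ∨ w = u ∨ w = u * z) : ∃ φ v : G, BB A T z r x φ u v := by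
  obtain ⟨e, he, heA, hee⟩ := C.exE
  have huK : ∃ a ∈ A, u * a ≠ a * u := by
    by_contra hcon
    push Not at hcon
    rcases C.R2 u hu.1 hcon uu with h | h
    · exact u1 h
    · exact unz h
  have hex : ∃ g : G, g * z = z * g ∧ g * u * g⁻¹ ∈ T ∧ g * u * g⁻¹ ≠ u ∧ g * u * g⁻¹ ≠ u * z := by
    by_contra hcon
    push Not at hcon
    apply C.iso_z hu.2.1 (Or.inl uu) huK
    intro g hg hgT
    by_cases h : g * u * g⁻¹ = u
    · exact Or.inl h
    · exact Or.inr (hcon g hg hgT h)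
  obtain ⟨g, hg, hgT, hg1, hg2⟩ := hex
  obtain ⟨v, hv⟩ : ∃ v, v = g * u * g⁻¹ := ⟨_, rfl⟩
  rw [← hv] at hgT hg1 hg2
  have hvA : v ∈ A := by rw [hv]; exact Cfg.nA (C.CN g hg) hu.2.1
  have hvv : v * v = 1 := by
    rw [hv]
    calc g * u * g⁻¹ * (g * u * g⁻¹) = g * (u * u) * g⁻¹ := by group
      _ = 1 := by rw [uu]; group
  have hvV : ¬ CF.VV A T z v := by
    intro h
    rcases hV v h with h1 | h1 | h1 | h1
    · rw [hv, mul_inv_eq_one, mul_eq_left] at h1
      exact u1 h1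
    · rw [hv, mul_inv_eq_iff_eq_mul, ← hg] at h1
      exact unz (mul_left_cancel h1)
    · exact hg1 h1
    · exact hg2 h1
  obtain ⟨φ, C', hφA, hvx, hgen, hinv⟩ := C.inv_struct he hee hgT hvA hvv hvV
  have hvu : v * u * v⁻¹ = u * z := by
    rcases BB.conj_u C hu u1 unz hV hgT with h | h
    · exfalso
      rw [mul_inv_eq_iff_eq_mul] at h
      exact hvV (C.vv_of_inv he hee hgT hvA hvv (BB.comm_e C hu ux uxf he hee hgT hvA h))
    · exact h
  refine ⟨φ, v, ⟨C', hu, u1, unz, uu, ux, ?_, hV, hφA, hgT, hvA, hvv, hvx, ?_, hvu⟩⟩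
  · rw [← hvx, ← hvu]
    exact Cfg.inA_conj v ux
  · rw [hgen]
    exact hinv

end Cfsg.Agent.H297
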