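import Mathlib
import Cfsg.Agent.H297.CfgF

/-!
# The configuration: the centralizer of `𝒟` in `T ∩ A` does not have order 4
-/

set_option autoImplicit false

namespace Cfsg.Agent.H297

open Subgroup Cfsg

namespace CF

variable {G : Type*} [Group G] {A : Subgroup G} {T : Sylow 2 G} {z r x f : G}

theorem exists_k (C : CF A T z r x f) {t : G} (ht : t ∈ T) : ∃ k : ℤ, ∀ c ∈ zpowers f, t * c * t⁻¹ = c ^ k := by
  obtain ⟨k, hk⟩ := C.norT ht (mem_zpowers f)
  have hk' : f ^ k = t * f * t⁻¹ := hk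
  refine ⟨k, ?_⟩
  rintro _ ⟨j, rfl⟩
  show t * f ^ j * t⁻¹ = (f ^ j) ^ k
  rw [← conj_zpow, ← hk', ← zpow_mul, ← zpow_mul, mul_comm]

theorem E_mul {s t : G} {k l : ℤ} (hs : ∀ c ∈ zpowers f, s * c * s⁻¹ = c ^ k)
    (ht : ∀ c ∈ zpowers f, t * c * t⁻¹ = c ^ l) : ∀ c ∈ zpowers f, (s * t) * c * (s * t)⁻¹ = c ^ (k * l) := by
  intro c hc
  calc (s * t) * c * (s * t)⁻¹ = s * (t * c * t⁻¹) * s⁻¹ := by group
    _ = (s * c * s⁻¹) ^ l := by rw [ht c hc, conj_zpow]
    _ = c ^ (k * l) := by rw [hs c hc, zpow_mul]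

theorem E_pow {s : G} {k : ℤ} (hs : ∀ c ∈ zpowers f, s * c * s⁻¹ = c ^ k) (n : ℕ) :
    ∀ c ∈ zpowers f, s ^ n * c * (s ^ n)⁻¹ = c ^ (k ^ n) := by
  induction n with
  | zero => intro c _; simp
  | succ n ih =>
    rw [pow_succ, pow_succ]
    exact E_mul ih hs

/-- If `w` commutes with `e` and `w²` centralizes `F`, then `w f w⁻¹ ∈ {f, f z}`. -/
theorem act_two [Finite G] (C : CF A T z r x f) {e w : G} (he : e ∈ zpowers f) (hee : e * e = z) (hwT : w ∈ T)
    (hwe : w * e = e * w) (hww : ∀ c ∈ zpowers f, (w * w) * c = c * (w * w)) :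
    w * f * w⁻¹ = f ∨ w * f * w⁻¹ = f * z := by
  obtain ⟨ψ, hψdef⟩ : ∃ ψ, ψ = f⁻¹ * (w * f * w⁻¹) := ⟨_, rfl⟩
  have hψ : ψ ∈ zpowers f := by
    rw [hψdef]
    exact mul_mem (inv_mem (mem_zpowers f)) (C.norT hwT (mem_zpowers f))
  have h1 : w * f * w⁻¹ = f * ψ := by rw [hψdef]; group
  have h2 : w * ψ * w⁻¹ = ψ⁻¹ := by
    have h3 : f = f * ψ * (w * ψ * w⁻¹) := by
      calc f = (f * (w * w)) * (w * w)⁻¹ := by group
        _ = ((w * w) * f) * (w * w)⁻¹ := by rw [hww f (mem_zpowers f)]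
        _ = w * (w * f * w⁻¹) * w⁻¹ := by group
        _ = w * (f * ψ) * w⁻¹ := by rw [h1]
        _ = (w * f * w⁻¹) * (w * ψ * w⁻¹) := by group
        _ = f * ψ * (w * ψ * w⁻¹) := by rw [h1]
    rw [mul_assoc] at h3
    exact (inv_eq_of_mul_eq_one_right (mul_eq_left.1 h3.symm)).symm
  rcases C.inv_e he hee hwT hwe hψ h2 with h3 | h3
  · left; rw [h1, h3, mul_one]
  · right; rw [h1, h3]

end CF

namespace BB

variable {G : Type*} [Group G] {A : Subgroup G} {T : Sylow 2 G} {z r x f u v : G}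

theorem commE [Finite G] (B : BB A T z r x f u v) {e t : G} (he : e ∈ zpowers f) (hee : e * e = z) (ht : t ∈ T)
    (htA : t ∈ A) (htu : t * u = u * t) : t * e = e * t := comm_e B.toCF B.hu B.ux B.uxf he hee ht htA htu

theorem commU [Finite G] (B : BB A T z r x f u v) {e t : G} (he : e ∈ zpowers f) (hee : e * e = z) (ht : t ∈ T)
    (htA : t ∈ A) (hte : t * e = e * t) : t * u = u * t := by
  rcases conj_u B.toCF B.hu B.u1 B.unz B.hV ht with h | h
  · rw [mul_inv_eq_iff_eq_mul] at h; exact h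
  exfalso
  have h1 : (v * t) * u * (v * t)⁻¹ = u := by
    calc (v * t) * u * (v * t)⁻¹ = v * (t * u * t⁻¹) * v⁻¹ := by group
      _ = (v * u * v⁻¹) * (v * z * v⁻¹) := by rw [h]; group
      _ = u * z * z := by rw [B.vu, B.Tz v B.vT, mul_inv_cancel_right]
      _ = u := by rw [mul_assoc, B.zz, mul_one]
  rw [mul_inv_eq_iff_eq_mul] at h1
  have h2 := B.commE he hee ((T : Subgroup G).mul_mem B.vT ht) (A.mul_mem B.vA htA) h1
  have h3 : v * e * v⁻¹ = e := by
    have h4 : (v * t) * e * (v * t)⁻¹ = e := by rw [mul_inv_eq_iff_eq_mul]; exact h2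
    have h5 : t * e * t⁻¹ = e := by rw [mul_inv_eq_iff_eq_mul]; exact hte
    calc v * e * v⁻¹ = v * (t * e * t⁻¹) * v⁻¹ := by rw [h5]
      _ = (v * t) * e * (v * t)⁻¹ := by group
      _ = e := h4
  rw [B.vinv e he] at h3
  apply B.z1
  rw [← hee]
  nth_rewrite 1 [← h3]
  exact inv_mul_cancel e

/-- Conjugates of `u`. -/
theorem conj_inv [Finite G] (B : BB A T z r x f u v) {e g : G} (he : e ∈ zpowers f) (hee : e * e = z)
    (hg : g * z = z * g) (hgT : g * u * g⁻¹ ∈ T) :
    (g * u * g⁻¹ = u ∨ g * u * g⁻¹ = u * z) ∨ ∀ c ∈ zpowers f, (g * u * g⁻¹) * c * (g * u * g⁻¹)⁻¹ = c⁻¹ := by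
  have hA : g * u * g⁻¹ ∈ A := Cfg.nA (B.CN g hg) B.hu.2.1
  have h2 : g * u * g⁻¹ * (g * u * g⁻¹) = 1 := by
    calc g * u * g⁻¹ * (g * u * g⁻¹) = g * (u * u) * g⁻¹ := by group
      _ = 1 := by rw [B.uu]; group
  by_cases hVV : CF.VV A T z (g * u * g⁻¹)
  · left
    rcases B.hV _ hVV with h | h | h | h
    · rw [mul_inv_eq_one, mul_eq_left] at h
      exact absurd h B.u1
    · rw [mul_inv_eq_iff_eq_mul, ← hg] at h
      exact absurd (mul_left_cancel h) B.unz
    · exact Or.inl h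
    · exact Or.inr h
  · right
    obtain ⟨_, -, -, -, -, h3⟩ := B.toCF.inv_struct he hee hgT hA h2 hVV
    exact h3

theorem uF [Finite G] (B : BB A T z r x f u v) : u ∉ zpowers f := by
  intro h
  rcases B.toCF.uF h B.uu with h1 | h1
  · exact B.u1 h1
  · exact B.unz h1

theorem sq_e [Finite G] (B : BB A T z r x f u v) {e t : G} (he : e ∈ zpowers f) (hee : e * e = z) (ht : t ∈ T) :
    (t * t) * e = e * (t * t) := by
  have h1 : (t * t) * e * (t * t)⁻¹ = e := by
    rcases B.toCF.e_conj he hee ht with h | h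
    · calc (t * t) * e * (t * t)⁻¹ = t * (t * e * t⁻¹) * t⁻¹ := by group
        _ = e := by rw [h, h]
    · calc (t * t) * e * (t * t)⁻¹ = t * (t * e * t⁻¹) * t⁻¹ := by group
        _ = t * (e * z) * t⁻¹ := by rw [h]
        _ = (t * e * t⁻¹) * (t * z * t⁻¹) := by group
        _ = e * z * z := by rw [h, B.Tz t ht, mul_inv_cancel_right]
        _ = e := by rw [mul_assoc, B.zz, mul_one]
  rw [mul_inv_eq_iff_eq_mul] at h1
  exact h1

/-- Elements of `T ∩ A` commuting with `e` centralize `F`. -/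
theorem centF [Finite G] (B : BB A T z r x f u v) {e : G} (he : e ∈ zpowers f) (hee : e * e = z) :
    ∀ s, s ∈ T → s ∈ A → s * e = e * s → ∀ c ∈ zpowers f, s * c = c * s := by
  by_contra hcon
  have hp0 : ¬ ∀ s, s ∈ T → s ∈ A → s * e = e * s → ∀ c ∈ zpowers f, s ^ 2 ^ 0 * c = c * s ^ 2 ^ 0 := by
    simp only [pow_zero, pow_one]
    exact hcon
  have hex : ∃ j : ℕ, ∀ s, s ∈ T → s ∈ A → s * e = e * s → ∀ c ∈ zpowers f, s ^ 2 ^ j * c = c * s ^ 2 ^ j := by
    have hp : Fact (Nat.Prime 2) := ⟨Nat.prime_two⟩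
    obtain ⟨N, hN⟩ := T.2.exists_card_eq
    refine ⟨N, fun s hs _ _ c _ => ?_⟩
    have h1 : (⟨s, hs⟩ : ↥(T : Subgroup G)) ^ 2 ^ N = 1 := by rw [← hN]; exact pow_card_eq_one'
    have h2 : s ^ 2 ^ N = 1 := congrArg Subtype.val h1
    rw [h2, one_mul, mul_one]
  obtain ⟨l, hl1, hl2⟩ : ∃ l : ℕ, (¬ ∀ s, s ∈ T → s ∈ A → s * e = e * s → ∀ c ∈ zpowers f,
      s ^ 2 ^ l * c = c * s ^ 2 ^ l) ∧ ∀ s, s ∈ T → s ∈ A → s * e = e * s → ∀ c ∈ zpowers f,
      s ^ 2 ^ (l + 1) * c = c * s ^ 2 ^ (l + 1) := by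
    classical
    have hj := Nat.find_spec hex
    have hmin := fun m => Nat.find_min hex (m := m)
    rcases hj0 : Nat.find hex with _ | l
    · rw [hj0] at hj
      exact absurd hj hp0
    · rw [hj0] at hj
      refine ⟨l, hmin l (by omega), hj⟩
  clear hex hp0 hcon
  obtain ⟨n, hn⟩ : ∃ n, n = 2 ^ l := ⟨_, rfl⟩
  have hn2 : 2 ^ (l + 1) = n + n := by rw [hn]; ring
  rw [← hn] at hl1
  rw [hn2] at hl2
  push Not at hl1
  obtain ⟨t₀, ht₀T, ht₀A, ht₀e, c₁, hc₁, hne₀⟩ := hl1
  -- adjust `t`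
  obtain ⟨t, htT, htA, hte, htx, hux, hne⟩ : ∃ t, t ∈ T ∧ t ∈ A ∧ t * e = e * t ∧ t * x = x * t ∧ InA A z x t ∧
      t ^ n * c₁ ≠ c₁ * t ^ n := by
    have h1 := B.commU he hee ht₀T ht₀A ht₀e
    obtain ⟨χ, hχ, h2⟩ := even_of_comm B.toCF B.hu B.ux B.uxf ht₀T h1
    have h3 := B.toCF.fix_y B.hx hχ h2
    have hT1 : χ * t₀ ∈ T := (T : Subgroup G).mul_mem (B.Ft hχ) ht₀T
    have hA1 : χ * t₀ ∈ A := A.mul_mem (B.FA hχ) ht₀A
    have he1 : (χ * t₀) * e = e * (χ * t₀) := by
      rw [mul_assoc, ht₀e, ← mul_assoc, CF.Fcomm hχ he, mul_assoc]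
    obtain ⟨k, hk⟩ := B.exists_k ht₀T
    have hχk : ∀ c ∈ zpowers f, χ * c * χ⁻¹ = c ^ (1 : ℤ) := fun c hc => by
      rw [CF.Fcomm hχ hc, mul_inv_cancel_right, zpow_one]
    have h4 := CF.E_mul hχk hk
    rw [one_mul] at h4
    have h5 := CF.E_pow h4 n c₁ hc₁
    have h6 := CF.E_pow hk n c₁ hc₁
    have hne1 : (χ * t₀) ^ n * c₁ ≠ c₁ * (χ * t₀) ^ n := by
      intro h7
      apply hne₀
      rw [h7, mul_inv_cancel_right, ← h6] at h5
      rw [eq_comm, mul_inv_eq_iff_eq_mul] at h5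
      exact h5
    rcases B.toCF.inA_two hT1 hA1 B.hx h3 with h7 | h7
    · exact ⟨_, hT1, hA1, he1, h3, h7, hne1⟩
    · refine ⟨χ * t₀ * z, (T : Subgroup G).mul_mem hT1 B.zTm, A.mul_mem hA1 B.zA, ?_, ?_, h7, ?_⟩
      · rw [mul_assoc, ← B.Tz e (B.Ft he), ← mul_assoc, he1, mul_assoc]
      · rw [mul_assoc, ← B.Tz x B.hx.1, ← mul_assoc, h3, mul_assoc]
      · intro h8
        apply hne1
        have h9 : (χ * t₀ * z) ^ n = (χ * t₀) ^ n * z ^ n :=
          (show Commute (χ * t₀) z from B.Tz _ hT1).mul_pow n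
        have h10 : z ^ n * c₁ = c₁ * z ^ n :=
          (Commute.pow_left (show Commute z c₁ from (B.Tz c₁ (B.Ft hc₁)).symm) n)
        rw [h9, mul_assoc, h10, ← mul_assoc, ← mul_assoc] at h8
        exact mul_right_cancel h8
  -- `q = t^n`
  have hqT : t ^ n ∈ T := (T : Subgroup G).pow_mem htT n
  have hqA : t ^ n ∈ A := A.pow_mem htA n
  have hqe : t ^ n * e = e * t ^ n := (Commute.pow_left (show Commute t e from hte) n)
  have hqx : t ^ n * x = x * t ^ n := (Commute.pow_left (show Commute t x from htx) n)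
  have hqInA : ∀ m : ℕ, InA A z x (t ^ m) := by
    intro m
    induction m with
    | zero => rw [pow_zero]; exact Cfg.inA_one
    | succ m ih => rw [pow_succ]; exact Cfg.inA_mul ih hux
  have hqq : t ^ (n + n) = u := by
    have h1 : CF.VV A T z (t ^ (n + n)) := B.toCF.vv_of ((T : Subgroup G).pow_mem htT _) (A.pow_mem htA _)
      (Commute.pow_left (show Commute t x from htx) _) (hl2 t htT htA hte)
    rcases B.hV _ h1 with h2 | h2 | h2 | h2
    · exfalso
      apply hne
      exact B.toCF.vv_F (B.toCF.vv_of_inv he hee hqT hqA (by rw [← pow_add]; exact h2) hqe) hc₁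
    · exfalso
      apply B.hx.2.2
      apply B.toCF.eq_of_inA B.hx.2.1
      rw [← h2]
      have := hqInA (n + n)
      rw [h2] at this ⊢
      exact this
    · exact h2
    · exfalso
      have := hqInA (n + n)
      rw [h2] at this
      exact B.toCF.not_both B.hx B.ux this
  -- conjugates of `q`
  have qlem : ∀ g : G, g * z = z * g → g * t ^ n * g⁻¹ ∈ T →
      (g * t ^ n * g⁻¹) * e = e * (g * t ^ n * g⁻¹) ∧
      ¬ ∀ c ∈ zpowers f, (g * t ^ n * g⁻¹) * c = c * (g * t ^ n * g⁻¹) := by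
    intro g hg hgT
    obtain ⟨w, hw⟩ : ∃ w, w = g * t ^ n * g⁻¹ := ⟨_, rfl⟩
    rw [← hw] at hgT ⊢
    have hwA : w ∈ A := by rw [hw]; exact Cfg.nA (B.CN g hg) hqA
    have hww : w * w = g * u * g⁻¹ := by
      rw [hw, ← hqq, pow_add]
      group
    have hwwT : g * u * g⁻¹ ∈ T := by rw [← hww]; exact (T : Subgroup G).mul_mem hgT hgT
    have hwwe : (g * u * g⁻¹) * e = e * (g * u * g⁻¹) := by
      rw [← hww]
      exact B.sq_e he hee hgT
    have h1 : g * u * g⁻¹ = u ∨ g * u * g⁻¹ = u * z := by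
      rcases B.conj_inv he hee hg hwwT with h2 | h2
      · exact h2
      · exfalso
        have h3 := h2 e he
        rw [hwwe, mul_inv_cancel_right] at h3
        apply B.z1
        rw [← hee]
        nth_rewrite 1 [h3]
        exact inv_mul_cancel e
    have hwu : w * u = u * w := by
      have h2 : w * (w * w) = (w * w) * w := by group
      rw [hww] at h2
      rcases h1 with h3 | h3 <;> rw [h3] at h2
      · exact h2
      · have h4 : (w * u) * z = (u * w) * z := by
          calc (w * u) * z = w * (u * z) := by group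
            _ = u * (z * w) := by rw [h2]; group
            _ = u * w * z := by rw [← B.Tz w hgT]; group
        exact mul_right_cancel h4
    have hwe := B.commE he hee hgT hwA hwu
    refine ⟨hwe, fun hcF => ?_⟩
    obtain ⟨χ, hχ, h2⟩ := even_of_comm B.toCF B.hu B.ux B.uxf hgT hwu
    have h3 := B.toCF.fix_y B.hx hχ h2
    have h4 : CF.VV A T z (χ * w) := B.toCF.vv_of ((T : Subgroup G).mul_mem (B.Ft hχ) hgT)
      (A.mul_mem (B.FA hχ) hwA) h3 (fun c hc => by
        rw [mul_assoc, hcF c hc, ← mul_assoc, CF.Fcomm hχ hc, mul_assoc])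
    -- `(χ w)² = χ² w²`
    have h5 : (χ * w) * (χ * w) = (χ * χ) * (w * w) := by
      calc (χ * w) * (χ * w) = χ * (w * χ) * w := by group
        _ = χ * (χ * w) * w := by rw [hcF χ hχ]
        _ = _ := by group
    have h6 : (χ * w) * (χ * w) = 1 := by
      have huz : u * z = z * u := B.Tz u B.hu.1
      rcases B.hV _ h4 with h7 | h7 | h7 | h7 <;> rw [h7]
      · rw [one_mul]
      · exact B.zz
      · exact B.uu
      · calc u * z * (u * z) = u * (z * u) * z := by group
          _ = (u * u) * (z * z) := by rw [← huz]; group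
          _ = 1 := by rw [B.uu, B.zz, mul_one]
    have h7 : w * w ∈ zpowers f := by
      have h8 : w * w = (χ * χ)⁻¹ := by
        rw [h5] at h6
        exact (inv_eq_of_mul_eq_one_right h6).symm
      rw [h8]
      exact inv_mem (mul_mem hχ hχ)
    rw [hww] at h7
    apply B.uF
    rcases h1 with h8 | h8 <;> rw [h8] at h7
    · exact h7
    · have h9 : u = u * z * z := by rw [mul_assoc, B.zz, mul_one]
      rw [h9]
      exact mul_mem h7 B.zF
  -- the exponents
  obtain ⟨kt, hkt⟩ := B.exists_k htT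
  have hktn := CF.E_pow hkt n
  have hf := mem_zpowers f
  have htf : f ^ (kt ^ n) = f * z := by
    have h1 := hktn f hf
    rcases B.toCF.act_two he hee hqT hqe (fun c hc => by
      have := hl2 t htT htA hte c hc
      rwa [pow_add] at this) with h2 | h2
    · exfalso
      have h3 := (qlem 1 (by rw [one_mul, mul_one]) (by simpa using hqT)).2
      apply h3
      rintro _ ⟨j, rfl⟩
      rw [one_mul, inv_one, mul_one]
      rw [mul_inv_eq_iff_eq_mul] at h2
      exact (Commute.zpow_right (show Commute (t ^ n) f from h2) j)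
    · rw [← h1, h2]
  have htf2 : f ^ (kt ^ n * kt ^ n) = f := by
    have h1 := CF.E_mul hktn hktn f hf
    rw [← h1]
    have h2 : (t ^ n * t ^ n) * f = f * (t ^ n * t ^ n) := by
      have := hl2 t htT htA hte f hf
      rwa [pow_add] at this
    rw [h2, mul_inv_cancel_right]
  have hS₀ : ∀ (b : G) (k : ℤ), b ∈ T → b ∈ A → b * e = e * b → (∀ c ∈ zpowers f, b * c * b⁻¹ = c ^ k) →
      f ^ (k ^ n) = f ∨ f ^ (k ^ n) = f ^ (kt ^ n) := by
    intro b k hbT hbA hbe hk
    have h1 := CF.E_pow hk n f hf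
    rcases B.toCF.act_two he hee ((T : Subgroup G).pow_mem hbT n)
      (Commute.pow_left (show Commute b e from hbe) n) (fun c hc => by
        have := hl2 b hbT hbA hbe c hc
        rwa [pow_add] at this) with h2 | h2
    · left; rw [← h1, h2]
    · right; rw [← h1, h2, htf]
  have hall : ∀ k : ℤ, f ^ k = f → ∀ c ∈ zpowers f, c ^ k = c := by
    rintro k hk _ ⟨j, rfl⟩
    show (f ^ j) ^ k = f ^ j
    rw [← zpow_mul, mul_comm, zpow_mul, hk]
  have halli : ∀ k : ℤ, f ^ k = f⁻¹ → ∀ c ∈ zpowers f, c ^ k = c⁻¹ := by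
    rintro k hk _ ⟨j, rfl⟩
    show (f ^ j) ^ k = (f ^ j)⁻¹
    rw [← zpow_mul, mul_comm, zpow_mul, hk, inv_zpow]
  -- the subgroup `M`
  let M : Subgroup G :=
    { carrier := {s | s ∈ T ∧ s ∈ A ∧ ((∀ c ∈ zpowers f, s ^ n * c * (s ^ n)⁻¹ = c) ∨
        ∀ c ∈ zpowers f, s ^ n * c * (s ^ n)⁻¹ = c⁻¹)}
      one_mem' := ⟨(T : Subgroup G).one_mem, A.one_mem, Or.inl fun c _ => by simp⟩
      mul_mem' := by
        rintro s s' ⟨h1, h2, h3⟩ ⟨h1', h2', h3'⟩
        refine ⟨(T : Subgroup G).mul_mem h1 h1', A.mul_mem h2 h2', ?_⟩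
        obtain ⟨k, hk⟩ := B.exists_k h1
        obtain ⟨k', hk'⟩ := B.exists_k h1'
        have e1 := CF.E_pow (CF.E_mul hk hk') n
        have e2 := CF.E_pow hk n
        have e3 := CF.E_pow hk' n
        have e4 : ∀ c ∈ zpowers f, c ^ ((k * k') ^ n) = (c ^ (k ^ n)) ^ (k' ^ n) := fun c hc => by
          rw [← zpow_mul, mul_pow]
        rcases h3 with h3 | h3 <;> rcases h3' with h3' | h3'
        · left
          intro c hc
          rw [e1 c hc, e4 c hc, ← e2 c hc, h3 c hc, ← e3 c hc, h3' c hc]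
        · right
          intro c hc
          rw [e1 c hc, e4 c hc, ← e2 c hc, h3 c hc, ← e3 c hc, h3' c hc]
        · right
          intro c hc
          rw [e1 c hc, e4 c hc, ← e2 c hc, h3 c hc, ← e3 _ (inv_mem hc), h3' _ (inv_mem hc)]
        · left
          intro c hc
          rw [e1 c hc, e4 c hc, ← e2 c hc, h3 c hc, ← e3 _ (inv_mem hc), h3' _ (inv_mem hc), inv_inv]
      inv_mem' := by
        rintro s ⟨h1, h2, h3⟩
        refine ⟨(T : Subgroup G).inv_mem h1, A.inv_mem h2, ?_⟩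
        have hnor : ∀ c ∈ zpowers f, (s ^ n)⁻¹ * c * s ^ n ∈ zpowers f := by
          intro c hc
          have := B.norT ((T : Subgroup G).inv_mem ((T : Subgroup G).pow_mem h1 n)) hc
          rwa [inv_inv] at this
        rcases h3 with h3 | h3
        · left
          intro c hc
          have h4 := h3 _ (hnor c hc)
          rw [inv_pow, inv_inv, ← h4]
          have e5 : s ^ n * ((s ^ n)⁻¹ * c * s ^ n) * (s ^ n)⁻¹ = c := by group
          rw [e5] at h4 ⊢
        · right
          intro c hc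
          have h4 := h3 _ (hnor c hc)
          have e5 : s ^ n * ((s ^ n)⁻¹ * c * s ^ n) * (s ^ n)⁻¹ = c := by group
          rw [e5] at h4
          rw [inv_pow, inv_inv]
          exact (inv_eq_iff_eq_inv.2 h4).symm }
  have hM : ∀ s, s ∈ M ↔ s ∈ T ∧ s ∈ A ∧ ((∀ c ∈ zpowers f, s ^ n * c * (s ^ n)⁻¹ = c) ∨
        ∀ c ∈ zpowers f, s ^ n * c * (s ^ n)⁻¹ = c⁻¹) := fun _ => Iff.rfl
  have hMk : ∀ (s : G) (k : ℤ), s ∈ T → s ∈ A → (∀ c ∈ zpowers f, s * c * s⁻¹ = c ^ k) →
      (f ^ (k ^ n) = f ∨ f ^ (k ^ n) = f⁻¹) → s ∈ M := by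
    intro s k h1 h2 h3 h4
    rw [hM]
    refine ⟨h1, h2, ?_⟩
    have e2 := CF.E_pow h3 n
    rcases h4 with h4 | h4
    · left
      intro c hc
      rw [e2 c hc, hall _ h4 c hc]
    · right
      intro c hc
      rw [e2 c hc, halli _ h4 c hc]
  apply B.toCF.transfer_A M (fun m hm => ⟨((hM m).1 hm).1, ((hM m).1 hm).2.1⟩) htT htA
  · -- index 2
    intro b hbT hbA hb
    obtain ⟨kb, hkb⟩ := B.exists_k hbT
    have hbt := CF.E_mul hkb hkt
    apply hMk (b * t) _ ((T : Subgroup G).mul_mem hbT htT) (A.mul_mem hbA htA) hbt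
    have e4 : f ^ ((kb * kt) ^ n) = (f ^ (kb ^ n)) ^ (kt ^ n) := by rw [← zpow_mul, mul_pow]
    rw [e4]
    by_cases hbe : b * e = e * b
    · rcases hS₀ b kb hbT hbA hbe hkb with h1 | h1
      · exact absurd (hMk b kb hbT hbA hkb (Or.inl h1)) hb
      · left
        rw [h1, ← zpow_mul, htf2]
    · -- `v b` commutes with `e`
      have hve : ∀ c ∈ zpowers f, v * c * v⁻¹ = c ^ (-1 : ℤ) := fun c hc => by
        rw [B.vinv c hc, zpow_neg_one]
      have hvb := CF.E_mul hve hkb
      have hvbe : (v * b) * e = e * (v * b) := by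
        have h1 : b * e * b⁻¹ = e * z := by
          rcases B.toCF.e_conj he hee hbT with h | h
          · rw [mul_inv_eq_iff_eq_mul] at h
            exact absurd h hbe
          · exact h
        have h2 : (v * b) * e * (v * b)⁻¹ = e := by
          calc (v * b) * e * (v * b)⁻¹ = v * (b * e * b⁻¹) * v⁻¹ := by group
            _ = v * (e * z) * v⁻¹ := by rw [h1]
            _ = (e * z)⁻¹ := B.vinv _ (mul_mem he B.zF)
            _ = z⁻¹ * e⁻¹ := by rw [mul_inv_rev]
            _ = (e * e) * e⁻¹ := by rw [B.zi, hee]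
            _ = e := by group
        rw [mul_inv_eq_iff_eq_mul] at h2
        exact h2
      have h1 := hS₀ (v * b) _ ((T : Subgroup G).mul_mem B.vT hbT) (A.mul_mem B.vA hbA) hvbe hvb
      have e5 : ((-1 : ℤ) * kb) ^ n = (-1) ^ n * kb ^ n := mul_pow _ _ _
      rw [e5] at h1
      rcases Nat.even_or_odd n with hev | hod
      · rw [hev.neg_one_pow, one_mul] at h1
        rcases h1 with h1 | h1
        · exact absurd (hMk b kb hbT hbA hkb (Or.inl h1)) hb
        · left
          rw [h1, ← zpow_mul, htf2]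
      · rw [hod.neg_one_pow, neg_one_mul, zpow_neg] at h1
        rcases h1 with h1 | h1
        · have h2 : f ^ (kb ^ n) = f⁻¹ := inv_eq_iff_eq_inv.1 h1
          exact absurd (hMk b kb hbT hbA hkb (Or.inr h2)) hb
        · right
          have h2 : f ^ (kb ^ n) = (f ^ (kt ^ n))⁻¹ := inv_eq_iff_eq_inv.1 h1
          rw [h2, inv_zpow, ← zpow_mul, htf2]
  · -- conjugates of `t`
    intro g hg hgT hgM
    have hgz : g * z = z * g := (B.zK g hg).symm
    have h1 : (g * t * g⁻¹) ^ n = g * t ^ n * g⁻¹ := conj_pow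
    have h2 : g * t ^ n * g⁻¹ ∈ T := by rw [← h1]; exact (T : Subgroup G).pow_mem hgT n
    obtain ⟨h3, h4⟩ := qlem g hgz h2
    obtain ⟨-, -, h5⟩ := (hM _).1 hgM
    rw [h1] at h5
    rcases h5 with h5 | h5
    · apply h4
      intro c hc
      have h6 := h5 c hc
      rw [mul_inv_eq_iff_eq_mul] at h6
      exact h6
    · have h6 := h5 e he
      rw [h3, mul_inv_cancel_right] at h6
      apply B.z1
      rw [← hee]
      nth_rewrite 1 [h6]
      exact inv_mul_cancel e
  · intro g hg k hgT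
    have hgz : g * z = z * g := (B.zK g hg).symm
    have h1 : (g * t ^ (2 * k) * g⁻¹) ^ n = g * u ^ k * g⁻¹ := by
      rw [conj_pow, ← hqq, ← pow_mul, ← pow_mul]
      congr 3
      ring
    rw [hM]
    refine ⟨hgT, Cfg.nA (B.CN g hgz) (A.pow_mem htA _), ?_⟩
    rw [h1]
    rcases Nat.even_or_odd' k with ⟨m, rfl | rfl⟩
    · left
      intro c _
      rw [pow_mul, pow_two, B.uu, one_pow, mul_one, mul_inv_cancel, one_mul, inv_one, mul_one]
    · have h2 : u ^ (2 * m + 1) = u := by rw [pow_succ, pow_mul, pow_two, B.uu, one_pow, one_mul]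
      rw [h2] at h1 ⊢
      have h3 : g * u * g⁻¹ ∈ T := by rw [← h1]; exact (T : Subgroup G).pow_mem hgT n
      rcases B.conj_inv he hee hgz h3 with h4 | h4
      · left
        intro c hc
        have h5 := B.toCF.vv_F B.hu hc
        rcases h4 with h4 | h4 <;> rw [h4]
        · rw [h5, mul_inv_cancel_right]
        · rw [mul_inv_eq_iff_eq_mul, mul_assoc, ← B.Tz c (B.Ft hc), ← mul_assoc, h5, mul_assoc]
      · exact Or.inr h4

/-- `V₀` does not have order 4. -/
theorem false [Finite G] (B : BB A T z r x f u v) : False := by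
  obtain ⟨e, he, heA, hee⟩ := B.toCF.exE
  have hcF := B.centF he hee
  have huT := B.hu.1
  have huA := B.hu.2.1
  have huF : ∀ c ∈ zpowers f, u * c = c * u := fun c hc => B.toCF.vv_F B.hu hc
  have huz : u * z = z * u := B.Tz u huT
  -- `S₀ = F ∪ F u`
  have hS₀ : ∀ s, s ∈ T → s ∈ A → s * e = e * s → ∃ c ∈ zpowers f, s = c ∨ s = c * u := by
    intro s hsT hsA hse
    have h1 := B.commU he hee hsT hsA hse
    obtain ⟨χ, hχ, h2⟩ := even_of_comm B.toCF B.hu B.ux B.uxf hsT h1
    have h3 := B.toCF.fix_y B.hx hχ h2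
    have h4 : CF.VV A T z (χ * s) := B.toCF.vv_of ((T : Subgroup G).mul_mem (B.Ft hχ) hsT)
      (A.mul_mem (B.FA hχ) hsA) h3 (fun c hc => by
        rw [mul_assoc, hcF s hsT hsA hse c hc, ← mul_assoc, CF.Fcomm hχ hc, mul_assoc])
    have e1 : s = χ⁻¹ * (χ * s) := by group
    rcases B.hV _ h4 with h5 | h5 | h5 | h5 <;> rw [h5] at e1
    · exact ⟨χ⁻¹, inv_mem hχ, Or.inl (by rw [e1, mul_one])⟩
    · exact ⟨χ⁻¹ * z, mul_mem (inv_mem hχ) B.zF, Or.inl e1⟩
    · exact ⟨χ⁻¹, inv_mem hχ, Or.inr e1⟩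
    · exact ⟨χ⁻¹ * z, mul_mem (inv_mem hχ) B.zF, Or.inr (by rw [e1, huz, mul_assoc])⟩
  have hvF : ∀ c ∈ zpowers f, v * c = c⁻¹ * v := by
    intro c hc
    have h := B.vinv c hc
    rw [mul_inv_eq_iff_eq_mul] at h
    exact h
  -- `c = u e`
  have hcc : (u * e) * (u * e) = z := by
    calc (u * e) * (u * e) = u * (e * u) * e := by group
      _ = (u * u) * (e * e) := by rw [← huF e he]; group
      _ = z := by rw [B.uu, hee, one_mul]
  -- `c` is not conjugate to `e`
  have hce : ∀ g ∈ A, g * (u * e) * g⁻¹ ≠ e := by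
    intro g hg h
    have hgz : g * z = z * g := (B.zK g hg).symm
    have hry : ∀ y, DD T z y → r * y * r⁻¹ = y * z := by
      intro y hy
      have h1 := B.toCfg.dd_inv hy
      have h2 : y * r = r * z * y := by rw [mul_inv_eq_iff_eq_mul] at h1; exact h1
      have h3 : r * y = y * z * r := by
        calc r * y = (r * z * y) * z := by
              calc r * y = r * (z * z) * y := by rw [B.zz, mul_one]
                _ = r * z * (z * y) := by group
                _ = r * z * y * z := by rw [← B.Tz y hy.1]; group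
          _ = y * (r * z) := by rw [← h2]; group
          _ = y * z * r := by rw [B.rz]; group
      rw [h3, mul_inv_cancel_right]
    have hey : ∀ y, DD T z y → e * y * e⁻¹ = y * z := fun y hy => by rw [B.toCF.conjF hy he, hee, B.zi]
    have herD : ∀ y, DD T z y → (e * r) * y = y * (e * r) := by
      intro y hy
      have h1 : (e * r) * y * (e * r)⁻¹ = y := by
        calc (e * r) * y * (e * r)⁻¹ = e * (r * y * r⁻¹) * e⁻¹ := by group
          _ = (e * y * e⁻¹) * (e * z * e⁻¹) := by rw [hry y hy]; group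
          _ = y * z * z := by rw [hey y hy, B.Tz e (B.Ft he), mul_inv_cancel_right]
          _ = y := by rw [mul_assoc, B.zz, mul_one]
      rw [mul_inv_eq_iff_eq_mul] at h1
      exact h1
    have hcrD : ∀ y, DD T z y → (u * e * r) * y = y * (u * e * r) := by
      intro y hy
      calc (u * e * r) * y = u * ((e * r) * y) := by group
        _ = (u * y) * (e * r) := by rw [herD y hy]; group
        _ = y * (u * e * r) := by rw [B.hu.2.2 y hy]; group
    have h1 : g * (u * e * r) * g⁻¹ = e * r := by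
      calc g * (u * e * r) * g⁻¹ = g * (u * e) * (r * g⁻¹) := by group
        _ = g * (u * e) * g⁻¹ * r := by rw [B.rK _ (A.inv_mem hg)]; group
        _ = e * r := by rw [h]
    have hcrT : u * e * r ∈ T := (T : Subgroup G).mul_mem ((T : Subgroup G).mul_mem huT (B.Ft he)) B.rT
    have herT : e * r ∈ T := (T : Subgroup G).mul_mem (B.Ft he) B.rT
    obtain ⟨k, hk1, hk2, hk3, -⟩ := B.toCF.wcfz (B.Tz _ hcrT) hcrD (g := g) (by rw [h1]; exact B.Tz _ herT)
      (by rw [h1]; exact herD)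
    rw [h1] at hk1
    have hkN := B.CN k hk2
    have hkK := Cfg.nK hkN B.rK
    -- `k e k⁻¹ ∈ {e, e z}`
    have h2 : k * e * k⁻¹ ∈ zpowers f := B.toCF.norF hk3 he
    have h3 : k * e * k⁻¹ = e ∨ k * e * k⁻¹ = e * z := by
      apply B.toCF.sqF he h2
      calc e * e = z := hee
        _ = k * z * k⁻¹ := by rw [hk2, mul_inv_cancel_right]
        _ = k * e * k⁻¹ * (k * e * k⁻¹) := by rw [← hee]; group
    -- `k u k⁻¹ ∈ C(A)`
    have h4 : ∀ a ∈ A, (k * u * k⁻¹) * a = a * (k * u * k⁻¹) := by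
      have h5 : k * u * k⁻¹ = (e * r) * (k * r * k⁻¹)⁻¹ * (k * e * k⁻¹)⁻¹ := by
        rw [← hk1]
        group
      have h6 := Cfg.invK hkK
      have h7 : k * u * k⁻¹ = r * (k * r * k⁻¹)⁻¹ ∨ k * u * k⁻¹ = z * (r * (k * r * k⁻¹)⁻¹) := by
        rcases h3 with h3 | h3
        · left
          rw [h5, h3]
          calc e * r * (k * r * k⁻¹)⁻¹ * e⁻¹ = e * (r * ((k * r * k⁻¹)⁻¹ * e⁻¹)) := by group
            _ = e * (r * (e⁻¹ * (k * r * k⁻¹)⁻¹)) := by rw [h6 _ (A.inv_mem heA)]
            _ = e * ((r * e⁻¹) * (k * r * k⁻¹)⁻¹) := by group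
            _ = e * ((e⁻¹ * r) * (k * r * k⁻¹)⁻¹) := by rw [B.rK _ (A.inv_mem heA)]
            _ = _ := by group
        · right
          rw [h5, h3]
          have h8 : (e * z)⁻¹ = e⁻¹ * z := by rw [mul_inv_rev, B.zi, B.zK _ (A.inv_mem heA)]
          rw [h8]
          calc e * r * (k * r * k⁻¹)⁻¹ * (e⁻¹ * z) = e * (r * ((k * r * k⁻¹)⁻¹ * e⁻¹)) * z := by group
            _ = e * (r * (e⁻¹ * (k * r * k⁻¹)⁻¹)) * z := by rw [h6 _ (A.inv_mem heA)]
            _ = e * ((r * e⁻¹) * (k * r * k⁻¹)⁻¹) * z := by group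
            _ = e * ((e⁻¹ * r) * (k * r * k⁻¹)⁻¹) * z := by rw [B.rK _ (A.inv_mem heA)]
            _ = r * ((k * r * k⁻¹)⁻¹ * z) := by group
            _ = r * (z * (k * r * k⁻¹)⁻¹) := by rw [h6 z B.zA]
            _ = (r * z) * (k * r * k⁻¹)⁻¹ := by group
            _ = _ := by rw [B.rz]; group
      rcases h7 with h7 | h7 <;> rw [h7]
      · exact Cfg.mulK B.rK h6
      · exact Cfg.mulK B.zK (Cfg.mulK B.rK h6)
    have h5 := Cfg.nK (inv_mem hkN) h4
    have e1 : k⁻¹ * (k * u * k⁻¹) * k⁻¹⁻¹ = u := by group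
    rw [e1] at h5
    rcases B.R2 u huT h5 B.uu with h6 | h6
    · exact B.u1 h6
    · exact B.unz h6
  -- the subgroup `F ∪ F v`
  let M : Subgroup G :=
    { carrier := {s | s ∈ zpowers f ∨ s * v ∈ zpowers f}
      one_mem' := Or.inl (one_mem _)
      mul_mem' := by
        rintro s s' (h | h) (h' | h')
        · exact Or.inl (mul_mem h h')
        · right
          rw [mul_assoc]
          exact mul_mem h h'
        · right
          have e1 : s * s' * v = (s * v) * (v * s' * v⁻¹) := by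
            calc s * s' * v = s * 1 * s' * v := by group
              _ = s * (v * v) * s' * v := by rw [B.vv]
              _ = s * (v * v) * s' * v⁻¹ := by rw [B.vi]
              _ = _ := by group
          rw [e1, B.vinv s' h']
          exact mul_mem h (inv_mem h')
        · left
          have e1 : s * s' = (s * v) * (v * (s' * v) * v⁻¹) := by
            calc s * s' = s * 1 * s' * 1 := by group
              _ = s * (v * v) * s' * (v * v⁻¹) := by rw [B.vv]; group
              _ = _ := by group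
          rw [e1, B.vinv _ h']
          exact mul_mem h (inv_mem h')
      inv_mem' := by
        rintro s (h | h)
        · exact Or.inl (inv_mem h)
        · right
          have h1 := B.vinv _ (inv_mem h)
          have e1 : v * (s * v)⁻¹ * v⁻¹ = s⁻¹ * v := by
            have e2 : (s * v)⁻¹ = v * s⁻¹ := by rw [mul_inv_rev, B.vi]
            rw [e2, ← mul_assoc, B.vv, one_mul, B.vi]
          have h2 : s⁻¹ * v ∈ zpowers f := by
            rw [← e1, h1]
            exact inv_mem (inv_mem h)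
          exact h2 }
  have hM : ∀ s, s ∈ M ↔ s ∈ zpowers f ∨ s * v ∈ zpowers f := fun _ => Iff.rfl
  apply B.toCF.transfer_A M (t := u * e) (fun m hm => ?_) ((T : Subgroup G).mul_mem huT (B.Ft he))
    (A.mul_mem huA heA)
  · -- index 2
    intro b hbT hbA hb
    by_cases hbe : b * e = e * b
    · obtain ⟨c, hc, h1 | h1⟩ := hS₀ b hbT hbA hbe
      · exact absurd ((hM b).2 (Or.inl (by rw [h1]; exact hc))) hb
      · rw [hM]
        left
        have e1 : b * (u * e) = c * e := by
          rw [h1]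
          calc c * u * (u * e) = c * (u * u) * e := by group
            _ = c * e := by rw [B.uu, mul_one]
        rw [e1]
        exact mul_mem hc he
    · have hvbe : (v * b) * e = e * (v * b) := by
        have h1 : b * e * b⁻¹ = e * z := by
          rcases B.toCF.e_conj he hee hbT with h | h
          · rw [mul_inv_eq_iff_eq_mul] at h
            exact absurd h hbe
          · exact h
        have h2 : (v * b) * e * (v * b)⁻¹ = e := by
          calc (v * b) * e * (v * b)⁻¹ = v * (b * e * b⁻¹) * v⁻¹ := by group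
            _ = v * (e * z) * v⁻¹ := by rw [h1]
            _ = (e * z)⁻¹ := B.vinv _ (mul_mem he B.zF)
            _ = z⁻¹ * e⁻¹ := by rw [mul_inv_rev]
            _ = (e * e) * e⁻¹ := by rw [B.zi, hee]
            _ = e := by group
        rw [mul_inv_eq_iff_eq_mul] at h2
        exact h2
      obtain ⟨c, hc, h1 | h1⟩ := hS₀ (v * b) ((T : Subgroup G).mul_mem B.vT hbT) (A.mul_mem B.vA hbA) hvbe
      · exfalso
        apply hb
        rw [hM]
        right
        have e1 : b = v * c := by rw [← h1, ← mul_assoc, B.vv, one_mul]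
        rw [e1]
        have e2 : v * c * v = v * c * v⁻¹ := by rw [B.vi]
        rw [e2, B.vinv c hc]
        exact inv_mem hc
      · rw [hM]
        right
        have e1 : b = v * c * u := by rw [mul_assoc, ← h1, ← mul_assoc, B.vv, one_mul]
        have e2 : b * (u * e) * v = v * (c * e) * v⁻¹ := by
          rw [e1, B.vi]
          calc v * c * u * (u * e) * v = v * c * (u * u) * e * v := by group
            _ = _ := by rw [B.uu]; group
        rw [e2, B.vinv _ (mul_mem hc he)]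
        exact inv_mem (mul_mem hc he)
  · -- conjugates of `c`
    intro g hg hgT hgM
    have hgz : g * z = z * g := (B.zK g hg).symm
    have h1 : g * (u * e) * g⁻¹ * (g * (u * e) * g⁻¹) = z := by
      calc g * (u * e) * g⁻¹ * (g * (u * e) * g⁻¹) = g * ((u * e) * (u * e)) * g⁻¹ := by group
        _ = z := by rw [hcc, hgz, mul_inv_cancel_right]
    rcases (hM _).1 hgM with h2 | h2
    · rcases B.toCF.sqF he h2 (by rw [hee, h1]) with h3 | h3
      · exact hce g hg h3
      · apply hce (v * g) (A.mul_mem B.vA hg)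
        calc v * g * (u * e) * (v * g)⁻¹ = v * (g * (u * e) * g⁻¹) * v⁻¹ := by group
          _ = (e * z)⁻¹ := by rw [h3]; exact B.vinv _ (mul_mem he B.zF)
          _ = z⁻¹ * e⁻¹ := by rw [mul_inv_rev]
          _ = (e * e) * e⁻¹ := by rw [B.zi, hee]
          _ = e := by group
    · obtain ⟨d, hd⟩ : ∃ d, d = g * (u * e) * g⁻¹ := ⟨_, rfl⟩
      rw [← hd] at h1 h2
      have h3 := B.vinv _ h2
      apply B.z1
      rw [← h1]
      have e1 : v * (d * v) * v⁻¹ = v * d := by group
      rw [e1] at h3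
      have h4 : d * v * (v * d) = 1 := by rw [h3, mul_inv_cancel]
      calc d * d = d * (v * v) * d := by rw [B.vv, mul_one]
        _ = d * v * (v * d) := by group
        _ = 1 := h4
  · intro g hg k _
    have hgz : g * z = z * g := (B.zK g hg).symm
    have h1 : (u * e) ^ (2 * k) = z ^ k := by rw [pow_mul, pow_two, hcc]
    rw [hM, h1]
    left
    have h2 : g * z ^ k * g⁻¹ = z ^ k := by
      rw [← conj_pow, hgz, mul_inv_cancel_right]
    rw [h2]
    exact pow_mem B.zF k
  · rcases (hM m).1 hm with h | h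
    · exact ⟨B.Ft h, B.FA h⟩
    · have e1 : m = (m * v) * v := by rw [mul_assoc, B.vv, mul_one]
      rw [e1]
      exact ⟨(T : Subgroup G).mul_mem (B.Ft h) B.vT, A.mul_mem (B.FA h) B.vA⟩

end BB

/-- **(F24)** `z` is the only involution of `T ∩ A`. -/
theorem CF.one_inv {G : Type*} [Group G] [Finite G] {A : Subgroup G} {T : Sylow 2 G} {z r x f : G}
    (C : CF A T z r x f) {v : G} (hvT : v ∈ T) (hvA : v ∈ A) (hvv : v * v = 1) : v = 1 ∨ v = z := by
  rcases C.vv_cases with h | ⟨u, hu, u1, unz, uu, ux, uxf, hV⟩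
  · exact C.one_inv_a h hvT hvA hvv
  · obtain ⟨φ, w, B⟩ := C.exists_BB hu u1 unz uu ux uxf hV
    exact B.false.elim

end Cfsg.Agent.H297
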