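import Mathlib
import Cfsg.Agent.H297.CfgG
import Cfsg.Agent.H297.Solv

/-!
# The configuration: `T ∩ A` is generalized quaternion
-/

set_option autoImplicit false

namespace Cfsg.Agent.H297

open Subgroup Cfsg

section Gen

variable {G : Type*} [Group G]

/-- An odd power of a generator of a cyclic 2-group is a generator. -/
theorem gen_of [Finite G] {T : Subgroup G} (hT : IsPGroup 2 T) {g φ : G} (hg : g ∈ T)
    (h : ∃ χ ∈ zpowers g, φ = g * (χ * χ)) : zpowers φ = zpowers g := by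
  have hp : Fact (Nat.Prime 2) := ⟨Nat.prime_two⟩
  obtain ⟨χ, ⟨l, rfl⟩, h3⟩ := h
  obtain ⟨N, hN⟩ := (IsPGroup.iff_orderOf.1 hT) ⟨g, hg⟩
  have hN' : orderOf g = 2 ^ N := by
    rw [← hN]
    exact Subgroup.orderOf_coe (⟨g, hg⟩ : ↥T)
  have h4 : φ = g ^ (2 * l + 1) := by
    rw [h3]
    show g * (g ^ l * g ^ l) = _
    rw [← zpow_add, ← zpow_one_add]
    congr 1
    ring
  apply le_antisymm
  · rw [zpowers_le, h4]
    exact zpow_mem (mem_zpowers g) _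
  rw [zpowers_le]
  have h5 : IsCoprime (2 * l + 1) ((2 : ℤ) ^ N) := by
    apply IsCoprime.pow_right
    exact ⟨1, -l, by ring⟩
  obtain ⟨a, b, hab⟩ := h5
  refine ⟨a, ?_⟩
  show φ ^ a = g
  have h6 : g ^ ((2 : ℤ) ^ N) = 1 := by
    have : ((2 : ℤ) ^ N) = ((2 ^ N : ℕ) : ℤ) := by push_cast; rfl
    rw [this, zpow_natCast, ← hN', pow_orderOf_eq_one]
  calc φ ^ a = g ^ (a * (2 * l + 1)) := by rw [h4, ← zpow_mul, mul_comm]
    _ = g ^ (a * (2 * l + 1)) * (g ^ ((2 : ℤ) ^ N)) ^ b := by rw [h6, one_zpow, mul_one]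
    _ = g ^ (a * (2 * l + 1) + b * 2 ^ N) := by rw [← zpow_mul, ← zpow_add, mul_comm b]
    _ = g := by rw [hab, zpow_one]

/-- A nontrivial 2-element is not a square of a power of itself. -/
theorem gen_not_sq [Finite G] {T : Subgroup G} (hT : IsPGroup 2 T) {g χ : G} (hg : g ∈ T) (hg1 : g ≠ 1)
    (hχ : χ ∈ zpowers g) : g ≠ χ * χ := by
  intro h
  obtain ⟨m, hm1, hm2⟩ := Setup.exists_inv hT hg hg1
  obtain ⟨k, rfl⟩ := hχ
  have h1 : (g ^ m) = (g ^ m * g ^ m) ^ k := by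
    have h2 : g = (g ^ k) * (g ^ k) := h
    calc g ^ m = (g ^ k * g ^ k) ^ m := by rw [← h2]
      _ = (g ^ m * g ^ m) ^ k := by
        rw [← zpow_natCast, ← zpow_natCast, ← zpow_add, ← zpow_add, ← zpow_mul, ← zpow_mul]
        congr 1
        ring
  rw [hm2, one_zpow] at h1
  exact hm1 h1

/-- A 2-element outside `H` has a power outside `H` with square in `H`. -/
theorem exists_step [Finite G] {T : Subgroup G} (hT : IsPGroup 2 T) {H : Subgroup G} {c : G} (hc : c ∈ T)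
    (hcH : c ∉ H) : ∃ m : ℕ, c ^ m ∉ H ∧ c ^ m * c ^ m ∈ H := by
  obtain ⟨n, hn⟩ := hT ⟨c, hc⟩
  have hn' : c ^ 2 ^ n = 1 := congrArg Subtype.val hn
  have hex : ∃ j : ℕ, c ^ 2 ^ j ∈ H := ⟨n, by rw [hn']; exact one_mem _⟩
  classical
  have h1 := Nat.find_spec hex
  rcases hj : Nat.find hex with _ | l
  · rw [hj, pow_zero, pow_one] at h1
    exact absurd h1 hcH
  · rw [hj] at h1
    refine ⟨2 ^ l, Nat.find_min hex (by omega), ?_⟩
    rw [← pow_add]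
    have : 2 ^ l + 2 ^ l = 2 ^ (l + 1) := by ring
    rw [this]
    exact h1

end Gen

/-- The configuration in which `T ∩ A = ⟨f, s⟩` is generalized quaternion. -/
structure QQ {G : Type*} [Group G] (A : Subgroup G) (T : Sylow 2 G) (z r x f s : G) : Prop
    extends CF A T z r x f where
  fA : f ∈ A
  sT : s ∈ T
  sA : s ∈ A
  ss : s * s = z
  sinv : ∀ c ∈ zpowers f, s * c * s⁻¹ = c⁻¹
  sx : s * x * s⁻¹ = x * f
  st : ∀ t, t ∈ T → t ∈ A → t ∈ zpowers f ∨ t * s ∈ zpowers f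
  one : ∀ v, v ∈ T → v ∈ A → v * v = 1 → v = 1 ∨ v = z

theorem CF.exists_QQ {G : Type*} [Group G] [Finite G] {A : Subgroup G} {T : Sylow 2 G} {z r x f : G}
    (C : CF A T z r x f) : ∃ φ s : G, QQ A T z r x φ s := by
  have hp : Fact (Nat.Prime 2) := ⟨Nat.prime_two⟩
  have hone : ∀ v, v ∈ T → v ∈ A → v * v = 1 → v = 1 ∨ v = z := fun v h1 h2 h3 => C.one_inv h1 h2 h3
  obtain ⟨e, he, heA, hee⟩ := C.exE
  obtain ⟨P, hP⟩ := Tools.exists_syl T C.TN
  have hnsol : ¬ Group.IsSolvable ↥A := by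
    have h1 : Group.IsPerfect ↥A := C.qs.1
    have h2 : Nontrivial ↥A := by
      refine ⟨⟨z, C.zA⟩, 1, fun h => C.z1 ?_⟩
      exact congrArg Subtype.val h
    exact Group.IsPerfect.not_isSolvable ↥A
  -- `T ∩ A` is not cyclic
  have hncyc : ∀ g : G, ∃ s, s ∈ T ∧ s ∈ A ∧ s ∉ zpowers g := by
    intro g
    by_contra hcon
    push Not at hcon
    apply hnsol
    apply Solv.solvable
    intro Q
    have h1 : IsCyclic ↥(P : Subgroup ↥A) := by
      let φ : ↥(P : Subgroup ↥A) →* ↥(zpowers g) :=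
        { toFun := fun p => ⟨((p : ↥A) : G), hcon _ ((hP _).1 p.2) (p : ↥A).2⟩
          map_one' := rfl
          map_mul' := fun _ _ => rfl }
      apply isCyclic_of_injective φ
      intro a b hab
      have h := congrArg (fun q : ↥(zpowers g) => (q : G)) hab
      exact Subtype.ext (Subtype.ext h)
    exact isCyclic_of_surjective (P.equiv Q) (P.equiv Q).surjective
  -- centralizer of the elements of `𝒟`
  have hCx : ∀ t, t ∈ T → t ∈ A → t * x = x * t → t = 1 ∨ t = z := by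
    intro t htT htA htx
    have key : ∀ w, w ∈ T → w ∈ A → InA A z x w → w = 1 := by
      intro w hwT hwA hwx
      by_contra hw1
      obtain ⟨m, hm1, hm2⟩ := Setup.exists_inv T.2 hwT hw1
      rcases hone _ ((T : Subgroup G).pow_mem hwT m) (A.pow_mem hwA m) hm2 with h2 | h2
      · exact hm1 h2
      · apply C.hx.2.2
        apply C.eq_of_inA C.hx.2.1
        have h3 : ∀ n : ℕ, InA A z x (w ^ n) := by
          intro n
          induction n with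
          | zero => rw [pow_zero]; exact Cfg.inA_one
          | succ n ih => rw [pow_succ]; exact Cfg.inA_mul ih hwx
        have h4 := h3 m
        rw [h2] at h4
        exact h4
    rcases C.inA_two htT htA C.hx htx with h | h
    · exact Or.inl (key t htT htA h)
    · right
      have h1 := key (t * z) ((T : Subgroup G).mul_mem htT C.zTm) (A.mul_mem htA C.zA) h
      rw [mul_eq_one_iff_eq_inv, C.zi] at h1
      exact h1
  -- the group `F ∩ A`
  obtain ⟨g₀, hg₀⟩ : ∃ g₀, zpowers g₀ = zpowers f ⊓ A := by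
    have h1 : IsCyclic ↥(zpowers f ⊓ A : Subgroup G) :=
      isCyclic_of_injective (inclusion (inf_le_left : zpowers f ⊓ A ≤ zpowers f)) (inclusion_injective _)
    obtain ⟨g, hg⟩ := IsCyclic.exists_generator (α := ↥(zpowers f ⊓ A : Subgroup G))
    refine ⟨g, le_antisymm (zpowers_le.2 g.2) ?_⟩
    intro c hc
    obtain ⟨k, hk⟩ := mem_zpowers_iff.1 (hg ⟨c, hc⟩)
    exact ⟨k, congrArg Subtype.val hk⟩
  have hFA : ∀ c, c ∈ zpowers g₀ ↔ c ∈ zpowers f ∧ c ∈ A := fun c => by rw [hg₀]; exact Iff.rfl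
  have hg₀F : g₀ ∈ zpowers f := ((hFA g₀).1 (mem_zpowers g₀)).1
  have hg₀A : g₀ ∈ A := ((hFA g₀).1 (mem_zpowers g₀)).2
  have hg₀T : g₀ ∈ T := C.Ft hg₀F
  have he₀ : e ∈ zpowers g₀ := (hFA e).2 ⟨he, heA⟩
  have hz₀ : z ∈ zpowers g₀ := (hFA z).2 ⟨C.zF, C.zA⟩
  have hg₀1 : g₀ ≠ 1 := by
    rintro rfl
    rw [zpowers_one_eq_bot, mem_bot] at hz₀
    exact C.z1 hz₀
  have hcomm₀ : ∀ c ∈ zpowers g₀, ∀ d ∈ zpowers g₀, c * d = d * c := fun c hc d hd => CF.Fcomm hc hd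
  have hnor₀ : ∀ t, t ∈ T → ∀ c ∈ zpowers g₀, t * c * t⁻¹ ∈ zpowers g₀ := by
    intro t ht c hc
    rw [hFA] at hc ⊢
    exact ⟨C.norT ht hc.1, Cfg.nA (C.TN ht) hc.2⟩
  -- `ψ_t ∈ F ∩ A`
  have hψ : ∀ t, t ∈ T → t ∈ A → ∃ ψ ∈ zpowers g₀, t * x * t⁻¹ = x * ψ := by
    intro t htT htA
    obtain ⟨ψ, hψ, h1⟩ := C.exists_psi C.hx htT
    refine ⟨ψ, (hFA ψ).2 ⟨hψ, ?_⟩, h1⟩
    have h3 : ψ = (x * t * x⁻¹) * t⁻¹ := by
      calc ψ = (x * x) * ψ := by rw [C.xx, one_mul]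
        _ = x * (x * ψ) := by group
        _ = x * (t * x * t⁻¹) := by rw [h1]
        _ = (x * t * x) * t⁻¹ := by group
        _ = _ := by rw [C.xi]
    rw [h3]
    exact A.mul_mem (Cfg.nA (C.TN C.hx.1) htA) (A.inv_mem htA)
  have hnsq : ∀ t, t ∈ T → t ∈ A → ∀ χ ∈ zpowers g₀, t * x * t⁻¹ = x * (χ * χ) → t ∈ zpowers g₀ := by
    intro t htT htA χ hχ h
    have hχ' := (hFA χ).1 hχ
    have h1 := C.fix_y C.hx hχ'.1 h
    have h2 : t = χ⁻¹ * (χ * t) := by group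
    rw [h2]
    rcases hCx _ ((T : Subgroup G).mul_mem (C.Ft hχ'.1) htT) (A.mul_mem hχ'.2 htA) h1 with h3 | h3 <;> rw [h3]
    · exact mul_mem (inv_mem hχ) (one_mem _)
    · exact mul_mem (inv_mem hχ) hz₀
  have hodd : ∀ t, t ∈ T → t ∈ A → t ∉ zpowers g₀ → ∃ χ ∈ zpowers g₀, t * x * t⁻¹ = x * (g₀ * (χ * χ)) := by
    intro t htT htA ht
    obtain ⟨ψ, hψ, h1⟩ := hψ t htT htA
    rcases CF.par hψ with ⟨χ, hχ, rfl⟩ | ⟨χ, hχ, rfl⟩
    · exact absurd (hnsq t htT htA χ hχ h1) ht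
    · exact ⟨χ, hχ, h1⟩
  -- the product of two elements outside `F`
  have hprod : ∀ t t', t ∈ T → t ∈ A → t ∉ zpowers g₀ → t' ∈ T → t' ∈ A → t' ∉ zpowers g₀ →
      t * t' ∈ zpowers g₀ := by
    intro t t' htT htA ht ht'T ht'A ht'
    obtain ⟨χ, hχ, h1⟩ := hodd t htT htA ht
    obtain ⟨χ', hχ', h1'⟩ := hodd t' ht'T ht'A ht'
    obtain ⟨η, hη, h2⟩ : ∃ η ∈ zpowers g₀, t * g₀ * t⁻¹ = g₀ * (η * η) := by
      rcases CF.par (hnor₀ t htT g₀ (mem_zpowers g₀)) with ⟨η, hη, h3⟩ | ⟨η, hη, h3⟩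
      · exfalso
        have h4 := hnor₀ t⁻¹ ((T : Subgroup G).inv_mem htT) η hη
        rw [inv_inv] at h4
        apply gen_not_sq T.2 hg₀T hg₀1 h4
        calc g₀ = t⁻¹ * (t * g₀ * t⁻¹) * t := by group
          _ = t⁻¹ * (η * η) * t := by rw [h3]
          _ = _ := by group
      · exact ⟨η, hη, h3⟩
    have h5 := hnor₀ t htT χ' hχ'
    apply hnsq _ ((T : Subgroup G).mul_mem htT ht'T) (A.mul_mem htA ht'A)
      (g₀ * χ * η * (t * χ' * t⁻¹)) (mul_mem (mul_mem (mul_mem (mem_zpowers g₀) hχ) hη) h5)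
    have c1 := hcomm₀ g₀ (mem_zpowers g₀)
    obtain ⟨d, hd⟩ : ∃ d, d = t * χ' * t⁻¹ := ⟨_, rfl⟩
    rw [← hd] at h5 ⊢
    have e1 : t * t' * x * (t * t')⁻¹ = x * (g₀ * (χ * χ)) * ((g₀ * (η * η)) * (d * d)) := by
      calc t * t' * x * (t * t')⁻¹ = t * (t' * x * t'⁻¹) * t⁻¹ := by group
        _ = t * (x * (g₀ * (χ' * χ'))) * t⁻¹ := by rw [h1']
        _ = (t * x * t⁻¹) * ((t * g₀ * t⁻¹) * ((t * χ' * t⁻¹) * (t * χ' * t⁻¹))) := by group
        _ = _ := by rw [h1, h2, hd]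
    rw [e1, mul_assoc]
    congr 1
    have k1 := hcomm₀ χ hχ g₀ (mem_zpowers g₀)
    have k2 := hcomm₀ η hη _ (mul_mem (mem_zpowers g₀) hχ)
    have k3 := hcomm₀ d h5 _ (mul_mem (mul_mem (mem_zpowers g₀) hχ) hη)
    calc g₀ * (χ * χ) * (g₀ * (η * η) * (d * d)) = g₀ * χ * (χ * g₀) * η * η * d * d := by group
      _ = (g₀ * χ) * (g₀ * χ) * η * η * d * d := by rw [k1]
      _ = (g₀ * χ) * ((g₀ * χ) * η) * η * d * d := by group
      _ = (g₀ * χ) * (η * (g₀ * χ)) * η * d * d := by rw [k2]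
      _ = (g₀ * χ * η) * ((g₀ * χ * η) * d) * d := by group
      _ = (g₀ * χ * η) * (d * (g₀ * χ * η)) * d := by rw [k3]
      _ = _ := by group
  -- elements outside `F` invert `e`
  have hnce : ∀ t, t ∈ T → t ∈ A → t ∉ zpowers g₀ → t * e ≠ e * t := by
    intro t htT htA ht hte
    obtain ⟨k, hk⟩ := C.exists_k htT
    obtain ⟨χ, hχ, h1⟩ := hodd t htT htA ht
    obtain ⟨ψ, hψd⟩ : ∃ ψ, ψ = g₀ * (χ * χ) := ⟨_, rfl⟩
    rw [← hψd] at h1
    have hψF : ψ ∈ zpowers f := by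
      rw [hψd]
      exact mul_mem hg₀F (mul_mem ((hFA χ).1 hχ).1 ((hFA χ).1 hχ).1)
    have h2 : t * t ∈ zpowers g₀ := hprod t t htT htA ht htT htA ht
    have h3 : (4 : ℤ) ∣ k - 1 := by
      have h4 := hk e he
      rw [hte, mul_inv_cancel_right] at h4
      have h5 : e ^ (k - 1) = 1 := by rw [zpow_sub, ← h4, zpow_one, mul_inv_cancel]
      have h6 : orderOf e = 4 := by
        apply orderOf_eq_prime_pow (p := 2) (n := 1)
        · rw [pow_one, pow_two, hee]; exact C.z1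
        · norm_num
          calc e ^ 4 = (e * e) * (e * e) := by simp only [pow_succ, pow_zero, one_mul, mul_assoc]
            _ = 1 := by rw [hee, C.zz]
      rw [← orderOf_dvd_iff_zpow_eq_one, h6] at h5
      exact_mod_cast h5
    obtain ⟨l, hl⟩ := h3
    have hk' : k = 4 * l + 1 := by omega
    -- `(ψ^(2l+1))² = ((t t)⁻¹)²`
    have h4 : ψ ^ (2 * l + 1) * ψ ^ (2 * l + 1) = (t * t)⁻¹ * (t * t)⁻¹ := by
      have h5 : (t * t) * x * (t * t)⁻¹ = x * (ψ * ψ ^ k) := by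
        calc (t * t) * x * (t * t)⁻¹ = t * (t * x * t⁻¹) * t⁻¹ := by group
          _ = t * (x * ψ) * t⁻¹ := by rw [h1]
          _ = (t * x * t⁻¹) * (t * ψ * t⁻¹) := by group
          _ = _ := by rw [h1, hk ψ hψF, mul_assoc]
      rw [C.conjF C.hx ((hFA _).1 h2).1] at h5
      have h6 := mul_left_cancel h5
      rw [← zpow_add, ← mul_inv_rev, h6, ← zpow_one_add, hk']
      congr 1
      ring
    have h5 : (t * t)⁻¹ = g₀ * ((g₀ ^ l * χ ^ (2 * l + 1)) * (g₀ ^ l * χ ^ (2 * l + 1))) ∨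
        (t * t)⁻¹ = g₀ * ((g₀ ^ l * χ ^ (2 * l + 1) * e) * (g₀ ^ l * χ ^ (2 * l + 1) * e)) := by
      have h6 : ψ ^ (2 * l + 1) = g₀ * ((g₀ ^ l * χ ^ (2 * l + 1)) * (g₀ ^ l * χ ^ (2 * l + 1))) := by
        obtain ⟨j, rfl⟩ := hχ
        rw [hψd]
        show (g₀ * (g₀ ^ j * g₀ ^ j)) ^ (2 * l + 1) =
          g₀ * (g₀ ^ l * (g₀ ^ j) ^ (2 * l + 1) * (g₀ ^ l * (g₀ ^ j) ^ (2 * l + 1)))
        rw [← zpow_add, ← zpow_one_add, ← zpow_mul, ← zpow_mul, ← zpow_add, ← zpow_add, ← zpow_one_add]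
        congr 1
        ring
      have hm1 : g₀ ^ l * χ ^ (2 * l + 1) ∈ zpowers g₀ :=
        mul_mem (zpow_mem (mem_zpowers g₀) l) (zpow_mem hχ _)
      rcases C.sqF (zpow_mem hψF (2 * l + 1)) (inv_mem ((hFA _).1 h2).1) h4 with h7 | h7
      · left; rw [h7, h6]
      · right
        rw [h7, h6, ← hee]
        have k1 := hcomm₀ _ hm1 e he₀
        calc g₀ * (g₀ ^ l * χ ^ (2 * l + 1) * (g₀ ^ l * χ ^ (2 * l + 1))) * (e * e)
            = g₀ * ((g₀ ^ l * χ ^ (2 * l + 1)) * ((g₀ ^ l * χ ^ (2 * l + 1)) * e) * e) := by group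
          _ = g₀ * ((g₀ ^ l * χ ^ (2 * l + 1)) * (e * (g₀ ^ l * χ ^ (2 * l + 1))) * e) := by rw [k1]
          _ = _ := by group
    have h6 : zpowers (t * t)⁻¹ = zpowers g₀ := by
      apply gen_of T.2 hg₀T
      have hm1 : g₀ ^ l * χ ^ (2 * l + 1) ∈ zpowers g₀ :=
        mul_mem (zpow_mem (mem_zpowers g₀) l) (zpow_mem hχ _)
      rcases h5 with h5 | h5
      · exact ⟨_, hm1, h5⟩
      · exact ⟨_, mul_mem hm1 he₀, h5⟩
    obtain ⟨s, hsT, hsA, hs⟩ := hncyc t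
    apply hs
    have h7 : zpowers g₀ ≤ zpowers t := by
      rw [← h6, zpowers_le]
      exact inv_mem (mul_mem (mem_zpowers t) (mem_zpowers t))
    by_cases hs0 : s ∈ zpowers g₀
    · exact h7 hs0
    · have h8 := h7 (hprod s t hsT hsA hs0 htT htA ht)
      have h9 : s = (s * t) * t⁻¹ := by group
      rw [h9]
      exact mul_mem h8 (inv_mem (mem_zpowers t))
  -- an element outside `F`
  obtain ⟨s, hsT, hsA, hs⟩ := hncyc g₀
  obtain ⟨χ₁, hχ₁, hsx⟩ := hodd s hsT hsA hs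
  -- `F ≤ A`
  have hfA : f ∈ A := by
    by_contra hfA
    obtain ⟨m, hm1, hm2⟩ := exists_step T.2 (H := A) (C.Ft (mem_zpowers f)) hfA
    obtain ⟨g, hg⟩ : ∃ g, g = f ^ m := ⟨_, rfl⟩
    have hgF : g ∈ zpowers f := by rw [hg]; exact pow_mem (mem_zpowers f) m
    rw [← hg] at hm1 hm2
    have h1 : g * g ∈ zpowers g₀ := (hFA _).2 ⟨mul_mem hgF hgF, hm2⟩
    rcases CF.par h1 with ⟨χ, hχ, h2⟩ | ⟨χ, hχ, h2⟩
    · have hχ' := (hFA χ).1 hχ
      rcases C.sqF hχ'.1 hgF h2.symm with h3 | h3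
      · exact hm1 (by rw [h3]; exact hχ'.2)
      · exact hm1 (by rw [h3]; exact A.mul_mem hχ'.2 C.zA)
    · obtain ⟨χ₂, hχ₂d⟩ : ∃ χ₂, χ₂ = g₀ * χ₁ * χ := ⟨_, rfl⟩
      have hχ₂ : χ₂ ∈ zpowers g₀ := by rw [hχ₂d]; exact mul_mem (mul_mem (mem_zpowers g₀) hχ₁) hχ
      have hχ₂F := ((hFA χ₂).1 hχ₂).1
      have h3 : χ₂ * χ₂ = (g₀ * (χ₁ * χ₁)) * (g * g) := by
        rw [h2, hχ₂d]
        have k1 := hcomm₀ χ₁ hχ₁ g₀ (mem_zpowers g₀)
        have k2 := hcomm₀ χ hχ _ (mul_mem (mem_zpowers g₀) hχ₁)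
        calc g₀ * χ₁ * χ * (g₀ * χ₁ * χ) = (g₀ * χ₁) * (χ * (g₀ * χ₁)) * χ := by group
          _ = (g₀ * χ₁) * ((g₀ * χ₁) * χ) * χ := by rw [k2]
          _ = g₀ * ((χ₁ * g₀) * χ₁) * χ * χ := by group
          _ = g₀ * ((g₀ * χ₁) * χ₁) * χ * χ := by rw [k1]
          _ = g₀ * (g₀ * (χ₁ * χ₁)) * (χ * χ) := by group
          _ = g₀ * ((χ₁ * χ₁) * g₀) * (χ * χ) := by
            rw [hcomm₀ g₀ (mem_zpowers g₀) _ (mul_mem hχ₁ hχ₁)]
          _ = _ := by group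
      obtain ⟨w, hw⟩ : ∃ w, w = g⁻¹ * (χ₂ * s) := ⟨_, rfl⟩
      have hwT : w ∈ T := by
        rw [hw]
        exact (T : Subgroup G).mul_mem ((T : Subgroup G).inv_mem (C.Ft hgF))
          ((T : Subgroup G).mul_mem (C.Ft hχ₂F) hsT)
      have hwx : w * x = x * w := by
        have h4 : (χ₂ * s) * x * (χ₂ * s)⁻¹ = x * (g * g)⁻¹ := by
          calc (χ₂ * s) * x * (χ₂ * s)⁻¹ = χ₂ * (s * x * s⁻¹) * χ₂⁻¹ := by group
            _ = χ₂ * (x * (g₀ * (χ₁ * χ₁))) * χ₂⁻¹ := by rw [hsx]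
            _ = (χ₂ * x * χ₂⁻¹) * (χ₂ * (g₀ * (χ₁ * χ₁)) * χ₂⁻¹) := by group
            _ = x * (χ₂ * χ₂)⁻¹ * (g₀ * (χ₁ * χ₁)) := by
              rw [C.conjF C.hx hχ₂F, hcomm₀ χ₂ hχ₂ _ (mul_mem (mem_zpowers g₀) (mul_mem hχ₁ hχ₁)),
                mul_inv_cancel_right]
            _ = x * (g * g)⁻¹ := by
              rw [h3, mul_inv_rev, mul_assoc, mul_assoc, inv_mul_cancel, mul_one]
        have h5 : w * x * w⁻¹ = x := by
          rw [hw]
          calc g⁻¹ * (χ₂ * s) * x * (g⁻¹ * (χ₂ * s))⁻¹ = g⁻¹ * ((χ₂ * s) * x * (χ₂ * s)⁻¹) * g := by group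
            _ = g⁻¹ * (x * (g * g)⁻¹) * g := by rw [h4]
            _ = g⁻¹ * (g * x * g⁻¹) * g := by rw [C.conjF C.hx hgF]
            _ = x := by group
        rw [mul_inv_eq_iff_eq_mul] at h5
        exact h5
      have hwr : w * r = r * w := by
        rw [hw]
        have k1 := C.Fr (inv_mem hgF)
        have k2 := C.Fr hχ₂F
        have k3 := C.hAr hsA
        calc g⁻¹ * (χ₂ * s) * r = g⁻¹ * χ₂ * (s * r) := by group
          _ = g⁻¹ * (χ₂ * r) * s := by rw [k3]; group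
          _ = (g⁻¹ * r) * χ₂ * s := by rw [k2]; group
          _ = _ := by rw [k1]; group
      have hwe := C.noswap he hee hwT hwr C.hx hwx
      apply hnce s hsT hsA hs
      have h6 : s = (g⁻¹ * χ₂)⁻¹ * w := by rw [hw]; group
      have h7 : (g⁻¹ * χ₂)⁻¹ * e = e * (g⁻¹ * χ₂)⁻¹ :=
        CF.Fcomm (inv_mem (mul_mem (inv_mem hgF) hχ₂F)) he
      rw [h6, mul_assoc, hwe, ← mul_assoc, h7, mul_assoc]
  have hFeq : zpowers g₀ = zpowers f := by
    rw [hg₀]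
    exact inf_eq_left.2 (zpowers_le.2 hfA)
  have hgen : zpowers (g₀ * (χ₁ * χ₁)) = zpowers f := by
    rw [← hFeq]
    exact gen_of T.2 hg₀T ⟨χ₁, hχ₁, rfl⟩
  -- squares
  have hss : ∀ t, t ∈ T → t ∈ A → t ∉ zpowers g₀ → t * t = z := by
    intro t htT htA ht
    have h1 : t * t ∈ zpowers f := ((hFA _).1 (hprod t t htT htA ht htT htA ht)).1
    by_cases h2 : (t * t) * (t * t) = 1
    · rcases C.uF h1 h2 with h3 | h3
      · exfalso
        rcases hone t htT htA h3 with h4 | h4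
        · exact ht (by rw [h4]; exact one_mem _)
        · exact ht (by rw [h4]; exact hz₀)
      · exact h3
    · exfalso
      obtain ⟨m, hm⟩ := C.Fpow4 h1 h2
      apply hnce t htT htA ht
      have h3 : t * (t * t) ^ m = (t * t) ^ m * t := by
        exact (Commute.pow_right (show Commute t (t * t) from by
          show t * (t * t) = t * t * t
          group) m)
      rcases C.sqF he (pow_mem h1 m) (by rw [hee, hm]) with h4 | h4
      · rw [← h4]; exact h3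
      · have h5 : e = (t * t) ^ m * z := by rw [h4, mul_assoc, C.zz, mul_one]
        rw [h5]
        calc t * ((t * t) ^ m * z) = (t * (t * t) ^ m) * z := by group
          _ = (t * t) ^ m * (t * z) := by rw [h3]; group
          _ = _ := by rw [C.Tz t htT]; group
  have hs2 := hss s hsT hsA hs
  refine ⟨g₀ * (χ₁ * χ₁), s, ⟨⟨C.toCfg, C.hx, by rw [hgen]; exact C.hf⟩, ?_, hsT, hsA, hs2, ?_, hsx, ?_, hone⟩⟩
  · exact A.mul_mem hg₀A (A.mul_mem ((hFA _).1 hχ₁).2 ((hFA _).1 hχ₁).2)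
  · rw [hgen, ← hFeq]
    intro c hc
    have h1 : c * s ∉ zpowers g₀ := by
      intro h
      apply hs
      have : s = c⁻¹ * (c * s) := by group
      rw [this]
      exact mul_mem (inv_mem hc) h
    have h2 := hss (c * s) ((T : Subgroup G).mul_mem (C.Ft ((hFA c).1 hc).1) hsT)
      (A.mul_mem ((hFA c).1 hc).2 hsA) h1
    have h3 : c * (s * c * s⁻¹) * (s * s) = z := by
      rw [← h2]; group
    rw [hs2, mul_eq_right] at h3
    exact (inv_eq_of_mul_eq_one_right h3).symm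
  · rw [hgen, ← hFeq]
    intro t htT htA
    by_cases h : t ∈ zpowers g₀
    · exact Or.inl h
    · exact Or.inr (hprod t s htT htA h hsT hsA hs)

end Cfsg.Agent.H297
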