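import Mathlib
import Cfsg.Agent.H297.CfgH

/-!
# The configuration: the centralizer of `T ∩ A` in `T` is `R = ⟨r⟩`
-/

set_option autoImplicit false

namespace Cfsg.Agent.H297

open Subgroup Cfsg

/-- The subgroup `T * A`. -/
def TA {G : Type*} [Group G] {A : Subgroup G} {T : Sylow 2 G} (h : (T : Subgroup G) ≤ normalizer (A : Set G)) :
    Subgroup G where
  carrier := {g | ∃ t ∈ T, ∃ a ∈ A, g = t * a}
  one_mem' := ⟨1, (T : Subgroup G).one_mem, 1, A.one_mem, by group⟩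
  mul_mem' := by
    rintro _ _ ⟨t, ht, a, ha, rfl⟩ ⟨t', ht', a', ha', rfl⟩
    refine ⟨t * t', (T : Subgroup G).mul_mem ht ht', (t'⁻¹ * a * t') * a', A.mul_mem (Cfg.nA' (h ht') ha) ha', ?_⟩
    group
  inv_mem' := by
    rintro _ ⟨t, ht, a, ha, rfl⟩
    refine ⟨t⁻¹, (T : Subgroup G).inv_mem ht, t * a⁻¹ * t⁻¹, Cfg.nA (h ht) (A.inv_mem ha), ?_⟩
    group

theorem Cfg.into_TA {G : Type*} [Group G] [Finite G] {A : Subgroup G} {T : Sylow 2 G} {z r : G}
    (C : Cfg A T z r) {U : Subgroup G} (hU : IsPGroup 2 U) (hUX : U ≤ TA C.TN) :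
    ∃ a ∈ A, ∀ u ∈ U, a * u * a⁻¹ ∈ T := by
  obtain ⟨h, ⟨t, ht, a, ha, rfl⟩, hh⟩ := Tools.syl_conj T (H := TA C.TN)
    (fun t ht => ⟨t, ht, 1, A.one_mem, by group⟩) hU hUX
  refine ⟨a, ha, fun u hu => ?_⟩
  have e : a * u * a⁻¹ = t⁻¹ * (t * a * u * (t * a)⁻¹) * t := by group
  rw [e]
  exact (T : Subgroup G).mul_mem ((T : Subgroup G).mul_mem ((T : Subgroup G).inv_mem ht) (hh u hu)) ht

namespace QQ

variable {G : Type*} [Group G] {A : Subgroup G} {T : Sylow 2 G} {z r x f s : G}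

theorem rmem (Q : QQ A T z r x f s) {c : G} (hc : c ∈ zpowers r) : c = 1 ∨ c = z ∨ c = r ∨ c = r * z := by
  obtain ⟨k, rfl⟩ := hc
  have h1 : ∀ l : ℤ, r ^ (2 * l) = 1 ∨ r ^ (2 * l) = z := by
    intro l
    rw [zpow_mul]
    have h2 : r ^ (2 : ℤ) = z := by
      rw [← Q.rr]
      exact zpow_two r
    rw [h2]
    have h3 : z ^ l ∈ zpowers z := ⟨l, rfl⟩
    exact CF.zpowers_z Q.toCF h3
  rcases Int.even_or_odd' k with ⟨l, rfl | rfl⟩
  · rcases h1 l with h2 | h2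
    · exact Or.inl h2
    · exact Or.inr (Or.inl h2)
  · have h3 : r ^ (2 * l + 1) = r * r ^ (2 * l) := by rw [zpow_add, zpow_one, (Commute.refl r).zpow_left]
    right; right
    show r ^ (2 * l + 1) = r ∨ r ^ (2 * l + 1) = r * z
    rw [h3]
    rcases h1 l with h2 | h2
    · left; rw [h2, mul_one]
    · right; rw [h2]

theorem FA (Q : QQ A T z r x f s) {c : G} (hc : c ∈ zpowers f) : c ∈ A := zpowers_le.2 Q.fA hc

theorem zr (Q : QQ A T z r x f s) : z ∈ zpowers r := by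
  rw [← Q.rr]
  exact mul_mem (mem_zpowers r) (mem_zpowers r)

/-- `R` has order 4. -/
theorem R4 [Finite G] (Q : QQ A T z r x f s) {ρ : G} (hρT : ρ ∈ T) (hρ : ∀ a ∈ A, ρ * a = a * ρ) :
    ρ ∈ zpowers r := by
  by_contra hcon
  obtain ⟨m, hm1, hm2⟩ := exists_step T.2 hρT hcon
  obtain ⟨σ, hσd⟩ : ∃ σ, σ = ρ ^ m := ⟨_, rfl⟩
  rw [← hσd] at hm1 hm2
  have hσT : σ ∈ T := by rw [hσd]; exact (T : Subgroup G).pow_mem hρT m
  have hσ : ∀ a ∈ A, σ * a = a * σ := by
    intro a ha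
    rw [hσd]
    exact (Commute.pow_left (hρ a ha) m)
  obtain ⟨ψ, hψ, h1⟩ := Q.exists_psi Q.hx hσT
  have hψK : ∀ a ∈ A, ψ * a = a * ψ := by
    have e : ψ = (x⁻¹ * σ * x) * σ⁻¹ := by
      calc ψ = x⁻¹ * (x * ψ) := by group
        _ = _ := by rw [← h1]; group
    rw [e]
    have h2 := Cfg.nK (inv_mem (Q.TN Q.hx.1)) hσ
    rw [inv_inv] at h2
    exact Cfg.mulK h2 (Cfg.invK hσ)
  have h2 : ψ * ψ = 1 := by
    have h3 := Q.sinv ψ hψ
    rw [← hψK s Q.sA, mul_inv_cancel_right] at h3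
    nth_rewrite 1 [h3]
    rw [inv_mul_cancel]
  have h3 : (σ * σ) * x = x * (σ * σ) := by
    have h4 : (σ * σ) * x * (σ * σ)⁻¹ = x := by
      calc (σ * σ) * x * (σ * σ)⁻¹ = σ * (σ * x * σ⁻¹) * σ⁻¹ := by group
        _ = σ * (x * ψ) * σ⁻¹ := by rw [h1]
        _ = (σ * x * σ⁻¹) * (σ * ψ * σ⁻¹) := by group
        _ = x * ψ * ψ := by rw [h1, hσ ψ (Q.FA hψ), mul_inv_cancel_right]
        _ = x := by rw [mul_assoc, h2, mul_one]
    rw [mul_inv_eq_iff_eq_mul] at h4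
    exact h4
  have h5 := Q.dd_inv Q.hx
  rcases Q.rmem hm2 with h4 | h4 | h4 | h4
  · apply hm1
    rcases Q.R2 σ hσT hσ h4 with h6 | h6 <;> rw [h6]
    · exact one_mem _
    · exact Q.zr
  · apply hm1
    rcases Q.sqrtR hσT hσ h4 with h6 | h6 <;> rw [h6]
    · exact mem_zpowers r
    · exact mul_mem (mem_zpowers r) Q.zr
  · rw [h4] at h3
    rw [← h3, mul_inv_cancel_right, left_eq_mul] at h5
    exact Q.z1 h5
  · rw [h4] at h3
    have h6 : x * (r * z) * x⁻¹ = r := by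
      calc x * (r * z) * x⁻¹ = (x * r * x⁻¹) * (x * z * x⁻¹) := by group
        _ = r * z * z := by rw [h5, Q.Tz x Q.hx.1, mul_inv_cancel_right]
        _ = r := by rw [mul_assoc, Q.zz, mul_one]
    rw [← h3, mul_inv_cancel_right, mul_eq_left] at h6
    exact Q.z1 h6

/-- `s` does not centralize `F`. -/
theorem sF [Finite G] (Q : QQ A T z r x f s) (h : ∀ c ∈ zpowers f, s * c = c * s) : False := by
  obtain ⟨e, he, heA, hee⟩ := Q.exE
  have h1 := Q.sinv e he
  rw [h e he, mul_inv_cancel_right] at h1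
  apply Q.z1
  rw [← hee]
  nth_rewrite 1 [h1]
  rw [inv_mul_cancel]

theorem s_not [Finite G] (Q : QQ A T z r x f s) : s ∉ zpowers f := fun h => Q.sF fun _ hc => CF.Fcomm h hc

theorem nrA [Finite G] (Q : QQ A T z r x f s) : r ∉ A := by
  intro hr
  rcases Q.st r Q.rT hr with h | h
  · have h1 := Q.sinv r h
    rw [← Q.rK s Q.sA, mul_inv_cancel_right] at h1
    apply Q.z1
    rw [← Q.rr]
    nth_rewrite 1 [h1]
    rw [inv_mul_cancel]
  · apply Q.sF
    intro c hc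
    have h1 : s * c = r⁻¹ * ((r * s) * c) := by group
    rw [h1, CF.Fcomm h hc, ← mul_assoc, Cfg.invK Q.rK c (Q.FA hc)]
    group

theorem commS (Q : QQ A T z r x f s) {w : G} (hwf : ∀ c ∈ zpowers f, w * c = c * w) (hws : w * s = s * w) :
    ∀ t, t ∈ T → t ∈ A → w * t = t * w := by
  intro t htT htA
  rcases Q.st t htT htA with h | h
  · exact hwf t h
  · have h1 := hwf _ h
    have h2 : w * t * s = t * w * s := by
      rw [mul_assoc, h1, mul_assoc, ← hws, mul_assoc]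
    exact mul_right_cancel h2

/-- **(G9)** -/
theorem cS [Finite G] (Q : QQ A T z r x f s) {w : G} (hwT : w ∈ T) (hwf : ∀ c ∈ zpowers f, w * c = c * w)
    (hws : w * s = s * w) : ∀ a ∈ A, w * a = a * w := by
  by_contra hcon
  have hwH : w ∉ centralizer (A : Set G) := by
    intro h
    apply hcon
    intro a ha
    exact ((mem_centralizer_iff.1 h) a ha).symm
  obtain ⟨m, hm1, hm2⟩ := exists_step T.2 hwT hwH
  obtain ⟨g, hgd⟩ : ∃ g, g = w ^ m := ⟨_, rfl⟩
  rw [← hgd] at hm1 hm2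
  have hgT : g ∈ T := by rw [hgd]; exact (T : Subgroup G).pow_mem hwT m
  have hgf : ∀ c ∈ zpowers f, g * c = c * g := fun c hc => by rw [hgd]; exact (Commute.pow_left (hwf c hc) m)
  have hgs : g * s = s * g := by rw [hgd]; exact (Commute.pow_left hws m)
  have hgS := Q.commS hgf hgs
  set N : Subgroup G := (T : Subgroup G) ⊓ centralizer (A : Set G) with hN
  have hNA : ∀ n ∈ N, ∀ a ∈ A, n * a = a * n := fun n hn a ha => ((mem_centralizer_iff.1 hn.2) a ha).symm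
  have hN2 : IsPGroup 2 N := T.2.to_le inf_le_left
  have hgA : g ∈ normalizer (A : Set G) := Q.TN hgT
  have hgN : g ∈ normalizer (N : Set G) := by
    apply mem_nor
    intro n hn
    exact ⟨(T : Subgroup G).mul_mem ((T : Subgroup G).mul_mem hgT hn.1) ((T : Subgroup G).inv_mem hgT),
      mem_centralizer_iff.2 fun a ha => (Cfg.nK hgA (hNA n hn) a ha).symm⟩
  have hgg : g * g ∈ N := ⟨(T : Subgroup G).mul_mem hgT hgT, hm2⟩
  have hg : ∃ a ∈ A, g * a ≠ a * g := by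
    by_contra hno
    push Not at hno
    exact hm1 (mem_centralizer_iff.2 fun a ha => (hno a ha).symm)
  obtain ⟨a, ha, h1, h2⟩ := ZG.zg Q.qs hNA hgA hgN hgg hg
  have haN : a ∈ normalizer (N : Set G) := mem_nor_comm fun n hn => (hNA n hn a ha).symm
  have hwN : a * g * a⁻¹ ∈ normalizer (N : Set G) := mul_mem (mul_mem haN hgN) (inv_mem haN)
  have hww : (a * g * a⁻¹) * (a * g * a⁻¹) ∈ N := by
    have e : (a * g * a⁻¹) * (a * g * a⁻¹) = g * g := by
      calc (a * g * a⁻¹) * (a * g * a⁻¹) = a * (g * g) * a⁻¹ := by group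
        _ = g * g := by rw [← hNA _ hgg a ha, mul_inv_cancel_right]
    rw [e]
    exact hgg
  obtain ⟨U, hU, hNU, hgU, hwU, hUmin⟩ := Tools.ext hN2 hgN hwN hgg hww h2
  have hUX : U ≤ TA Q.TN := by
    apply hUmin
    · intro n hn
      exact ⟨n, hn.1, 1, A.one_mem, by group⟩
    · exact ⟨g, hgT, 1, A.one_mem, by group⟩
    · exact ⟨g, hgT, (g⁻¹ * a * g) * a⁻¹, A.mul_mem (Cfg.nA' hgA ha) (A.inv_mem ha), by group⟩
  obtain ⟨b, hb, hbU⟩ := Q.into_TA hU hUX
  have key : ∀ b ∈ A, b * g * b⁻¹ ∈ T → ∃ n, (n = 1 ∨ n = z) ∧ b * g * b⁻¹ = n * g := by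
    intro b hb hbT
    refine ⟨b * g * b⁻¹ * g⁻¹, ?_, by group⟩
    have h3 : b * g * b⁻¹ * g⁻¹ ∈ T := (T : Subgroup G).mul_mem hbT ((T : Subgroup G).inv_mem hgT)
    have h4 : b * g * b⁻¹ * g⁻¹ ∈ A := by
      have e : b * g * b⁻¹ * g⁻¹ = b * (g * b⁻¹ * g⁻¹) := by group
      rw [e]
      exact A.mul_mem hb (Cfg.nA hgA (A.inv_mem hb))
    apply Q.one _ h3 h4
    obtain ⟨n, hn⟩ : ∃ n, n = b * g * b⁻¹ * g⁻¹ := ⟨_, rfl⟩
    rw [← hn] at h3 h4 ⊢
    have h5 := hgS n h3 h4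
    have h6 : (n * g) * (n * g) = g * g := by
      rw [hn]
      calc b * g * b⁻¹ * g⁻¹ * g * (b * g * b⁻¹ * g⁻¹ * g) = b * (g * g) * b⁻¹ := by group
        _ = g * g := by rw [← hNA _ hgg b hb, mul_inv_cancel_right]
    have h7 : (n * n) * (g * g) = g * g := by
      calc (n * n) * (g * g) = n * (n * g) * g := by group
        _ = n * (g * n) * g := by rw [h5]
        _ = (n * g) * (n * g) := by group
        _ = g * g := h6
    exact mul_eq_right.1 h7
  obtain ⟨n₁, hn₁, h3⟩ := key b hb (hbU g hgU)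
  obtain ⟨n₂, hn₂, h4⟩ := key (b * a) (A.mul_mem hb ha) (by
    have := hbU _ hwU
    have e : b * a * g * (b * a)⁻¹ = b * (a * g * a⁻¹) * b⁻¹ := by group
    rw [e]
    exact this)
  apply h1
  have hzN : z ∈ N := ⟨Q.zTm, mem_centralizer_iff.2 fun a ha => (Q.zK a ha).symm⟩
  have hn : n₂ * n₁⁻¹ ∈ N := by
    apply N.mul_mem
    · rcases hn₂ with h | h <;> rw [h]
      · exact N.one_mem
      · exact hzN
    · apply N.inv_mem
      rcases hn₁ with h | h <;> rw [h]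
      · exact N.one_mem
      · exact hzN
  have h5 : b * (a * g * a⁻¹ * g⁻¹) * b⁻¹ = n₂ * n₁⁻¹ := by
    calc b * (a * g * a⁻¹ * g⁻¹) * b⁻¹ = (b * a * g * (b * a)⁻¹) * (b * g * b⁻¹)⁻¹ := by group
      _ = n₂ * n₁⁻¹ := by rw [h3, h4]; group
  have h6 : a * g * a⁻¹ * g⁻¹ = b⁻¹ * (n₂ * n₁⁻¹) * b := by rw [← h5]; group
  rw [h6, mul_assoc, hNA _ hn b hb, ← mul_assoc, inv_mul_cancel, one_mul]
  exact hn

/-- **(W)** An element of `T` centralizing `F` and acting on `𝒟` like a square lies in `F R`. -/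
theorem FR [Finite G] (Q : QQ A T z r x f s) {w χ : G} (hwT : w ∈ T) (hwf : ∀ c ∈ zpowers f, w * c = c * w)
    (hχ : χ ∈ zpowers f) (hwx : w * x * w⁻¹ = x * (χ * χ)) : ∃ φ ∈ zpowers f, φ * w ∈ zpowers r := by
  obtain ⟨e, he, heA, hee⟩ := Q.exE
  obtain ⟨v, hv⟩ : ∃ v, v = χ * w := ⟨_, rfl⟩
  have hvx := Q.fix_y Q.hx hχ hwx
  rw [← hv] at hvx
  have hvT : v ∈ T := by rw [hv]; exact (T : Subgroup G).mul_mem (Q.Ft hχ) hwT
  have hvf : ∀ c ∈ zpowers f, v * c = c * v := by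
    intro c hc
    rw [hv, mul_assoc, hwf c hc, ← mul_assoc, CF.Fcomm hχ hc, mul_assoc]
  have hvs : v * s * v⁻¹ = s ∨ v * s * v⁻¹ = z * s := by
    have h1 : v * s * v⁻¹ ∈ T := (T : Subgroup G).mul_mem ((T : Subgroup G).mul_mem hvT Q.sT)
      ((T : Subgroup G).inv_mem hvT)
    have h2 : v * s * v⁻¹ ∈ A := Cfg.nA (Q.TN hvT) Q.sA
    rcases Q.st _ h1 h2 with h3 | h3
    · exfalso
      apply Q.s_not
      have h4 := hvf _ h3
      have h5 : s = v * s * v⁻¹ := by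
        calc s = v⁻¹ * (v * s * v⁻¹ * v) := by group
          _ = v⁻¹ * (v * (v * s * v⁻¹)) := by rw [h4]
          _ = _ := by group
      rw [h5]
      exact h3
    · obtain ⟨η, hη⟩ : ∃ η, η = v * s * v⁻¹ * s * z := ⟨_, rfl⟩
      have hηF : η ∈ zpowers f := by rw [hη]; exact mul_mem h3 Q.zF
      have h4 : v * s * v⁻¹ = η * s := by
        rw [hη]
        have h5 := Q.zK s Q.sA
        calc v * s * v⁻¹ = v * s * v⁻¹ * (z * z) := by rw [Q.zz, mul_one]
          _ = v * s * v⁻¹ * ((s * s) * z) := by rw [Q.ss]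
          _ = v * s * v⁻¹ * s * (s * z) := by group
          _ = v * s * v⁻¹ * s * (z * s) := by rw [h5]
          _ = _ := by group
      have h5 : (v * s * v⁻¹) * x * (v * s * v⁻¹)⁻¹ = x * f := by
        have h6 : v * x * v⁻¹ = x := by rw [hvx, mul_inv_cancel_right]
        have h7 : v⁻¹ * x * v = x := by rw [mul_assoc, ← hvx, ← mul_assoc, inv_mul_cancel, one_mul]
        calc (v * s * v⁻¹) * x * (v * s * v⁻¹)⁻¹ = v * (s * (v⁻¹ * x * v) * s⁻¹) * v⁻¹ := by group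
          _ = v * (x * f) * v⁻¹ := by rw [h7, Q.sx]
          _ = (v * x * v⁻¹) * (v * f * v⁻¹) := by group
          _ = x * f := by rw [h6, hvf f (mem_zpowers f), mul_inv_cancel_right]
      have h6 : (η * s) * x * (η * s)⁻¹ = x * (η * η)⁻¹ * f := by
        calc (η * s) * x * (η * s)⁻¹ = η * (s * x * s⁻¹) * η⁻¹ := by group
          _ = η * (x * f) * η⁻¹ := by rw [Q.sx]
          _ = (η * x * η⁻¹) * (η * f * η⁻¹) := by group
          _ = _ := by rw [CF.conjF Q.toCF Q.hx hηF, CF.Fcomm hηF (mem_zpowers f), mul_inv_cancel_right]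
      rw [h4, h6] at h5
      have h7 : η * η = 1 := by
        have h8 := mul_right_cancel h5
        rw [mul_eq_left, inv_eq_one] at h8
        exact h8
      rw [h4]
      rcases Q.uF hηF h7 with h8 | h8
      · left; rw [h8, one_mul]
      · right; rw [h8]
  rcases hvs with h1 | h1
  · refine ⟨χ, hχ, ?_⟩
    rw [← hv]
    apply Q.R4 hvT
    apply Q.cS hvT hvf
    rw [mul_inv_eq_iff_eq_mul] at h1
    exact h1
  · refine ⟨e * χ, mul_mem he hχ, ?_⟩
    rw [mul_assoc, ← hv]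
    have hevT : e * v ∈ T := (T : Subgroup G).mul_mem (Q.Ft he) hvT
    apply Q.R4 hevT
    apply Q.cS hevT
    · intro c hc
      rw [mul_assoc, hvf c hc, ← mul_assoc, CF.Fcomm he hc, mul_assoc]
    · rw [mul_inv_eq_iff_eq_mul] at h1
      have h2 := Q.sinv e he
      have h3 : e * s = z * s * e := by
        have h4 : s * e = e⁻¹ * s := by
          rw [mul_inv_eq_iff_eq_mul] at h2
          exact h2
        calc e * s = (e * e) * (e⁻¹ * s) := by group
          _ = z * (s * e) := by rw [hee, h4]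
          _ = _ := by group
      calc e * v * s = e * (v * s) := by group
        _ = e * (z * s * v) := by rw [h1]
        _ = (e * z) * s * v := by group
        _ = (z * e) * s * v := by rw [Q.zK e heA]
        _ = z * (e * s) * v := by group
        _ = z * (z * s * e) * v := by rw [h3]
        _ = (z * z) * s * (e * v) := by group
        _ = _ := by rw [Q.zz, one_mul]

end QQ

end Cfsg.Agent.H297
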