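import Mathlib
import Cfsg.Agent.H297.CfgI

/-!
# The configuration: `T ∩ G' ≤ T₂`
-/

set_option autoImplicit false

namespace Cfsg.Agent.H297

open Subgroup Cfsg

/-- The elements of `T` centralizing or inverting `F`. -/
def T2 {G : Type*} [Group G] (T : Sylow 2 G) (f : G) : Subgroup G where
  carrier := {t | t ∈ T ∧ ((∀ c ∈ zpowers f, t * c * t⁻¹ = c) ∨ ∀ c ∈ zpowers f, t * c * t⁻¹ = c⁻¹)}
  one_mem' := ⟨(T : Subgroup G).one_mem, Or.inl fun c _ => by group⟩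
  mul_mem' := by
    rintro a b ⟨ha, ha'⟩ ⟨hb, hb'⟩
    refine ⟨(T : Subgroup G).mul_mem ha hb, ?_⟩
    have e : ∀ c : G, (a * b) * c * (a * b)⁻¹ = a * (b * c * b⁻¹) * a⁻¹ := fun c => by group
    rcases ha' with ha' | ha' <;> rcases hb' with hb' | hb'
    · left; intro c hc; rw [e, hb' c hc, ha' c hc]
    · right; intro c hc; rw [e, hb' c hc, ha' _ (inv_mem hc)]
    · right; intro c hc; rw [e, hb' c hc, ha' c hc]
    · left; intro c hc; rw [e, hb' c hc, ha' _ (inv_mem hc), inv_inv]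
  inv_mem' := by
    rintro a ⟨ha, ha'⟩
    refine ⟨(T : Subgroup G).inv_mem ha, ?_⟩
    rcases ha' with ha' | ha'
    · left; intro c hc
      nth_rewrite 1 [← ha' c hc]
      group
    · right; intro c hc
      have h1 := ha' c⁻¹ (inv_mem hc)
      rw [inv_inv] at h1
      nth_rewrite 1 [← h1]
      group

namespace QQ

variable {G : Type*} [Group G] {A : Subgroup G} {T : Sylow 2 G} {z r x f s : G}

theorem T2_T {t : G} (h : t ∈ T2 T f) : t ∈ T := h.1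

theorem T2_F (Q : QQ A T z r x f s) {c : G} (hc : c ∈ zpowers f) : c ∈ T2 T f :=
  ⟨Q.Ft hc, Or.inl fun d hd => by rw [CF.Fcomm hc hd, mul_inv_cancel_right]⟩

theorem T2_x (Q : QQ A T z r x f s) {y : G} (hy : DD T z y) : y ∈ T2 T f :=
  ⟨hy.1, Or.inr fun _ hd => Q.invF hy hd⟩

theorem T2_s (Q : QQ A T z r x f s) : s ∈ T2 T f := ⟨Q.sT, Or.inr Q.sinv⟩

theorem T2_r (Q : QQ A T z r x f s) {ρ : G} (h : ρ ∈ zpowers r) : ρ ∈ T2 T f := by
  have h1 : r ∈ T2 T f := ⟨Q.rT, Or.inl fun d hd => by rw [← Q.Fr hd, mul_inv_cancel_right]⟩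
  exact zpowers_le.2 h1 h

theorem T2_A (Q : QQ A T z r x f s) {t : G} (ht : t ∈ T) (htA : t ∈ A) : t ∈ T2 T f := by
  rcases Q.st t ht htA with h | h
  · exact Q.T2_F h
  · have h1 : t = (t * s) * s⁻¹ := by group
    rw [h1]
    exact mul_mem (Q.T2_F h) (inv_mem Q.T2_s)

/-- The action of an element normalizing `T` and centralizing `z` on `F`. -/
theorem exOdd [Finite G] (Q : QQ A T z r x f s) {n : G} (hnT : ∀ t ∈ T, n * t * n⁻¹ ∈ T) (hnz : n * z = z * n) :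
    ∃ l : ℤ, ∀ c ∈ zpowers f, n * c * n⁻¹ = c ^ (2 * l + 1) := by
  have hD : ∀ y, DD T z y → DD T z (n * y * n⁻¹) := by
    intro y hy
    refine ⟨hnT y hy.1, Cfg.conj_mk n hy.2.1, fun h => hy.2.2 ?_⟩
    rw [mul_inv_eq_iff_eq_mul, ← hnz] at h
    exact mul_left_cancel h
  obtain ⟨k, hk⟩ := Q.norF hD (mem_zpowers f)
  have hk' : f ^ k = n * f * n⁻¹ := hk
  have h1 : ∀ c ∈ zpowers f, n * c * n⁻¹ = c ^ k := by
    rintro _ ⟨j, rfl⟩
    show n * f ^ j * n⁻¹ = (f ^ j) ^ k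
    rw [← conj_zpow, ← hk', ← zpow_mul, ← zpow_mul, mul_comm]
  rcases Int.even_or_odd' k with ⟨l, hl | hl⟩
  · exfalso
    obtain ⟨e, he, heA, hee⟩ := Q.exE
    have h2 := h1 z Q.zF
    rw [hnz, mul_inv_cancel_right, hl, zpow_mul, zpow_two, Q.zz, one_zpow] at h2
    exact Q.z1 h2
  · refine ⟨l, ?_⟩
    rw [← hl]
    exact h1

/-- **(b)** -/
theorem commFR [Finite G] (Q : QQ A T z r x f s) {n t : G} (hnT : ∀ t ∈ T, n * t * n⁻¹ ∈ T) (hnz : n * z = z * n)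
    (ht : t ∈ T) : ∃ φ ∈ zpowers f, φ * (n * t * n⁻¹ * t⁻¹) ∈ zpowers r := by
  have htT : ∀ u ∈ T, t * u * t⁻¹ ∈ T := fun u hu =>
    (T : Subgroup G).mul_mem ((T : Subgroup G).mul_mem ht hu) ((T : Subgroup G).inv_mem ht)
  obtain ⟨k, hk⟩ := Q.exOdd hnT hnz
  obtain ⟨l, hl⟩ := Q.exOdd htT (Q.Tz t ht)
  have hnD : DD T z (n * x * n⁻¹) := by
    refine ⟨hnT x Q.hx.1, Cfg.conj_mk n Q.hx.2.1, fun h => Q.hx.2.2 ?_⟩
    rw [mul_inv_eq_iff_eq_mul, ← hnz] at h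
    exact mul_left_cancel h
  obtain ⟨α, hα, h1⟩ := Q.exists_phi hnD
  obtain ⟨β, hβ, h2⟩ := Q.exists_psi Q.hx ht
  obtain ⟨w, hw⟩ : ∃ w, w = n * t * n⁻¹ * t⁻¹ := ⟨_, rfl⟩
  rw [← hw]
  have hwT : w ∈ T := by
    rw [hw]
    exact (T : Subgroup G).mul_mem (hnT t ht) ((T : Subgroup G).inv_mem ht)
  have hnt := CF.E_mul hk hl
  have htn := CF.E_mul hl hk
  have e1 : w * (t * n) = n * t := by rw [hw]; group
  -- `w` centralizes `F`
  have hwf : ∀ c ∈ zpowers f, w * c = c * w := by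
    have h3 : ∀ c ∈ zpowers f, w * c * w⁻¹ = c := by
      intro c hc
      obtain ⟨d, hd⟩ : ∃ d, d = (t * n)⁻¹ * c * (t * n) := ⟨_, rfl⟩
      have hdF : d ∈ zpowers f := by
        rw [hd]
        apply Tools.inv_conj (E := (zpowers f : Set G)) _ _ hc
        intro y hy
        rw [htn y hy]
        exact zpow_mem hy _
      have h4 : c = (t * n) * d * (t * n)⁻¹ := by rw [hd]; group
      calc w * c * w⁻¹ = (w * (t * n)) * d * (w * (t * n))⁻¹ := by rw [h4]; group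
        _ = (n * t) * d * (n * t)⁻¹ := by rw [e1]
        _ = (t * n) * d * (t * n)⁻¹ := by rw [hnt d hdF, htn d hdF, mul_comm (2 * k + 1)]
        _ = c := h4.symm
    intro c hc
    have h4 := h3 c hc
    rw [mul_inv_eq_iff_eq_mul] at h4
    exact h4
  have hα2 : t * α * t⁻¹ = α * (α ^ l * α ^ l) := by
    rw [hl α hα, ← zpow_add, ← zpow_one_add]
    congr 1
    ring
  have hβ2 : n * β * n⁻¹ = β * (β ^ k * β ^ k) := by
    rw [hk β hβ, ← zpow_add, ← zpow_one_add]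
    congr 1
    ring
  have h3 : (n * t) * x * (n * t)⁻¹ = x * (α * (β * (β ^ k * β ^ k))) := by
    calc (n * t) * x * (n * t)⁻¹ = n * (t * x * t⁻¹) * n⁻¹ := by group
      _ = (n * x * n⁻¹) * (n * β * n⁻¹) := by rw [h2]; group
      _ = _ := by rw [h1, hβ2, mul_assoc]
  have h4 : (t * n) * x * (t * n)⁻¹ = x * (β * (α * (α ^ l * α ^ l))) := by
    calc (t * n) * x * (t * n)⁻¹ = t * (n * x * n⁻¹) * t⁻¹ := by group
      _ = (t * x * t⁻¹) * (t * α * t⁻¹) := by rw [h1]; group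
      _ = _ := by rw [h2, hα2, mul_assoc]
  have hαl : α ^ l ∈ zpowers f := zpow_mem hα l
  have hβk : β ^ k ∈ zpowers f := zpow_mem hβ k
  have hX : β * (α * (α ^ l * α ^ l)) ∈ zpowers f := mul_mem hβ (mul_mem hα (mul_mem hαl hαl))
  have h5 : (w * x * w⁻¹) * (β * (α * (α ^ l * α ^ l))) = x * (α * (β * (β ^ k * β ^ k))) := by
    calc (w * x * w⁻¹) * (β * (α * (α ^ l * α ^ l)))
        = (w * x * w⁻¹) * ((β * (α * (α ^ l * α ^ l))) * w * w⁻¹) := by group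
      _ = (w * x * w⁻¹) * (w * (β * (α * (α ^ l * α ^ l))) * w⁻¹) := by rw [hwf _ hX]
      _ = w * (x * (β * (α * (α ^ l * α ^ l)))) * w⁻¹ := by group
      _ = w * ((t * n) * x * (t * n)⁻¹) * w⁻¹ := by rw [h4]
      _ = (w * (t * n)) * x * (w * (t * n))⁻¹ := by group
      _ = _ := by rw [e1, h3]
  have h6 : w * x * w⁻¹ = x * ((β ^ k * (α ^ l)⁻¹) * (β ^ k * (α ^ l)⁻¹)) := by
    obtain ⟨i, hi⟩ := hα
    obtain ⟨j, hj⟩ := hβ
    have hi' : α = f ^ i := hi.symm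
    have hj' : β = f ^ j := hj.symm
    rw [← eq_mul_inv_iff_mul_eq] at h5
    rw [h5, hi', hj', mul_assoc]
    congr 1
    simp only [← zpow_mul, ← zpow_add, ← zpow_neg]
    congr 1
    ring
  exact Q.FR hwT hwf (mul_mem hβk (inv_mem hαl)) h6

theorem comm_T2 [Finite G] (Q : QQ A T z r x f s) {n t : G} (hnT : ∀ t ∈ T, n * t * n⁻¹ ∈ T) (hnz : n * z = z * n)
    (ht : t ∈ T) : n * t * n⁻¹ * t⁻¹ ∈ T2 T f := by
  obtain ⟨φ, hφ, h⟩ := Q.commFR hnT hnz ht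
  have e : n * t * n⁻¹ * t⁻¹ = φ⁻¹ * (φ * (n * t * n⁻¹ * t⁻¹)) := by group
  rw [e]
  exact mul_mem (inv_mem (Q.T2_F hφ)) (Q.T2_r h)

end QQ

/-- The 2-elements of `A` normalizing `T ∩ A` lie in `T`. -/
theorem mem_T_of_nor {G : Type*} [Group G] [Finite G] {A : Subgroup G} {T : Sylow 2 G}
    (hTA : (T : Subgroup G) ≤ normalizer (A : Set G)) {a : G} (haA : a ∈ A) (ha2 : IsPGroup 2 (zpowers a))
    (han : ∀ t, t ∈ T → t ∈ A → a * t * a⁻¹ ∈ T) : a ∈ T := by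
  have hp : Fact (Nat.Prime 2) := ⟨Nat.prime_two⟩
  obtain ⟨P, hP⟩ := Tools.exists_syl T hTA
  have h1 : IsPGroup 2 (zpowers (⟨a, haA⟩ : ↥A)) := by
    intro ⟨c, hc⟩
    obtain ⟨k, hk⟩ := hc
    obtain ⟨m, hm⟩ := ha2 ⟨(c : G), ⟨k, by rw [← hk]; rfl⟩⟩
    refine ⟨m, ?_⟩
    have h := congrArg (fun q : ↥(zpowers a) => (q : G)) hm
    apply Subtype.ext
    apply Subtype.ext
    exact h
  have h2 : (⟨a, haA⟩ : ↥A) ∈ normalizer ((P : Subgroup ↥A) : Set ↥A) := by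
    apply mem_nor
    intro n hn
    apply (hP _).2
    exact han n ((hP n).1 hn) n.2
  have h3 := h1.inf_normalizer_sylow P
  have h4 : (⟨a, haA⟩ : ↥A) ∈ zpowers (⟨a, haA⟩ : ↥A) ⊓ (P : Subgroup ↥A) := by
    rw [← h3]
    exact ⟨mem_zpowers _, h2⟩
  exact (hP _).1 h4.2

/-- The subgroup of the elements `d` centralizing `z` and `t` modulo `A C(A)`. -/
def DZ {G : Type*} [Group G] (A : Subgroup G) (z t : G) (hz : ∀ g : G, g * z = z * g → g ∈ normalizer (A : Set G)) :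
    Subgroup G where
  carrier := {d | d * z = z * d ∧ ∃ a ∈ A, ∃ k : G, (∀ a ∈ A, k * a = a * k) ∧ d * t * d⁻¹ = a * k * t}
  one_mem' := ⟨by group, 1, A.one_mem, 1, fun a _ => by group, by group⟩
  mul_mem' := by
    rintro d d' ⟨hd, a, ha, k, hk, h⟩ ⟨hd', a', ha', k', hk', h'⟩
    have hdN := hz d hd
    refine ⟨by rw [mul_assoc, hd', ← mul_assoc, hd, mul_assoc], (d * a' * d⁻¹) * a, A.mul_mem (Cfg.nA hdN ha') ha,
      (d * k' * d⁻¹) * k, Cfg.mulK (Cfg.nK hdN hk') hk, ?_⟩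
    have h1 := Cfg.nK hdN hk' a ha
    calc (d * d') * t * (d * d')⁻¹ = d * (d' * t * d'⁻¹) * d⁻¹ := by group
      _ = (d * a' * d⁻¹) * (d * k' * d⁻¹) * (d * t * d⁻¹) := by rw [h']; group
      _ = (d * a' * d⁻¹) * ((d * k' * d⁻¹) * a) * k * t := by rw [h]; group
      _ = (d * a' * d⁻¹) * (a * (d * k' * d⁻¹)) * k * t := by rw [h1]
      _ = _ := by group
  inv_mem' := by
    rintro d ⟨hd, a, ha, k, hk, h⟩
    have hd' : d⁻¹ * z = z * d⁻¹ := (Commute.inv_left (show Commute d z from hd))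
    have hdN := hz _ hd'
    refine ⟨hd', d⁻¹ * a⁻¹ * d⁻¹⁻¹, Cfg.nA hdN (A.inv_mem ha), d⁻¹ * k⁻¹ * d⁻¹⁻¹,
      Cfg.nK hdN (Cfg.invK hk), ?_⟩
    have h1 := Cfg.invK hk a⁻¹ (A.inv_mem ha)
    calc d⁻¹ * t * d⁻¹⁻¹ = d⁻¹ * (k⁻¹ * a⁻¹ * (a * k * t)) * d := by group
      _ = d⁻¹ * (k⁻¹ * a⁻¹ * (d * t * d⁻¹)) * d := by rw [h]
      _ = d⁻¹ * (a⁻¹ * k⁻¹ * (d * t * d⁻¹)) * d := by rw [h1]
      _ = _ := by group

namespace QQ

variable {G : Type*} [Group G] {A : Subgroup G} {T : Sylow 2 G} {z r x f s : G}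

/-- `T ∩ A C(A) ≤ T₂`. -/
theorem AK_T2 [Finite G] (Q : QQ A T z r x f s) {a k : G} (ha : a ∈ A) (hk : ∀ a ∈ A, k * a = a * k)
    (ht : a * k ∈ T) : a * k ∈ T2 T f := by
  have hp : Fact (Nat.Prime 2) := ⟨Nat.prime_two⟩
  obtain ⟨t, htd⟩ : ∃ t, t = a * k := ⟨_, rfl⟩
  rw [← htd] at ht ⊢
  have hak : Commute a k := (hk a ha).symm
  -- a power map which is the identity on 2-elements and kills the odd part
  obtain ⟨N, hN⟩ := (IsPGroup.iff_orderOf.1 T.2) ⟨t, ht⟩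
  have hN' : orderOf t = 2 ^ N := by
    rw [← hN]
    exact Subgroup.orderOf_coe (⟨t, ht⟩ : ↥(T : Subgroup G))
  obtain ⟨M, m, hm, hcard⟩ := Nat.exists_eq_two_pow_mul_odd (n := Nat.card G) Nat.card_pos.ne'
  have hcop : Nat.Coprime (2 ^ (M + N)) m := Nat.Coprime.pow_left _ (Nat.coprime_two_left.2 hm)
  obtain ⟨j, hj1, hj2⟩ := Nat.chineseRemainder hcop 1 0
  have hj3 : m ∣ j := (Nat.modEq_zero_iff_dvd).1 hj2
  have hj4 : j ≡ 1 [MOD 2 ^ N] := hj1.of_dvd (pow_dvd_pow 2 (by omega))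
  have htj : t ^ j = t := by
    have h1 : t ^ j = t ^ 1 := by
      rw [pow_eq_pow_iff_modEq, hN']
      exact hj4
    rw [h1, pow_one]
  have hall : ∀ g : G, IsPGroup 2 (zpowers (g ^ j)) := by
    rintro g ⟨c, i, hi⟩
    refine ⟨M, Subtype.ext ?_⟩
    show c ^ 2 ^ M = 1
    have hi' : c = (g ^ j) ^ i := hi.symm
    obtain ⟨q, hq⟩ := hj3
    have h1 : (g ^ j) ^ 2 ^ M = 1 := by
      rw [← pow_mul, hq]
      have : m * q * 2 ^ M = Nat.card G * q := by rw [hcard]; ring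
      rw [this, pow_mul, pow_card_eq_one', one_pow]
    rw [hi', ← zpow_natCast, ← zpow_mul, mul_comm, zpow_mul, zpow_natCast, h1, one_zpow]
  have hsplit : t = a ^ j * k ^ j := by
    rw [← hak.mul_pow, ← htd, htj]
  have hacc : ∀ b ∈ A, t * b * t⁻¹ = a ^ j * b * (a ^ j)⁻¹ := by
    intro b hb
    have h1 : (k ^ j) * b = b * k ^ j := (Commute.pow_left (show Commute k b from hk b hb) j)
    rw [hsplit]
    calc a ^ j * k ^ j * b * (a ^ j * k ^ j)⁻¹ = a ^ j * (k ^ j * b) * (k ^ j)⁻¹ * (a ^ j)⁻¹ := by group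
      _ = a ^ j * (b * k ^ j) * (k ^ j)⁻¹ * (a ^ j)⁻¹ := by rw [h1]
      _ = _ := by group
  have haT : a ^ j ∈ T := by
    apply mem_T_of_nor Q.TN (A.pow_mem ha j) (hall a)
    intro u huT huA
    rw [← hacc u huA]
    exact (T : Subgroup G).mul_mem ((T : Subgroup G).mul_mem ht huT) ((T : Subgroup G).inv_mem ht)
  have hkT : k ^ j ∈ T := by
    have e : k ^ j = (a ^ j)⁻¹ * t := by rw [hsplit]; group
    rw [e]
    exact (T : Subgroup G).mul_mem ((T : Subgroup G).inv_mem haT) ht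
  rw [hsplit]
  apply mul_mem (Q.T2_A haT (A.pow_mem ha j))
  apply Q.T2_r
  apply Q.R4 hkT
  intro b hb
  exact (Commute.pow_left (show Commute k b from hk b hb) j)

/-- **(⋆)** Fusion in `C(z)` is trivial modulo `T₂`. -/
theorem star [Finite G] (Q : QQ A T z r x f s) {c t : G} (hc : c * z = z * c) (ht : t ∈ T)
    (ht' : c * t * c⁻¹ ∈ T) : (c * t * c⁻¹) * t⁻¹ ∈ T2 T f := by
  obtain ⟨t', ht'd⟩ : ∃ t', t' = c * t * c⁻¹ := ⟨_, rfl⟩
  rw [← ht'd] at ht' ⊢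
  have hcN := Q.CN c hc
  have key : ∀ τ ∈ T, ∀ u ∈ T, ∃ a ∈ A, ∃ k : G, (∀ a ∈ A, k * a = a * k) ∧ τ * u * τ⁻¹ = a * k * u := by
    intro τ hτ u hu
    obtain ⟨φ, hφ, h⟩ := Q.commFR (n := τ) (fun v hv => (T : Subgroup G).mul_mem ((T : Subgroup G).mul_mem hτ hv)
      ((T : Subgroup G).inv_mem hτ)) (Q.Tz τ hτ) hu
    refine ⟨φ⁻¹, A.inv_mem (Q.FA hφ), φ * (τ * u * τ⁻¹ * u⁻¹), ?_, by group⟩
    intro a ha
    have h1 : zpowers r ≤ centralizer (A : Set G) := by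
      rw [zpowers_le]
      exact mem_centralizer_iff.2 fun a ha => (Q.rK a ha).symm
    exact (mem_centralizer_iff.1 (h1 h) a ha).symm
  have hTD : (T : Subgroup G) ≤ DZ A z t' Q.CN := fun τ hτ => ⟨Q.Tz τ hτ, key τ hτ t' ht'⟩
  have hU : IsPGroup 2 ↥((T : Subgroup G).map (MulAut.conj c).toMonoidHom) := T.2.map _
  have hUD : (T : Subgroup G).map (MulAut.conj c).toMonoidHom ≤ DZ A z t' Q.CN := by
    rintro _ ⟨τ, hτ, rfl⟩
    show c * τ * c⁻¹ ∈ DZ A z t' Q.CN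
    refine ⟨?_, ?_⟩
    · have h1 := Q.Tz τ hτ
      have h2 : c⁻¹ * z = z * c⁻¹ := (Commute.inv_left (show Commute c z from hc))
      calc c * τ * c⁻¹ * z = c * τ * (c⁻¹ * z) := by group
        _ = c * (τ * z) * c⁻¹ := by rw [h2]; group
        _ = (c * z) * τ * c⁻¹ := by rw [h1]; group
        _ = _ := by rw [hc]; group
    · obtain ⟨a, ha, k, hk, h⟩ := key τ hτ t ht
      refine ⟨c * a * c⁻¹, Cfg.nA hcN ha, c * k * c⁻¹, Cfg.nK hcN hk, ?_⟩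
      rw [ht'd]
      calc c * τ * c⁻¹ * (c * t * c⁻¹) * (c * τ * c⁻¹)⁻¹ = c * (τ * t * τ⁻¹) * c⁻¹ := by group
        _ = c * (a * k * t) * c⁻¹ := by rw [h]
        _ = _ := by group
  obtain ⟨d, ⟨hdz, a, ha, k, hk, hd⟩, hdT⟩ := Tools.syl_conj T hTD hU hUD
  have hnT : ∀ u ∈ T, (d * c) * u * (d * c)⁻¹ ∈ T := by
    intro u hu
    have h1 := hdT (c * u * c⁻¹) ⟨u, hu, rfl⟩
    have e : (d * c) * u * (d * c)⁻¹ = d * (c * u * c⁻¹) * d⁻¹ := by group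
    rw [e]
    exact h1
  have hnz : (d * c) * z = z * (d * c) := by rw [mul_assoc, hc, ← mul_assoc, hdz, mul_assoc]
  have h1 := Q.comm_T2 hnT hnz ht
  have h2 : (d * c) * t * (d * c)⁻¹ = a * k * t' := by
    rw [← hd, ht'd]
    group
  rw [h2] at h1
  have h3 : a * k ∈ T := by
    have h4 := hnT t ht
    rw [h2] at h4
    have e : a * k = (a * k * t') * t'⁻¹ := by group
    rw [e]
    exact (T : Subgroup G).mul_mem h4 ((T : Subgroup G).inv_mem ht')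
  have h4 := Q.AK_T2 ha hk h3
  have e : t' * t⁻¹ = (a * k)⁻¹ * (a * k * t' * t⁻¹) := by group
  rw [e]
  exact mul_mem (inv_mem h4) h1

end QQ

end Cfsg.Agent.H297
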