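import Mathlib
import Cfsg.Agent.H297.CfgJ

/-!
# The configuration: fusion is trivial modulo `T₂`
-/

set_option autoImplicit false

namespace Cfsg.Agent.H297

open Subgroup Cfsg

/-- The value of `t` seen from the conjugate `y` of `z`. -/
def Val {G : Type*} [Group G] (T : Sylow 2 G) (z f y t w : G) : Prop :=
  ∃ h : G, h * y * h⁻¹ = z ∧ h * t * h⁻¹ ∈ T ∧ (h * t * h⁻¹) * w⁻¹ ∈ T2 T f

namespace QQ

variable {G : Type*} [Group G] {A : Subgroup G} {T : Sylow 2 G} {z r x f s : G}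

theorem cz {h : G} (hh : h * z * h⁻¹ = z) : h * z = z * h := by
  rw [mul_inv_eq_iff_eq_mul] at hh
  exact hh

/-- Two transports of `(y, t)` differ by `T₂`. -/
theorem val_aux [Finite G] (Q : QQ A T z r x f s) {y t h h' : G} (hh : h * y * h⁻¹ = z) (ht : h * t * h⁻¹ ∈ T)
    (hh' : h' * y * h'⁻¹ = z) (ht' : h' * t * h'⁻¹ ∈ T) : (h' * t * h'⁻¹) * (h * t * h⁻¹)⁻¹ ∈ T2 T f := by
  have h1 : (h' * h⁻¹) * z * (h' * h⁻¹)⁻¹ = z := by
    nth_rewrite 1 [← hh]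
    rw [← hh']
    group
  have h2 : (h' * h⁻¹) * (h * t * h⁻¹) * (h' * h⁻¹)⁻¹ = h' * t * h'⁻¹ := by group
  have h3 := Q.star (c := h' * h⁻¹) (t := h * t * h⁻¹) (by rw [mul_inv_eq_iff_eq_mul] at h1; exact h1) ht
    (by rw [h2]; exact ht')
  rw [h2] at h3
  exact h3

theorem val_unique [Finite G] (Q : QQ A T z r x f s) {y t w w' : G} (h : Val T z f y t w) (h' : Val T z f y t w') :
    w * w'⁻¹ ∈ T2 T f := by
  obtain ⟨g, h1, h2, h3⟩ := h
  obtain ⟨g', h1', h2', h3'⟩ := h'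
  have h4 := Q.val_aux h1' h2' h1 h2
  have e : w * w'⁻¹ = (g * t * g⁻¹ * w⁻¹)⁻¹ * (g * t * g⁻¹ * (g' * t * g'⁻¹)⁻¹) * (g' * t * g'⁻¹ * w'⁻¹) := by
    group
  rw [e]
  exact mul_mem (mul_mem (inv_mem h3) h4) h3'

theorem val_conj {y t w k : G} (hk : k * t = t * k) (h : Val T z f y t w) : Val T z f (k * y * k⁻¹) t w := by
  obtain ⟨g, h1, h2, h3⟩ := h
  have e : g * k⁻¹ * t * (g * k⁻¹)⁻¹ = g * t * g⁻¹ := by
    calc g * k⁻¹ * t * (g * k⁻¹)⁻¹ = g * (k⁻¹ * (t * k)) * g⁻¹ := by group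
      _ = g * (k⁻¹ * (k * t)) * g⁻¹ := by rw [hk]
      _ = _ := by group
  refine ⟨g * k⁻¹, ?_, ?_, ?_⟩
  · rw [← h1]; group
  · rw [e]; exact h2
  · rw [e]; exact h3

theorem sw1 {σ u : G} (hu : u * σ * u⁻¹ = σ) : σ * u * σ⁻¹ = u := by
  rw [mul_inv_eq_iff_eq_mul] at hu ⊢
  exact hu.symm

theorem sw2 {σ u y : G} (hσ : σ * σ = y) (hyy : y * y = 1) (hu : u * σ * u⁻¹ = σ * y) :
    σ * u * σ⁻¹ = y * u := by
  have hσx : σ * y = y * σ := by rw [← hσ, mul_assoc]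
  rw [mul_inv_eq_iff_eq_mul] at hu ⊢
  calc σ * u = (y * y) * (σ * u) := by rw [hyy, one_mul]
    _ = y * ((y * σ) * u) := by group
    _ = y * (σ * y * u) := by rw [hσx]
    _ = y * (u * σ) := by rw [hu]
    _ = _ := by group

theorem T2_norm [Finite G] (Q : QQ A T z r x f s) {t u : G} (ht : t ∈ T) (hu : u ∈ T2 T f) :
    t * u * t⁻¹ ∈ T2 T f := by
  refine ⟨(T : Subgroup G).mul_mem ((T : Subgroup G).mul_mem ht hu.1) ((T : Subgroup G).inv_mem ht), ?_⟩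
  have e : ∀ c : G, (t * u * t⁻¹) * c * (t * u * t⁻¹)⁻¹ = t * (u * (t⁻¹ * c * t) * u⁻¹) * t⁻¹ := fun c => by group
  have hF : ∀ c ∈ zpowers f, t⁻¹ * c * t ∈ zpowers f := by
    intro c hc
    have := Q.norT ((T : Subgroup G).inv_mem ht) hc
    rwa [inv_inv] at this
  rcases hu.2 with h | h
  · left
    intro c hc
    rw [e, h _ (hF c hc)]
    group
  · right
    intro c hc
    rw [e, h _ (hF c hc)]
    group

/-- The value does not change when one passes to a commuting conjugate. -/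
theorem val_comm [Finite G] (Q : QQ A T z r x f s) {y y' t w : G} (hy : IsConj z y) (hy' : IsConj z y')
    (ht2 : IsPGroup 2 (zpowers t)) (hyy : y * y' = y' * y) (hty : t * y = y * t) (hty' : t * y' = y' * t)
    (hv : Val T z f y t w) : Val T z f y' t w := by
  by_cases hne : y' = y
  · rw [hne]; exact hv
  -- transport `y` to `z`
  have hU := join_comm ht2 (zpow_two_of_sq (Q.sq hy')) (comm_zpowers hty'.symm)
  obtain ⟨h, hh, hhU⟩ := Q.transport hy hU (by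
    have : zpowers y' ⊔ zpowers t ≤ centralizer {y} := by
      rw [sup_le_iff, zpowers_le, zpowers_le, mem_centralizer_singleton_iff, mem_centralizer_singleton_iff]
      exact ⟨hyy.symm, hty⟩
    intro u hu
    exact mem_centralizer_singleton_iff.1 (this hu))
  obtain ⟨x', hx'⟩ : ∃ x', x' = h * y' * h⁻¹ := ⟨_, rfl⟩
  obtain ⟨t', ht'⟩ : ∃ t', t' = h * t * h⁻¹ := ⟨_, rfl⟩
  have hx'T : x' ∈ T := by rw [hx']; exact hhU _ (mem_sup_left (mem_zpowers y'))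
  have ht'T : t' ∈ T := by rw [ht']; exact hhU _ (mem_sup_right (mem_zpowers t))
  have hx'D : DD T z x' := by
    refine ⟨hx'T, by rw [hx']; exact Cfg.conj_mk h hy', fun h1 => hne ?_⟩
    rw [hx', ← hh] at h1
    exact mul_left_cancel (mul_right_cancel h1)
  have htx : t' * x' = x' * t' := by
    rw [hx', ht']
    calc h * t * h⁻¹ * (h * y' * h⁻¹) = h * (t * y') * h⁻¹ := by group
      _ = h * (y' * t) * h⁻¹ := by rw [hty']
      _ = _ := by group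
  -- the first value
  have hval : t' * w⁻¹ ∈ T2 T f := by
    obtain ⟨g, h1, h2, h3⟩ := hv
    have h4 := Q.val_aux h1 h2 hh (by rw [← ht']; exact ht'T)
    have e : t' * w⁻¹ = (h * t * h⁻¹ * (g * t * g⁻¹)⁻¹) * (g * t * g⁻¹ * w⁻¹) := by rw [ht']; group
    rw [e]
    exact mul_mem h4 h3
  -- `char`
  have hU' : IsPGroup 2 ↥((T : Subgroup G) ⊓ centralizer {x'} : Subgroup G) := T.2.to_le inf_le_left
  obtain ⟨σ, hσ, h2, h3, -⟩ := Q.char hx'D.2.1 hU' (fun u hu => mem_centralizer_singleton_iff.1 hu.2)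
  have hzU : z ∈ (T : Subgroup G) ⊓ centralizer {x'} :=
    ⟨Q.zTm, mem_centralizer_singleton_iff.2 (Q.Tz x' hx'T).symm⟩
  have htU : t' ∈ (T : Subgroup G) ⊓ centralizer {x'} := ⟨ht'T, mem_centralizer_singleton_iff.2 htx⟩
  have hzσ := h3 z hzU (IsConj.refl z) hx'D.2.2.symm
  have hx'x' := Q.sq hx'D.2.1
  have hσx : σ * x' = x' * σ := by rw [← hσ, mul_assoc]
  have hzx : z * x' = x' * z := (Q.Tz x' hx'T).symm
  have hσz : σ * z * σ⁻¹ = x' * z := sw2 hσ hx'x' hzσ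
  have hσt : ∃ v, v ∈ T2 T f ∧ v ∈ T ∧ σ * t' * σ⁻¹ = v * t' := by
    rcases h2 t' htU with h4 | h4
    · exact ⟨1, one_mem _, (T : Subgroup G).one_mem, by rw [sw1 h4, one_mul]⟩
    · exact ⟨x', Q.T2_x hx'D, hx'T, sw2 hσ hx'x' h4⟩
  have hrx : r * x' * r⁻¹ = z * x' := sw2 Q.rr Q.zz (Q.dd_inv hx'D)
  have hrt : ∃ v, (v = 1 ∨ v = z) ∧ r * t' * r⁻¹ = v * t' := by
    rcases Q.Tr t' ht'T with h4 | h4
    · exact ⟨1, Or.inl rfl, by rw [sw1 h4, one_mul]⟩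
    · exact ⟨z, Or.inr rfl, sw2 Q.rr Q.zz h4⟩
  have hz2 : z ∈ T2 T f := Q.T2_F Q.zF
  have hx2 : x' ∈ T2 T f := Q.T2_x hx'D
  obtain ⟨v, hv2, hvT, h4⟩ := hσt
  obtain ⟨v', hv', h5⟩ := hrt
  obtain ⟨v'', hv''2, h6⟩ : ∃ v'', v'' ∈ T2 T f ∧ (σ * r) * t' * (σ * r)⁻¹ = v'' * t' := by
    have e : (σ * r) * t' * (σ * r)⁻¹ = (σ * v' * σ⁻¹) * (σ * t' * σ⁻¹) := by
      calc (σ * r) * t' * (σ * r)⁻¹ = σ * (r * t' * r⁻¹) * σ⁻¹ := by group
        _ = σ * (v' * t') * σ⁻¹ := by rw [h5]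
        _ = _ := by group
    rw [e, h4]
    rcases hv' with rfl | rfl
    · exact ⟨v, hv2, by group⟩
    · exact ⟨x' * v' * v, mul_mem (mul_mem hx2 hz2) hv2, by rw [hσz]; group⟩
  refine ⟨(σ * r) * h, ?_, ?_, ?_⟩
  · calc (σ * r) * h * y' * ((σ * r) * h)⁻¹ = σ * (r * (h * y' * h⁻¹) * r⁻¹) * σ⁻¹ := by group
      _ = σ * (z * x') * σ⁻¹ := by rw [← hx', hrx]
      _ = (σ * z * σ⁻¹) * (σ * x' * σ⁻¹) := by group
      _ = x' * z * x' := by rw [hσz, hσx, mul_inv_cancel_right]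
      _ = z * (x' * x') := by rw [← hzx, mul_assoc]
      _ = z := by rw [hx'x', mul_one]
  · have e : (σ * r) * h * t * ((σ * r) * h)⁻¹ = v'' * t' := by
      rw [← h6, ht']; group
    rw [e]
    exact (T : Subgroup G).mul_mem hv''2.1 ht'T
  · have e : (σ * r) * h * t * ((σ * r) * h)⁻¹ = v'' * t' := by
      rw [← h6, ht']; group
    rw [e, mul_assoc]
    exact mul_mem hv''2 hval

/-- **(GT)** Fusion of the elements of `T` is trivial modulo `T₂`. -/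
theorem GT [Finite G] (Q : QQ A T z r x f s) {g t : G} (ht : t ∈ T) (hgt : g * t * g⁻¹ ∈ T) :
    (g * t * g⁻¹) * t⁻¹ ∈ T2 T f := by
  have hp : Fact (Nat.Prime 2) := ⟨Nat.prime_two⟩
  obtain ⟨y, hyd⟩ : ∃ y, y = g⁻¹ * z * g := ⟨_, rfl⟩
  have hy : IsConj z y := by
    rw [hyd]
    have := Cfg.conj_mk g⁻¹ (IsConj.refl z)
    rwa [inv_inv] at this
  have hzt := Q.Tz t ht
  have hyt : t * y = y * t := by
    have h1 := Q.Tz _ hgt
    rw [hyd]
    calc t * (g⁻¹ * z * g) = g⁻¹ * ((g * t * g⁻¹) * z) * g := by group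
      _ = g⁻¹ * (z * (g * t * g⁻¹)) * g := by rw [h1]
      _ = _ := by group
  have ht2 : IsPGroup 2 (zpowers t) := zpow_two_of_mem T.2 ht
  -- Sylow 2-subgroups of `C(t)`
  have hU1 := join_comm ht2 (zpow_two_of_sq Q.zz) (comm_zpowers hzt.symm)
  have hU2 := join_comm ht2 (zpow_two_of_sq (Q.sq hy)) (comm_zpowers hyt.symm)
  have hC1 : zpowers z ⊔ zpowers t ≤ centralizer {t} := by
    rw [sup_le_iff, zpowers_le, zpowers_le, mem_centralizer_singleton_iff, mem_centralizer_singleton_iff]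
    exact ⟨hzt.symm, rfl⟩
  have hC2 : zpowers y ⊔ zpowers t ≤ centralizer {t} := by
    rw [sup_le_iff, zpowers_le, zpowers_le, mem_centralizer_singleton_iff, mem_centralizer_singleton_iff]
    exact ⟨hyt.symm, rfl⟩
  obtain ⟨k, P, hk, hP, hPt, hzP, hyP⟩ : ∃ (k : G) (P : Subgroup G), k * t = t * k ∧ IsPGroup 2 P ∧ t ∈ P ∧
      z ∈ P ∧ k * y * k⁻¹ ∈ P := by
    have h1 : IsPGroup 2 ↥((zpowers z ⊔ zpowers t).subgroupOf (centralizer {t})) := hU1.comap_subtype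
    obtain ⟨P, hP⟩ := h1.exists_le_sylow
    have h2 : IsPGroup 2 ↥((zpowers y ⊔ zpowers t).subgroupOf (centralizer {t})) := hU2.comap_subtype
    obtain ⟨P', hP'⟩ := h2.exists_le_sylow
    obtain ⟨k, hk⟩ := MulAction.exists_smul_eq (↥(centralizer {t})) P' P
    refine ⟨k, (P : Subgroup ↥(centralizer {t})).map (centralizer {t}).subtype,
      mem_centralizer_singleton_iff.1 k.2, P.2.map _, ?_, ?_, ?_⟩
    · exact ⟨⟨t, hC1 (mem_sup_right (mem_zpowers t))⟩, hP (mem_subgroupOf.2 (mem_sup_right (mem_zpowers t))), rfl⟩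
    · exact ⟨⟨z, hC1 (mem_sup_left (mem_zpowers z))⟩, hP (mem_subgroupOf.2 (mem_sup_left (mem_zpowers z))), rfl⟩
    · have h3 : (⟨y, hC2 (mem_sup_left (mem_zpowers y))⟩ : ↥(centralizer {t})) ∈ (P' : Subgroup ↥(centralizer {t})) :=
        hP' (mem_subgroupOf.2 (mem_sup_left (mem_zpowers y)))
      refine ⟨k * ⟨y, hC2 (mem_sup_left (mem_zpowers y))⟩ * k⁻¹, ?_, rfl⟩
      rw [← hk]
      exact Subgroup.smul_mem_pointwise_smul _ (MulAut.conj k) _ h3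
  obtain ⟨P', hP'⟩ := hP.exists_le_sylow
  obtain ⟨m, hm⟩ := MulAction.exists_smul_eq G P' T
  have hmT : ∀ p ∈ P, m * p * m⁻¹ ∈ T := by
    intro p hp
    rw [← hm]
    exact Subgroup.smul_mem_pointwise_smul _ (MulAut.conj m) _ (hP' hp)
  have hmz : ∀ p ∈ P, p * (m⁻¹ * z * m) = (m⁻¹ * z * m) * p := by
    intro p hp
    have h1 := Q.Tz _ (hmT p hp)
    calc p * (m⁻¹ * z * m) = m⁻¹ * ((m * p * m⁻¹) * z) * m := by group
      _ = m⁻¹ * (z * (m * p * m⁻¹)) * m := by rw [h1]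
      _ = _ := by group
  have hz' : IsConj z (m⁻¹ * z * m) := by
    have := Cfg.conj_mk m⁻¹ (IsConj.refl z)
    rwa [inv_inv] at this
  have v1 : Val T z f z t t := ⟨1, by group, by
    have e : (1 : G) * t * 1⁻¹ = t := by group
    rw [e]; exact ht, by
    have e : (1 : G) * t * 1⁻¹ * t⁻¹ = 1 := by group
    rw [e]; exact one_mem _⟩
  have v2 := Q.val_comm (IsConj.refl z) hz' ht2 (hmz z hzP) hzt (hmz t hPt) v1
  have v3 := Q.val_comm hz' (Cfg.conj_mk k hy) ht2 (hmz _ hyP).symm (hmz t hPt) (by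
    calc t * (k * y * k⁻¹) = (t * k) * y * k⁻¹ := by group
      _ = k * (t * y) * k⁻¹ := by rw [← hk]; group
      _ = k * y * (t * k⁻¹) := by rw [hyt]; group
      _ = k * y * (k⁻¹ * t) := by
        rw [(Commute.inv_left (show Commute k t from hk)).eq]
      _ = _ := by group) v2
  have v4 : Val T z f y t (g * t * g⁻¹) := ⟨g, by rw [hyd]; group, hgt, by
    rw [mul_inv_cancel]; exact one_mem _⟩
  have v5 := val_conj hk v4
  have h1 := Q.val_unique v5 v3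
  exact h1

/-- `T ∩ G' ≤ T₂`. -/
theorem focal [Finite G] (Q : QQ A T z r x f s) {t : G} (ht : t ∈ T) (htG : t ∈ commutator G) : t ∈ T2 T f := by
  have hp : Fact (Nat.Prime 2) := ⟨Nat.prime_two⟩
  have h1 : t ∈ commutator G ⊓ (T : Subgroup G) := ⟨htG, ht⟩
  rw [Subgroup.commutator_inf_eq_focalSubgroup] at h1
  have h2 : focalSubgroup (T : Subgroup G) ≤ T2 T f := by
    rw [focalSubgroup_def, closure_le]
    rintro _ ⟨hg, u, hu, c, rfl⟩
    rw [commutatorElement_def] at hg ⊢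
    have h3 : c * u⁻¹ * c⁻¹ ∈ T := by
      have e : c * u⁻¹ * c⁻¹ = u⁻¹ * (u * c * u⁻¹ * c⁻¹) := by group
      rw [e]
      exact (T : Subgroup G).mul_mem ((T : Subgroup G).inv_mem hu) hg
    have h4 := Q.GT ((T : Subgroup G).inv_mem hu) h3
    rw [inv_inv] at h4
    have h5 : u * (c * u⁻¹ * c⁻¹ * u) * u⁻¹ = u * c * u⁻¹ * c⁻¹ := by group
    rw [← h5]
    exact Q.T2_norm hu h4
  exact h2 h1

end QQ

end Cfsg.Agent.H297
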