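import Mathlib
import Cfsg.Prelude.Def_CaseTheorems
import Cfsg.Agent.H297.CfgK

/-!
# The configuration: the normal simple subgroup containing `A` has semidihedral Sylow 2-subgroups
-/

set_option autoImplicit false

namespace Cfsg.Agent.H297

open Subgroup Cfsg

/-- A recognition of the semidihedral groups. -/
theorem qd_of {P : Type*} [Group P] [Finite P] (hP : IsPGroup 2 P) {X x u : P}
    (hXP : ∀ p : P, p ∈ zpowers X ∨ p * x ∈ zpowers X) (hx : x ∉ zpowers X) (hxx : x * x = 1) (hu : u ∈ zpowers X)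
    (hu1 : u ≠ 1) (huu : u * u = 1) (hxX : x * X * x⁻¹ = u * X⁻¹) (h4 : (X * X) * (X * X) ≠ 1) :
    Cfsg.IsQuasiDihedral P := by
  have hp : Fact (Nat.Prime 2) := ⟨Nat.prime_two⟩
  obtain ⟨n, hn⟩ := (IsPGroup.iff_orderOf.1 hP) X
  have h3 : 3 ≤ n := by
    by_contra hlt
    push Not at hlt
    apply h4
    have h5 : X ^ 2 ^ 2 = 1 := by
      rw [← orderOf_dvd_iff_pow_eq_one, hn]
      exact pow_dvd_pow 2 (by omega)
    have e : (X * X) * (X * X) = X ^ 2 ^ 2 := by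
      have : (2 : ℕ) ^ 2 = 4 := by norm_num
      rw [this]
      simp only [pow_succ, pow_zero, one_mul, mul_assoc]
    rw [e, h5]
  have hidx : (zpowers X).index = 2 := by
    rw [Subgroup.index_eq_two_iff]
    refine ⟨x, fun b => ?_⟩
    have hboth : ¬ (b ∈ zpowers X ∧ b * x ∈ zpowers X) := by
      rintro ⟨h1, h2⟩
      apply hx
      have e : x = b⁻¹ * (b * x) := by group
      rw [e]
      exact mul_mem (inv_mem h1) h2
    rcases hXP b with h | h
    · exact Or.inr ⟨h, fun h' => hboth ⟨h, h'⟩⟩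
    · exact Or.inl ⟨h, fun h' => hboth ⟨h', h⟩⟩
  have hcard : Nat.card P = 2 ^ (n + 1) := by
    rw [← (zpowers X).card_mul_index, hidx, Nat.card_zpowers, hn, pow_succ]
  have hi1 : X ^ 2 ^ (n - 1) ≠ 1 := by
    intro h
    rw [← orderOf_dvd_iff_pow_eq_one, hn, Nat.pow_dvd_pow_iff_le_right (by norm_num)] at h
    omega
  have hi2 : X ^ 2 ^ (n - 1) * X ^ 2 ^ (n - 1) = 1 := by
    rw [← pow_add]
    have : 2 ^ (n - 1) + 2 ^ (n - 1) = 2 ^ n := by
      obtain ⟨k, rfl⟩ : ∃ k, n = k + 1 := ⟨n - 1, by omega⟩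
      rw [Nat.add_sub_cancel, pow_succ]
      ring
    rw [this, ← hn, pow_orderOf_eq_one]
  have hui : X ^ 2 ^ (n - 1) = u := by
    rcases Cfg.zp_inv hu1 huu hu (pow_mem (mem_zpowers X) _) hi2 with h | h
    · exact absurd h hi1
    · exact h
  refine ⟨n, h3, hcard, X, x, hn, orderOf_eq_prime (by rw [pow_two]; exact hxx) ?_, ?_⟩
  · rintro rfl
    exact hx (one_mem _)
  · rw [hxX, ← hui, mul_inv_eq_iff_eq_mul, ← pow_succ]
    congr 1
    have : 1 ≤ 2 ^ (n - 1) := Nat.one_le_two_pow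
    omega

namespace QQ

variable {G : Type*} [Group G] {A : Subgroup G} {T : Sylow 2 G} {z r x f s : G}

theorem zx (Q : QQ A T z r x f s) : z * x = x * z := (Q.Tz x Q.hx.1).symm

theorem zs (Q : QQ A T z r x f s) : z * s = s * z := Q.zK s Q.sA

theorem si (Q : QQ A T z r x f s) : s⁻¹ = s * z := by
  rw [← Q.ss]
  have h : s * (s * s) * s = 1 := by
    calc s * (s * s) * s = (s * s) * (s * s) := by group
      _ = 1 := by rw [Q.ss, Q.zz]
  exact (eq_inv_of_mul_eq_one_left h).symm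

/-- `X² = z f⁻¹`. -/
theorem XX (Q : QQ A T z r x f s) : (s * x) * (s * x) = z * f⁻¹ := by
  have h1 : s * x = x * f * s := by
    rw [← Q.sx]
    group
  have h2 : x * f * x = f⁻¹ := by
    have := Q.invx (mem_zpowers f)
    rwa [Q.xi] at this
  calc (s * x) * (s * x) = (x * f * s) * (s * x) := by rw [← h1]
    _ = x * f * (s * s) * x := by group
    _ = x * f * z * x := by rw [Q.ss]
    _ = x * f * (z * x) := by group
    _ = (x * f * x) * z := by rw [Q.zx]; group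
    _ = f⁻¹ * z := by rw [h2]
    _ = z * f⁻¹ := (Q.zK _ (A.inv_mem Q.fA)).symm

/-- `x X x⁻¹ = z X⁻¹`. -/
theorem Xx (Q : QQ A T z r x f s) : x * (s * x) * x⁻¹ = z * (s * x)⁻¹ := by
  rw [mul_inv_rev, Q.si, Q.xi]
  calc x * (s * x) * x = x * s * (x * x) := by group
    _ = x * s * (z * z) := by rw [Q.xx, Q.zz]
    _ = x * (s * z) * z := by group
    _ = x * (z * s) * z := by rw [Q.zs]
    _ = (x * z) * s * z := by group
    _ = (z * x) * s * z := by rw [Q.zx]
    _ = _ := by group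

theorem XF [Finite G] (Q : QQ A T z r x f s) : zpowers ((s * x) * (s * x)) = zpowers f := by
  obtain ⟨e, he, heA, hee⟩ := Q.exE
  apply gen_of T.2 (Q.Ft (mem_zpowers f))
  refine ⟨e * f⁻¹, mul_mem he (inv_mem (mem_zpowers f)), ?_⟩
  rw [Q.XX]
  have h1 : f⁻¹ * e = e * f⁻¹ := CF.Fcomm (inv_mem (mem_zpowers f)) he
  have h2 : f * z = z * f := (Q.zK f Q.fA).symm
  calc z * f⁻¹ = (z * f) * f⁻¹ * f⁻¹ := by group
    _ = (f * z) * f⁻¹ * f⁻¹ := by rw [h2]
    _ = f * (e * e) * f⁻¹ * f⁻¹ := by rw [hee]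
    _ = f * e * (e * f⁻¹) * f⁻¹ := by group
    _ = f * e * (f⁻¹ * e) * f⁻¹ := by rw [h1]
    _ = _ := by group

theorem FX [Finite G] (Q : QQ A T z r x f s) {c : G} (hc : c ∈ zpowers f) : c ∈ zpowers (s * x) := by
  rw [← Q.XF] at hc
  exact zpowers_le.2 (mul_mem (mem_zpowers _) (mem_zpowers _)) hc

theorem zX [Finite G] (Q : QQ A T z r x f s) : z ∈ zpowers (s * x) := Q.FX Q.zF

theorem X4 [Finite G] (Q : QQ A T z r x f s) : ((s * x) * (s * x)) * ((s * x) * (s * x)) ≠ 1 := by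
  intro h
  obtain ⟨e, he, heA, hee⟩ := Q.exE
  rw [← Q.XF] at he
  obtain ⟨k, hk⟩ := he
  have hk' : ((s * x) * (s * x)) ^ k = e := hk
  apply Q.z1
  rw [← hee, ← hk', ← zpow_add, ← two_mul, zpow_mul, zpow_two, h, one_zpow]

/-- Elements of `⟨X⟩` centralize `F`. -/
theorem Xcent (Q : QQ A T z r x f s) {y : G} (hy : y ∈ zpowers (s * x)) : ∀ c ∈ zpowers f, y * c = c * y := by
  intro c hc
  have h1 : (s * x) * c = c * (s * x) := by
    have h2 : (s * x) * c * (s * x)⁻¹ = c := by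
      calc (s * x) * c * (s * x)⁻¹ = s * (x * c * x⁻¹) * s⁻¹ := by group
        _ = c := by rw [Q.invx hc, Q.sinv _ (inv_mem hc), inv_inv]
    rw [mul_inv_eq_iff_eq_mul] at h2
    exact h2
  exact (comm_zpowers h1.symm y hy).symm

theorem zXc (Q : QQ A T z r x f s) : Commute z (s * x) := by
  show z * (s * x) = (s * x) * z
  rw [mul_assoc, ← Q.zx, ← mul_assoc, Q.zs, mul_assoc]

theorem xXx (Q : QQ A T z r x f s) (i : ℤ) : x * (s * x) ^ i * x⁻¹ = (s * x) ^ (-i) * z ^ i := by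
  have h1 : Commute z (s * x)⁻¹ := Commute.inv_right Q.zXc
  rw [← conj_zpow, Q.Xx, h1.mul_zpow, inv_zpow, ← zpow_neg]
  exact (Q.zXc.zpow_zpow i (-i)).eq

theorem conjX [Finite G] (Q : QQ A T z r x f s) {c : G} (hc : c ∈ zpowers (s * x)) : x * c * x⁻¹ ∈ zpowers (s * x) := by
  obtain ⟨i, hi⟩ := hc
  have hi' : (s * x) ^ i = c := hi
  rw [← hi', Q.xXx]
  exact mul_mem (zpow_mem (mem_zpowers _) _) (zpow_mem Q.zX _)

/-- The semidihedral group `Y = ⟨X, x⟩`. -/
def Y [Finite G] (Q : QQ A T z r x f s) : Subgroup G where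
  carrier := {y | y ∈ zpowers (s * x) ∨ y * x ∈ zpowers (s * x)}
  one_mem' := Or.inl (one_mem _)
  mul_mem' := by
    rintro a b (ha | ha) (hb | hb)
    · exact Or.inl (mul_mem ha hb)
    · right
      rw [mul_assoc]
      exact mul_mem ha hb
    · right
      have e : a * b * x = (a * x) * (x * b * x⁻¹) := by
        calc a * b * x = a * (x * x) * b * x := by rw [Q.xx, mul_one]
          _ = (a * x) * (x * b * x) := by group
          _ = _ := by rw [Q.xi]
      rw [e]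
      exact mul_mem ha (Q.conjX hb)
    · left
      have e : a * b = (a * x) * (x * (b * x) * x⁻¹) := by
        calc a * b = a * (x * x) * b * (x * x) := by rw [Q.xx, mul_one, mul_one]
          _ = (a * x) * (x * (b * x) * x) := by group
          _ = _ := by rw [Q.xi]
      rw [e]
      exact mul_mem ha (Q.conjX hb)
  inv_mem' := by
    rintro a (ha | ha)
    · exact Or.inl (inv_mem ha)
    · right
      have e : a⁻¹ * x = x * (a * x)⁻¹ * x⁻¹ := by
        calc a⁻¹ * x = (x * x) * a⁻¹ * x := by rw [Q.xx, one_mul]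
          _ = x * (x * a⁻¹) * x := by group
          _ = x * (x⁻¹ * a⁻¹) * x⁻¹ := by rw [Q.xi]
          _ = _ := by group
      show a⁻¹ * x ∈ zpowers (s * x)
      rw [e]
      exact Q.conjX (inv_mem ha)

theorem memY [Finite G] (Q : QQ A T z r x f s) {y : G} :
    y ∈ Q.Y ↔ y ∈ zpowers (s * x) ∨ y * x ∈ zpowers (s * x) := Iff.rfl

theorem Y_X [Finite G] (Q : QQ A T z r x f s) {y : G} (hy : y ∈ zpowers (s * x)) : y ∈ Q.Y := Or.inl hy

theorem Y_z [Finite G] (Q : QQ A T z r x f s) : z ∈ Q.Y := Q.Y_X Q.zX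

theorem Y_x [Finite G] (Q : QQ A T z r x f s) : x ∈ Q.Y := Or.inr (by rw [Q.xx]; exact one_mem _)

theorem Y_DD [Finite G] (Q : QQ A T z r x f s) {y : G} (hy : DD T z y) : y ∈ Q.Y := by
  have h1 := Q.mem_of hy
  have e : y = x * (x * y) := by rw [← mul_assoc, Q.xx, one_mul]
  rw [e]
  exact mul_mem Q.Y_x (Q.Y_X (Q.FX h1))

/-- Squares of the elements of `Y` outside `⟨X⟩`. -/
theorem Y_sq [Finite G] (Q : QQ A T z r x f s) {y : G} (hy : y * x ∈ zpowers (s * x)) : y * y = 1 ∨ y * y = z := by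
  obtain ⟨i, hi⟩ := hy
  have hi' : (s * x) ^ i = y * x := hi
  have e : y = (s * x) ^ i * x := by rw [hi', mul_assoc, Q.xx, mul_one]
  have h1 : y * y = z ^ i := by
    rw [e]
    calc (s * x) ^ i * x * ((s * x) ^ i * x) = (s * x) ^ i * (x * (s * x) ^ i * x) := by group
      _ = (s * x) ^ i * (x * (s * x) ^ i * x⁻¹) := by rw [Q.xi]
      _ = (s * x) ^ i * ((s * x) ^ (-i) * z ^ i) := by rw [Q.xXx]
      _ = z ^ i := by rw [← mul_assoc, ← zpow_add, add_neg_cancel, zpow_zero, one_mul]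
  rw [h1]
  exact CF.zpowers_z Q.toCF ⟨i, rfl⟩

/-- An element of `Y` with square a conjugate of `z` has square `z`. -/
theorem Y_sq' [Finite G] (Q : QQ A T z r x f s) {y : G} (hy : y ∈ Q.Y) (hyy : IsConj z (y * y)) : y * y = z := by
  rcases hy with h | h
  · have h1 := Q.sq hyy
    rcases Cfg.zp_inv Q.z1 Q.zz Q.zX (mul_mem h h) h1 with h2 | h2
    · exact absurd h2 (Q.ne1 hyy)
    · exact h2
  · rcases Q.Y_sq h with h1 | h1
    · exact absurd h1 (Q.ne1 hyy)
    · exact h1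

theorem rY [Finite G] (Q : QQ A T z r x f s) : r ∉ Q.Y := by
  have hxr := Q.dd_inv Q.hx
  rintro (h | h)
  · have h1 : r * (s * x) = (s * x) * r := (comm_zpowers rfl r h).symm
    have h2 := Q.rK s Q.sA
    have h3 : x * r = r * x := by
      have h4 : s * (x * r) = s * (r * x) := by
        rw [← mul_assoc, ← h1, ← mul_assoc, h2, mul_assoc]
      exact mul_left_cancel h4
    rw [h3, mul_inv_cancel_right, left_eq_mul] at hxr
    exact Q.z1 hxr
  · obtain ⟨e, he, heA, hee⟩ := Q.exE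
    have h1 := Q.Xcent h e he
    have h2 := Q.Fr he
    have h3 := Q.invx he
    have h4 : x * e = e * x := by
      have h5 : r * (x * e) = r * (e * x) := by
        rw [← mul_assoc, h1, ← mul_assoc, h2, mul_assoc]
      exact mul_left_cancel h5
    rw [h4, mul_inv_cancel_right] at h3
    apply Q.z1
    rw [← hee]
    nth_rewrite 1 [h3]
    rw [inv_mul_cancel]

/-- `T₂ = Y ∪ Y r`. -/
theorem T2_Y [Finite G] (Q : QQ A T z r x f s) {t : G} (ht : t ∈ T2 T f) : ∃ y ∈ Q.Y, t = y ∨ t = y * r := by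
  have hr : ∀ y ∈ Q.Y, ∀ ρ ∈ zpowers r, ∃ y' ∈ Q.Y, y * ρ = y' ∨ y * ρ = y' * r := by
    intro y hy ρ hρ
    rcases Q.rmem hρ with rfl | rfl | rfl | rfl
    · exact ⟨y, hy, Or.inl (mul_one y)⟩
    · exact ⟨y * ρ, mul_mem hy Q.Y_z, Or.inl rfl⟩
    · exact ⟨y, hy, Or.inr rfl⟩
    · exact ⟨y * z, mul_mem hy Q.Y_z, Or.inr (by rw [mul_assoc, Q.rz])⟩
  have key : ∀ t ∈ T, (∀ c ∈ zpowers f, t * c = c * t) → ∃ y ∈ zpowers (s * x), ∃ ρ ∈ zpowers r, t = y * ρ := by
    intro t htT htF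
    obtain ⟨ψ, hψ, h1⟩ := Q.exists_psi Q.hx htT
    rcases CF.par hψ with ⟨χ, hχ, rfl⟩ | ⟨χ, hχ, rfl⟩
    · obtain ⟨φ, hφ, h2⟩ := Q.FR htT htF hχ h1
      exact ⟨φ⁻¹, inv_mem (Q.FX hφ), φ * t, h2, by group⟩
    · have hsxT : s * x ∈ T := (T : Subgroup G).mul_mem Q.sT Q.hx.1
      have h3 : ((s * x) * t) * x * ((s * x) * t)⁻¹ = x * ((f * χ) * (f * χ)) := by
        have hψ' : f * (χ * χ) ∈ zpowers f := hψ
        have h4 : x * (f * (χ * χ)) * x⁻¹ = (f * (χ * χ))⁻¹ := Q.invx hψ'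
        have h5 : χ * f = f * χ := CF.Fcomm hχ (mem_zpowers f)
        calc ((s * x) * t) * x * ((s * x) * t)⁻¹ = s * (x * (t * x * t⁻¹) * x⁻¹) * s⁻¹ := by group
          _ = s * (x * (x * (f * (χ * χ))) * x⁻¹) * s⁻¹ := by rw [h1]
          _ = s * (x * (x * (f * (χ * χ)) * x⁻¹)) * s⁻¹ := by group
          _ = s * (x * (f * (χ * χ))⁻¹) * s⁻¹ := by rw [h4]
          _ = (s * x * s⁻¹) * (s * (f * (χ * χ))⁻¹ * s⁻¹) := by group
          _ = (x * f) * (f * (χ * χ)) := by rw [Q.sx, Q.sinv _ (inv_mem hψ'), inv_inv]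
          _ = x * (f * (f * χ) * χ) := by group
          _ = x * (f * (χ * f) * χ) := by rw [h5]
          _ = _ := by group
      obtain ⟨φ, hφ, h2⟩ := Q.FR ((T : Subgroup G).mul_mem hsxT htT) (by
        intro c hc
        have h4 := Q.Xcent (mem_zpowers (s * x)) c hc
        rw [mul_assoc, htF c hc, ← mul_assoc, h4, mul_assoc]) (mul_mem (mem_zpowers f) hχ) h3
      exact ⟨(φ * (s * x))⁻¹, inv_mem (mul_mem (Q.FX hφ) (mem_zpowers _)), φ * (s * x * t), h2, by group⟩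
  rcases ht.2 with h | h
  · obtain ⟨y, hy, ρ, hρ, h1⟩ := key t ht.1 (by
      intro c hc
      have := h c hc
      rw [mul_inv_eq_iff_eq_mul] at this
      exact this)
    obtain ⟨y', hy', h2⟩ := hr y (Q.Y_X hy) ρ hρ
    rw [h1]
    exact ⟨y', hy', h2⟩
  · obtain ⟨y, hy, ρ, hρ, h1⟩ := key (t * x) ((T : Subgroup G).mul_mem ht.1 Q.hx.1) (by
      intro c hc
      have h3 : (t * x) * c * (t * x)⁻¹ = c := by
        calc (t * x) * c * (t * x)⁻¹ = t * (x * c * x⁻¹) * t⁻¹ := by group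
          _ = c := by rw [Q.invx hc, h _ (inv_mem hc), inv_inv]
      rw [mul_inv_eq_iff_eq_mul] at h3
      exact h3)
    have hρx : x * ρ * x⁻¹ ∈ zpowers r := by
      have h3 := Q.dd_inv Q.hx
      obtain ⟨i, hi⟩ := hρ
      have hi' : r ^ i = ρ := hi
      rw [← hi', ← conj_zpow, h3]
      exact zpow_mem (mul_mem (mem_zpowers r) Q.zr) i
    obtain ⟨y', hy', h2⟩ := hr (y * x) (mul_mem (Q.Y_X hy) Q.Y_x) _ hρx
    have e : t = (y * x) * (x * ρ * x⁻¹) := by
      calc t = (t * x) * x := by rw [mul_assoc, Q.xx, mul_one]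
        _ = y * ρ * x := by rw [h1]
        _ = y * (x * x) * ρ * x := by rw [Q.xx, mul_one]
        _ = (y * x) * (x * ρ * x) := by group
        _ = _ := by rw [Q.xi]
    rw [e]
    exact ⟨y', hy', h2⟩

end QQ

end Cfsg.Agent.H297
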