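import Mathlib
import Cfsg.Agent.H297.CfgL

/-!
# The configuration: the Sylow 2-subgroups of the simple normal subgroup
-/

set_option autoImplicit false

namespace Cfsg.Agent.H297

open Subgroup Cfsg

namespace QQ

variable {G : Type*} [Group G] {A : Subgroup G} {T : Sylow 2 G} {z r x f s : G}

theorem Y_T [Finite G] (Q : QQ A T z r x f s) {y : G} (hy : y ∈ Q.Y) : y ∈ T := by
  have h1 : zpowers (s * x) ≤ (T : Subgroup G) := zpowers_le.2 ((T : Subgroup G).mul_mem Q.sT Q.hx.1)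
  rcases hy with h | h
  · exact h1 h
  · have e : y = (y * x) * x⁻¹ := by group
    rw [e]
    exact (T : Subgroup G).mul_mem (h1 h) ((T : Subgroup G).inv_mem Q.hx.1)

theorem Y_L [Finite G] (Q : QQ A T z r x f s) {L : Subgroup G} (hL : L.Normal) (hAL : A ≤ L) {y : G} (hy : y ∈ Q.Y) :
    y ∈ L := by
  have hx : x ∈ L := by
    obtain ⟨g, hg⟩ := isConj_iff.1 Q.hx.2.1
    rw [← hg]
    exact hL.conj_mem z (hAL Q.zA) g
  have h1 : zpowers (s * x) ≤ L := zpowers_le.2 (L.mul_mem (hAL Q.sA) hx)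
  rcases hy with h | h
  · exact h1 h
  · have e : y = (y * x) * x⁻¹ := by group
    rw [e]
    exact L.mul_mem (h1 h) (L.inv_mem hx)

/-- The Sylow 2-subgroups of `L` are semidihedral. -/
theorem sylL [Finite G] (Q : QQ A T z r x f s) {L : Subgroup G} (hL : L.Normal) (hLp : commutator ↥L = ⊤)
    (hAL : A ≤ L) : ∃ P : Sylow 2 ↥L, Cfsg.IsQuasiDihedral ↥(P : Subgroup ↥L) := by
  have hp : Fact (Nat.Prime 2) := ⟨Nat.prime_two⟩
  have hTL : (T : Subgroup G) ≤ normalizer (L : Set G) := by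
    rw [normalizer_eq_top]
    exact le_top
  obtain ⟨P, hP⟩ := Tools.exists_syl T hTL
  have hLT2 : ∀ t, t ∈ T → t ∈ L → t ∈ T2 T f := by
    intro t htT htL
    apply Q.focal htT
    have h1 : (⟨t, htL⟩ : ↥L) ∈ commutator ↥L := by rw [hLp]; exact mem_top _
    have h2 : t ∈ (commutator ↥L).map L.subtype := ⟨⟨t, htL⟩, h1, rfl⟩
    rw [map_subtype_commutator] at h2
    exact commutator_mono le_top le_top h2
  -- `r` is not in `L`
  have hrL : r ∉ L := by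
    intro hrL
    have hMP : Q.Y.subgroupOf L ≤ (P : Subgroup ↥L) := fun m hm => (hP m).2 (Q.Y_T hm)
    have htP : (⟨r, hrL⟩ : ↥L) ∈ (P : Subgroup ↥L) := (hP _).2 Q.rT
    refine Tools.transfer_false hLp P (Q.Y.subgroupOf L) hMP ?_ ⟨r, hrL⟩ htP ?_ ?_
    · show ((Q.Y.subgroupOf L).subgroupOf (P : Subgroup ↥L)).index = 2
      rw [index_eq_two_iff]
      refine ⟨⟨⟨r, hrL⟩, htP⟩, fun b => ?_⟩
      have hb1 : (b * ⟨⟨r, hrL⟩, htP⟩ ∈ (Q.Y.subgroupOf L).subgroupOf (P : Subgroup ↥L)) ↔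
          ((b : ↥L) : G) * r ∈ Q.Y := Iff.rfl
      have hb2 : (b ∈ (Q.Y.subgroupOf L).subgroupOf (P : Subgroup ↥L)) ↔ ((b : ↥L) : G) ∈ Q.Y := Iff.rfl
      rw [hb1, hb2]
      by_cases h : ((b : ↥L) : G) ∈ Q.Y
      · right
        refine ⟨h, fun h' => Q.rY ?_⟩
        have h2 := mul_mem (inv_mem h) h'
        rw [inv_mul_cancel_left] at h2
        exact h2
      · left
        refine ⟨?_, h⟩
        obtain ⟨y, hy, h1⟩ := Q.T2_Y (hLT2 _ ((hP b).1 b.2) (b : ↥L).2)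
        rcases h1 with h1 | h1
        · rw [h1] at h; exact absurd hy h
        · rw [h1, mul_assoc, Q.rr]
          exact mul_mem hy Q.Y_z
    · intro g hgP hgM
      obtain ⟨y, hyd⟩ : ∃ y, y = (g : G) * r * (g : G)⁻¹ := ⟨_, rfl⟩
      have hyY : y ∈ Q.Y := by rw [hyd]; exact hgM
      have hyy : y * y = (g : G) * z * (g : G)⁻¹ := by
        rw [hyd, ← Q.rr]; group
      have h1 := Q.Y_sq' hyY (by rw [hyy]; exact Cfg.conj_mk _ (IsConj.refl z))
      have h2 : (g : G) * z = z * (g : G) := by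
        rw [hyy, mul_inv_eq_iff_eq_mul] at h1
        exact h1
      have h3 := Cfg.nK (Q.CN _ h2) Q.rK
      rw [← hyd] at h3
      rcases Q.rmem (Q.R4 (Q.Y_T hyY) h3) with h4 | h4 | h4 | h4
      · rw [h4, mul_one] at h1; exact Q.z1 h1.symm
      · rw [h4, Q.zz] at h1; exact Q.z1 h1.symm
      · rw [h4] at hyY; exact Q.rY hyY
      · apply Q.rY
        have h5 := mul_mem hyY Q.Y_z
        rw [h4, mul_assoc, Q.zz, mul_one] at h5
        exact h5
    · intro g k hgP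
      show (g : G) * r ^ (2 * k) * (g : G)⁻¹ ∈ Q.Y
      have h0 : (g : G) * r ^ (2 * k) * (g : G)⁻¹ ∈ T := (hP _).1 hgP
      have h1 : r ^ (2 * k) = 1 ∨ r ^ (2 * k) = z := by
        have h2 : r ^ (2 * k) = z ^ (k : ℤ) := by rw [pow_mul, pow_two, Q.rr, zpow_natCast]
        rw [h2]
        exact CF.zpowers_z Q.toCF ⟨k, rfl⟩
      rcases h1 with h1 | h1
      · rw [h1, mul_one, mul_inv_cancel]
        exact one_mem _
      · rw [h1] at h0 ⊢
        by_cases h2 : (g : G) * z * (g : G)⁻¹ = z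
        · rw [h2]; exact Q.Y_z
        · exact Q.Y_DD ⟨h0, Cfg.conj_mk _ (IsConj.refl z), h2⟩
  -- so the Sylow 2-subgroup of `L` is `Y`
  have hPY : ∀ p : ↥(P : Subgroup ↥L), ((p : ↥L) : G) ∈ Q.Y := by
    intro p
    obtain ⟨y, hy, h1⟩ := Q.T2_Y (hLT2 _ ((hP p).1 p.2) (p : ↥L).2)
    rcases h1 with h1 | h1
    · rw [h1]; exact hy
    · exfalso
      apply hrL
      have e : r = y⁻¹ * ((p : ↥L) : G) := by rw [h1]; group
      rw [e]
      exact L.mul_mem (L.inv_mem (Q.Y_L hL hAL hy)) (p : ↥L).2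
  have lift : ∀ y, (hy : y ∈ Q.Y) → ∃ p : ↥(P : Subgroup ↥L), ((p : ↥L) : G) = y := fun y hy =>
    ⟨⟨⟨y, Q.Y_L hL hAL hy⟩, (hP _).2 (Q.Y_T hy)⟩, rfl⟩
  obtain ⟨X', hX'⟩ := lift (s * x) (Q.Y_X (mem_zpowers _))
  obtain ⟨x', hx'⟩ := lift x Q.Y_x
  obtain ⟨z', hz'⟩ := lift z Q.Y_z
  have inj : ∀ p q : ↥(P : Subgroup ↥L), ((p : ↥L) : G) = ((q : ↥L) : G) → p = q := fun p q h =>
    Subtype.ext (Subtype.ext h)
  have hmem : ∀ p : ↥(P : Subgroup ↥L), p ∈ zpowers X' ↔ ((p : ↥L) : G) ∈ zpowers (s * x) := by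
    intro p
    constructor
    · rintro ⟨i, hi⟩
      have hi' : X' ^ i = p := hi
      refine ⟨i, ?_⟩
      show (s * x) ^ i = _
      rw [← hi', ← hX']
      rfl
    · rintro ⟨i, hi⟩
      have hi' : (s * x) ^ i = ((p : ↥L) : G) := hi
      refine ⟨i, ?_⟩
      apply inj
      show (((X' : ↥L) : G)) ^ i = _
      rw [hX', hi']
  refine ⟨P, qd_of P.2 (X := X') (x := x') (u := z') ?_ ?_ ?_ ?_ ?_ ?_ ?_ ?_⟩
  · intro p
    rcases hPY p with h | h
    · exact Or.inl ((hmem p).2 h)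
    · right
      apply (hmem _).2
      show ((p : ↥L) : G) * ((x' : ↥L) : G) ∈ _
      rw [hx']
      exact h
  · intro h
    have h1 := (hmem _).1 h
    rw [hx'] at h1
    obtain ⟨e, he, heA, hee⟩ := Q.exE
    have h2 := Q.Xcent h1 e he
    have h3 := Q.invx he
    rw [h2, mul_inv_cancel_right] at h3
    apply Q.z1
    rw [← hee]
    nth_rewrite 1 [h3]
    rw [inv_mul_cancel]
  · apply inj
    show ((x' : ↥L) : G) * ((x' : ↥L) : G) = 1
    rw [hx', Q.xx]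
  · rw [hmem, hz']
    exact Q.zX
  · intro h
    apply Q.z1
    rw [← hz', h]
    rfl
  · apply inj
    show ((z' : ↥L) : G) * ((z' : ↥L) : G) = 1
    rw [hz', Q.zz]
  · apply inj
    show ((x' : ↥L) : G) * ((X' : ↥L) : G) * (((x' : ↥L) : G))⁻¹ = ((z' : ↥L) : G) * (((X' : ↥L) : G))⁻¹
    rw [hx', hX', hz']
    exact Q.Xx
  · intro h
    apply Q.X4
    have h1 := congrArg (fun q : ↥(P : Subgroup ↥L) => ((q : ↥L) : G)) h
    have h2 : (((X' : ↥L) : G) * ((X' : ↥L) : G)) * (((X' : ↥L) : G) * ((X' : ↥L) : G)) = 1 := h1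
    rw [hX'] at h2
    exact h2

end QQ

end Cfsg.Agent.H297
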