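import Mathlib
import Cfsg.Agent.H297.FHyp
import Cfsg.Agent.H297.Tools

/-!
# Strongly closed subgroups of a simple group contain the centre of the Sylow subgroup
-/

set_option autoImplicit false

namespace Cfsg.Agent.H297.Foote

open Subgroup Cfsg

theorem foote_simple {G : Type*} (hS : HStr G) : FHyp G := by
  intro Q _ _ hQ P B hB hB1 w hw hwc
  have hp : Fact (Nat.Prime 2) := ⟨Nat.prime_two⟩
  by_cases hBP : B = (P : Subgroup Q)
  · rw [hBP]; exact hw
  have heven : Even B.index := by
    have h1 : B.relIndex (P : Subgroup Q) * (P : Subgroup Q).index = B.index := relIndex_mul_index hB.1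
    rw [← h1]
    apply Even.mul_right
    have h2 : B.relIndex (P : Subgroup Q) ∣ Nat.card ↥(P : Subgroup Q) := index_dvd_card _
    obtain ⟨n, hn⟩ := P.2.exists_card_eq
    rw [hn] at h2
    obtain ⟨k, -, hk⟩ := (Nat.dvd_prime_pow Nat.prime_two).1 h2
    rw [hk]
    rcases k with _ | k
    · exfalso
      rw [pow_zero, relIndex_eq_one] at hk
      exact hBP (le_antisymm hB.1 hk)
    · exact ⟨2 ^ k, by ring⟩
  have hnc : normalClosure (B : Set Q) = ⊤ := by
    rcases hQ.eq_bot_or_eq_top_of_normal (normalClosure (B : Set Q)) normalClosure_normal with h | h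
    · exfalso
      apply hB1
      rw [eq_bot_iff, ← h]
      exact subset_normalClosure
    · exact h
  obtain ⟨n, L, hL1, hL3, hL4, hL5⟩ := hS Q P B hB
    (by rw [hnc, relIndex_top_right]; exact heven)
    (by
      intro N hN hN1
      rcases hQ.eq_bot_or_eq_top_of_normal N hN with h | h
      · exact absurd h hN1
      · rw [h, relIndex_top_right, inf_top_eq]
        exact heven)
  rw [hnc] at hL3
  have hn : Nonempty (Fin n) := by
    by_contra hcon
    rw [not_nonempty_iff] at hcon
    rw [iSup_of_empty] at hL3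
    obtain ⟨a, b, hab⟩ := hQ.exists_pair_ne
    have h1 : ∀ c : Q, c = 1 := fun c => by
      have : c ∈ (⊤ : Subgroup Q) := mem_top c
      rwa [← hL3, mem_bot] at this
    exact hab (by rw [h1 a, h1 b])
  obtain ⟨i⟩ := hn
  have hLi : L i = ⊤ := by
    have hLn : (L i).Normal := by
      rw [← normalizer_eq_top_iff, eq_top_iff, ← hL3, iSup_le_iff]
      intro j
      by_cases hij : i = j
      · rw [hij]; exact le_normalizer
      · intro b hb
        rw [mem_normalizer_iff]
        intro a
        constructor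
        · intro ha
          rw [← hL1 i j hij a ha b hb, mul_inv_cancel_right]
          exact ha
        · intro ha
          have h1 := hL1 i j hij _ ha b hb
          have h2 : b * a = b * (b * a * b⁻¹) := by rw [← h1]; group
          rw [mul_left_cancel h2]
          exact ha
    rcases hQ.eq_bot_or_eq_top_of_normal (L i) hLn with h | h
    · exfalso
      have h1 := hL4 i
      obtain ⟨a, b, hab⟩ := h1.exists_pair_ne
      apply hab
      have h2 : ∀ c : ↥(L i), c = 1 := fun c => by
        have h3 : (c : Q) ∈ (⊥ : Subgroup Q) := by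
          have h4 : L i ≤ ⊥ := h.le
          exact h4 c.2
        exact Subtype.ext (mem_bot.1 h3)
      rw [h2 a, h2 b]
    · exact h
  obtain ⟨P', hP'⟩ := hL5 i
  have hBL : B ⊓ L i = B := inf_eq_left.2 (by rw [hLi]; exact le_top)
  rw [hBL] at hP'
  have hmem : ∀ q : Q, q ∈ L i := fun q => by rw [hLi]; exact mem_top q
  -- conjugating `P'` to `P`
  obtain ⟨k, -, hk⟩ := Tools.syl_conj P (le_top : (P : Subgroup Q) ≤ ⊤) (P'.2.map (L i).subtype) le_top
  have hchar : ∀ p : Q, (⟨p, hmem p⟩ : ↥(L i)) ∈ (P' : Subgroup ↥(L i)) ↔ k * p * k⁻¹ ∈ (P : Subgroup Q) := by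
    have h1 : IsPGroup 2 ↥(((P : Subgroup Q).comap (MulAut.conj k).toMonoidHom).subgroupOf (L i)) := by
      apply IsPGroup.comap_of_injective
      · exact P.2.comap_of_injective _ (MulAut.conj k).injective
      · exact (L i).subtype_injective
    have h2 : (P' : Subgroup ↥(L i)) ≤ ((P : Subgroup Q).comap (MulAut.conj k).toMonoidHom).subgroupOf (L i) := by
      intro p hp'
      rw [mem_subgroupOf, mem_comap]
      exact hk _ ⟨p, hp', rfl⟩
    have h3 := P'.is_maximal' h1 h2
    intro p
    rw [← h3, mem_subgroupOf, mem_comap]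
    rfl
  have hw' : k⁻¹ * w * k ∈ B := by
    have h1 : (⟨k⁻¹ * w * k, hmem _⟩ : ↥(L i)) ∈ (P' : Subgroup ↥(L i)) := by
      rw [hchar]
      have e : k * (k⁻¹ * w * k) * k⁻¹ = w := by group
      rw [e]
      exact hw
    have h2 : k⁻¹ * w * k ∈ ((Subgroup.center (P' : Subgroup ↥(L i))).map (P' : Subgroup ↥(L i)).subtype).map
        (L i).subtype := by
      refine ⟨⟨k⁻¹ * w * k, hmem _⟩, ⟨⟨⟨k⁻¹ * w * k, hmem _⟩, h1⟩, ?_, rfl⟩, rfl⟩
      rw [SetLike.mem_coe, mem_center_iff]
      rintro ⟨⟨p, hp1⟩, hp2⟩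
      apply Subtype.ext
      apply Subtype.ext
      show p * (k⁻¹ * w * k) = k⁻¹ * w * k * p
      have h3 := hwc _ ((hchar p).1 hp2)
      calc p * (k⁻¹ * w * k) = k⁻¹ * ((k * p * k⁻¹) * w) * k := by group
        _ = k⁻¹ * (w * (k * p * k⁻¹)) * k := by rw [h3]
        _ = _ := by group
    rw [hP']
    exact h2
  have h1 := hB.2 _ hw' k (by
    have e : k * (k⁻¹ * w * k) * k⁻¹ = w := by group
    rw [e]
    exact hw)
  have e : k * (k⁻¹ * w * k) * k⁻¹ = w := by group
  rwa [e] at h1

end Cfsg.Agent.H297.Foote
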