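import Mathlib
import Cfsg.Prelude.Def_Sporadic
import Cfsg.Agent.S1347
import Cfsg.Agent.S0507
import Cfsg.Agent.BpAlt.Row
import Cfsg.Agent.SporadicA.M11Facts
import Cfsg.Agent.TwoFusion.PSL3Inv
import Cfsg.Agent.H297.CfgM

/-!
# The end of the proof of the theorem on standard subgroups with cyclic Sylow 2-subgroups of the centralizer
-/

set_option autoImplicit false

namespace Cfsg.Agent.H297

open Subgroup Cfsg

open scoped commutatorElement

/-- An involution centralizer of `PSL(3,3)` has at most 48 elements. -/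
theorem card_cent_psl {F : Type*} [Field F] [Fintype F] (hF : Fintype.card F = 3)
    (t : Matrix.ProjectiveSpecialLinearGroup (Fin 3) F) (ht : orderOf t = 2) :
    Nat.card ↥(centralizer ({t} : Set (Matrix.ProjectiveSpecialLinearGroup (Fin 3) F))) ≤ 48 := by
  classical
  have h2 : (2 : F) ≠ 0 := by
    intro h
    have h3 : (3 : F) = 0 := by
      have := Nat.cast_card_eq_zero F
      rw [hF] at this
      exact_mod_cast this
    apply one_ne_zero (α := F)
    calc (1 : F) = 3 - 2 := by norm_num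
      _ = 0 := by rw [h3, h, sub_zero]
  obtain ⟨T, P, hTt, hTT, -, hTP⟩ := Cfsg.Agent.TwoFusion.PSL3Inv.exists_conj_mk h2 t ht
  have h1 := Cfsg.Agent.TwoFusion.PSL3Inv.range_phi h2 hTT hTP
  rw [hTt] at h1
  rw [← h1]
  have h3 : Nat.card ↥(Cfsg.Agent.TwoFusion.PSL3Inv.phi P).range ≤ Nat.card (GL (Fin 2) F) :=
    Nat.card_le_card_of_surjective _ (MonoidHom.rangeRestrict_surjective _)
  refine h3.trans ?_
  rw [Matrix.card_GL_field, hF]
  simp [Fin.prod_univ_succ]

namespace QQ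

variable {G : Type*} [Group G] {A : Subgroup G} {T : Sylow 2 G} {z r x f s : G}

theorem rank [Finite G] (Q : QQ A T z r x f s) : Cfsg.PRankLE 2 1 ↥A := by
  intro B _ hB
  have key : ∀ b ∈ B, (b : ↥A) = 1 ∨ b = ⟨z, Q.zA⟩ := by
    intro b hb
    have h1 : ((b : ↥A) : G) * ((b : ↥A) : G) = 1 := by
      have h2 := congrArg Subtype.val (hB b hb)
      rw [pow_two] at h2
      exact h2
    obtain ⟨a, ha, haU⟩ := Q.into_TA (zpow_two_of_sq h1) (by
      rw [zpowers_le]
      exact ⟨1, (T : Subgroup G).one_mem, b, b.2, by group⟩)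
    have h3 := haU _ (mem_zpowers _)
    have h4 : a * (b : G) * a⁻¹ * (a * (b : G) * a⁻¹) = 1 := by
      calc a * (b : G) * a⁻¹ * (a * (b : G) * a⁻¹) = a * ((b : G) * (b : G)) * a⁻¹ := by group
        _ = 1 := by rw [h1]; group
    rcases Q.one _ h3 (A.mul_mem (A.mul_mem ha b.2) (A.inv_mem ha)) h4 with h5 | h5
    · left
      apply Subtype.ext
      rw [mul_inv_eq_one, mul_eq_left] at h5
      exact h5
    · right
      apply Subtype.ext
      rw [mul_inv_eq_iff_eq_mul, Q.zK a ha] at h5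
      exact mul_left_cancel h5
  rw [pow_one]
  have h1 : (B : Set ↥A) ⊆ {1, ⟨z, Q.zA⟩} := by
    intro b hb
    rcases key b hb with h | h
    · left; exact h
    · right; exact h
  calc Nat.card ↥B = (B : Set ↥A).ncard := rfl
    _ ≤ ({1, ⟨z, Q.zA⟩} : Set ↥A).ncard := Set.ncard_le_ncard h1 (Set.toFinite _)
    _ ≤ 2 := (Set.ncard_insert_le _ _).trans (by rw [Set.ncard_singleton])

/-- A group in which `A` is embedded has at least 60 elements. -/
theorem card_A [Finite G] (Q : QQ A T z r x f s) : 60 ≤ Nat.card ↥A := by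
  by_contra hlt
  push Not at hlt
  have h1 : Group.IsPerfect ↥A := Q.qs.1
  have h2 : Nontrivial ↥A := by
    refine ⟨⟨z, Q.zA⟩, 1, fun h => Q.z1 ?_⟩
    exact congrArg Subtype.val h
  exact Group.IsPerfect.not_isSolvable ↥A (Cfsg.Agent.BpAlt.solvable_of_lt _ ↥A rfl hlt)

/-- The conclusion. -/
theorem final [Finite G] (Q : QQ A T z r x f s) {L : Subgroup G} (hL : L.Normal) (hLs : IsSimpleGroup ↥L)
    (hLn : ¬ IsMulCommutative ↥L) (hAL : A ≤ L) :
    (∃ (F : Type) (_ : Field F) (_ : Fintype F), Fintype.card F % 4 = 3 ∧ Fintype.card F ≠ 3 ∧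
        Nonempty (↥L ≃* Matrix.ProjectiveSpecialLinearGroup (Fin 3) F)) ∨
      (∃ (F : Type) (_ : Field F) (_ : Fintype F) (q : ℕ), q % 4 = 1 ∧ Fintype.card F = q ^ 2 ∧
        Nonempty (↥L ≃* Cfsg.PSU 3 F q)) := by
  have hLp : commutator ↥L = ⊤ := by
    rcases (inferInstance : (commutator ↥L).Normal).eq_bot_or_eq_top with h | h
    · exfalso
      apply hLn
      refine ⟨⟨fun a b => ?_⟩⟩
      have h1 : ⁅a, b⁆ ∈ commutator ↥L := commutator_mem_commutator (mem_top a) (mem_top b)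
      rw [h, mem_bot, commutatorElement_eq_one_iff_mul_comm] at h1
      exact h1
    · exact h
  have hzL : z ∈ L := hAL Q.zA
  have hz2 : orderOf (⟨z, hzL⟩ : ↥L) = 2 := by
    apply orderOf_eq_prime
    · rw [pow_two]
      exact Subtype.ext Q.zz
    · intro h
      exact Q.z1 (congrArg Subtype.val h)
  -- `A` embeds in the centralizer
  have hcard : 60 ≤ Nat.card ↥(centralizer ({(⟨z, hzL⟩ : ↥L)} : Set ↥L)) := by
    refine Q.card_A.trans ?_
    apply Nat.card_le_card_of_injective (fun a : ↥A => (⟨⟨a, hAL a.2⟩, by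
      rw [mem_centralizer_singleton_iff]
      exact Subtype.ext (Q.zK a a.2).symm⟩ : ↥(centralizer ({(⟨z, hzL⟩ : ↥L)} : Set ↥L))))
    intro a b hab
    have h1 := congrArg (fun q : ↥(centralizer ({(⟨z, hzL⟩ : ↥L)} : Set ↥L)) => ((q : ↥L) : G)) hab
    exact Subtype.ext h1
  obtain ⟨P, hP⟩ := Q.sylL hL hLp hAL
  rcases Cfsg.Agent.S0507.result P hP with h | h | h
  · left
    obtain ⟨F, i1, i2, hF, ⟨e⟩⟩ := h
    refine ⟨F, i1, i2, hF, ?_, ⟨e⟩⟩
    intro h3
    have h4 := card_cent_psl h3 (e ⟨z, hzL⟩) (by rw [MulEquiv.orderOf_eq]; exact hz2)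
    have h5 : Nat.card ↥(centralizer ({(⟨z, hzL⟩ : ↥L)} : Set ↥L)) ≤
        Nat.card ↥(centralizer ({e ⟨z, hzL⟩} : Set (Matrix.ProjectiveSpecialLinearGroup (Fin 3) F))) := by
      have hfin : Finite (Matrix.ProjectiveSpecialLinearGroup (Fin 3) F) := Finite.of_equiv _ e.toEquiv
      apply Nat.card_le_card_of_injective
        (fun a : ↥(centralizer ({(⟨z, hzL⟩ : ↥L)} : Set ↥L)) => (⟨e a, by
          rw [mem_centralizer_singleton_iff, ← map_mul, ← map_mul, mem_centralizer_singleton_iff.1 a.2]⟩ :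
            ↥(centralizer ({e ⟨z, hzL⟩} : Set (Matrix.ProjectiveSpecialLinearGroup (Fin 3) F)))))
      intro a b hab
      have h1 := congrArg Subtype.val hab
      exact Subtype.ext (e.injective h1)
    omega
  · right
    obtain ⟨F, i1, i2, q, h1, h2, h3⟩ := h
    exact ⟨F, i1, i2, q, h2, h1, h3⟩
  · exfalso
    have h1 := Cfsg.Agent.SporadicA.M11Facts.card_centralizer_two h hz2
    omega

end QQ

end Cfsg.Agent.H297
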