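import Mathlib
import Cfsg.Agent.OddOrderLocal.PLengthOne
import Cfsg.Agent.H297.SevenB

/-!
# An involution `t` with `C(t) ≅ Z₂ × S₇`: the end of the proof

`Std7 G` is the used part of the classification of the groups with a standard subgroup of type `A₇`.
-/

set_option autoImplicit false

namespace Cfsg.Agent.H297.Seven

open Subgroup Cfsg Equiv

/-- The used part of the theorem on standard subgroups of type `A₇`. -/
def Std7 (G : Type*) [Group G] : Prop :=
  ∀ A : Subgroup G, IsStandardSubgroup A → Odd (Nat.card ↥(center ↥A)) →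
    Nonempty ((↥A ⧸ center ↥A) ≃* ↥(alternatingGroup (Fin 7))) →
    A.Normal ∨ Nonempty (↥(normalClosure (A : Set G)) ≃* ↥(alternatingGroup (Fin 11))) ∨
      Nonempty (↥(normalClosure (A : Set G)) ≃* ↥(alternatingGroup (Fin 7)) × ↥(alternatingGroup (Fin 7))) ∨
      Nonempty (G ≃* Perm (Fin 9)) ∨ Nat.card ↥(center ↥A) = 3

theorem core {G : Type*} [Group G] [Finite G] (hO : oddCore G = ⊥) (h7 : Std7 G) {t : G} (ht : orderOf t = 2)
    (e : ↥(centralizer ({t} : Set G)) ≃* Multiplicative (ZMod 2) × Perm (Fin 7)) :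
    ∃ H : Subgroup G, H.index = 2 := by
  obtain ⟨φ, D⟩ := exists_dat ht e
  obtain ⟨eA, heA⟩ := D.exists_equiv
  have hst := D.standard
  have hAt : t ∈ centralizer (Dat.A φ : Set G) :=
    mem_centralizer_iff.2 fun a ha => mem_centralizer_singleton_iff.1 (D.A_le ha)
  have hZ : center ↥(Dat.A φ) = ⊥ := by
    rw [eq_bot_iff]
    intro a ha
    obtain ⟨x, rfl⟩ := eA.surjective a
    have h1 : (x : Perm (Fin 7)) = 1 := by
      apply seven_cent
      intro y
      apply D.inj
      have h2 := congrArg Subtype.val (mem_center_iff.1 ha (eA y))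
      have h3 : φ y * φ x = φ x * φ y := by
        rw [← heA, ← heA]
        exact h2
      rw [map_mul, map_mul, map_inv, ← h3, mul_inv_cancel_right]
    have h2 : x = 1 := Subtype.ext h1
    rw [h2, map_one, mem_bot]
  have hZc : Nat.card ↥(center ↥(Dat.A φ)) = 1 := by rw [hZ, card_bot]
  have hcard : Nat.card ↥(centralizer ({t} : Set G)) = 10080 := by
    rw [Nat.card_congr e.toEquiv, Nat.card_prod, Nat.card_eq_fintype_card, Nat.card_eq_fintype_card,
      Fintype.card_perm, Fintype.card_fin]
    have h2 : Fintype.card (Multiplicative (ZMod 2)) = 2 := rfl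
    rw [h2]
    rfl
  have hq : Nonempty ((↥(Dat.A φ) ⧸ center ↥(Dat.A φ)) ≃* ↥(alternatingGroup (Fin 7))) :=
    ⟨((QuotientGroup.quotientMulEquivOfEq hZ).trans QuotientGroup.quotientBot).trans eA.symm⟩
  rcases h7 _ hst (by rw [hZc]; exact odd_one) hq with h | ⟨⟨h⟩⟩ | ⟨⟨h⟩⟩ | ⟨⟨h⟩⟩ | h
  · exact D.of_normal hO e h
  · exact absurd (D.no_eleven hO hcard normalClosure_normal subset_normalClosure h) not_false
  · rcases Cfsg.Agent.S1347.result (Dat.A φ) hst hO t ht hAt with h1 | ⟨X, hX, hXn, -, hc, hi, hs, -⟩ | ⟨hAL, hLs, -⟩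
    · exact D.of_normal hO e h1
    · have hLN : (layer G).Normal := Cfsg.Agent.SignalizersComponents.Components.layer_normal G
      exact Dat.of_swap hX hXn hc hi (by rw [hs]; exact hLN)
    · exfalso
      have hLN : (layer G).Normal := Cfsg.Agent.SignalizersComponents.Components.layer_normal G
      have hcl : normalClosure (Dat.A φ : Set G) = layer G := by
        apply le_antisymm (normalClosure_le_normal hAL)
        have h1 : ((normalClosure (Dat.A φ : Set G)).subgroupOf (layer G)).Normal := normal_subgroupOf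
        rcases hLs.eq_bot_or_eq_top_of_normal _ h1 with h2 | h2
        · exfalso
          let a : alternatingGroup (Fin 7) := ⟨swap 0 1 * swap 2 3, by rw [Equiv.Perm.mem_alternatingGroup]; decide⟩
          have haA : φ a ∈ Dat.A φ := ⟨a, a.2, rfl⟩
          have h4 : (⟨φ a, hAL haA⟩ : ↥(layer G)) ∈ (normalClosure (Dat.A φ : Set G)).subgroupOf (layer G) :=
            mem_subgroupOf.2 (subset_normalClosure haA)
          rw [h2, mem_bot] at h4
          have h5 : φ a = φ 1 := by rw [map_one]; exact congrArg Subtype.val h4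
          exact absurd (D.inj _ _ h5) (by decide)
        · exact subgroupOf_eq_top.1 h2
      rw [← hcl] at hLs
      have hnt : Nontrivial ↥(alternatingGroup (Fin 7)) := alternatingGroup.nontrivial_of_three_le_card (by simp)
      exact Dat.not_simple_prod hLs h
  · apply index_of_hom (Perm.sign.comp h.toMonoidHom) (g := h.symm (swap 0 1))
    show Perm.sign (h (h.symm (swap 0 1))) ≠ 1
    rw [h.apply_symm_apply]
    decide
  · rw [hZc] at h
    exact absurd h (by norm_num)

theorem main {G : Type*} [Group G] [Finite G] (h7 : oddCore (G ⧸ oddCore G) = ⊥ → Std7 (G ⧸ oddCore G)) {t : G}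
    (ht : orderOf t = 2)
    (e : ↥(centralizer ({t} : Set G)) ≃* Multiplicative (ZMod 2) × Perm (Fin 7)) :
    ∃ H : Subgroup G, H.index = 2 := by
  obtain ⟨φ, D⟩ := exists_dat ht e
  have hodd : Odd (Nat.card ↥(pPrimeCore 2 G)) := Nat.coprime_two_right.1 (Lib.Cores.pPrimeCore_coprime 2)
  obtain ⟨e', -⟩ := Cfsg.Agent.CpAut.TwoAbs.cent_equiv (O := pPrimeCore 2 G) hodd D.tt
    fun o ho hot => D.odd_comm (pPrimeCore_normal 2 G) hodd ho hot
  have hbar := Cfsg.Agent.OddOrderLocal.PLengthOne.pPrimeCore_quotient_pPrimeCore (G := G) 2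
  have ht' : orderOf (QuotientGroup.mk t : G ⧸ pPrimeCore 2 G) = 2 := by
    apply orderOf_eq_prime
    · rw [pow_two, ← QuotientGroup.mk_mul, D.tt, QuotientGroup.mk_one]
    · intro h
      rw [QuotientGroup.eq_one_iff] at h
      exact D.t1 (D.odd_comm (pPrimeCore_normal 2 G) hodd h rfl)
  obtain ⟨H, hH⟩ := core hbar (h7 hbar) ht' (e'.symm.trans e)
  refine ⟨H.comap (QuotientGroup.mk' _), ?_⟩
  rw [index_comap_of_surjective _ (QuotientGroup.mk'_surjective _), hH]

end Cfsg.Agent.H297.Seven
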